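import Mathlib

/-!
Finite facts for the symmetric case of S3330.
-/

set_option autoImplicit false
set_option maxRecDepth 100000

namespace CfsgLib.SymEightThreeLocal

open Equiv

/-- The involutions of the symmetric group of degree six. -/
def invSix : List (Perm (Fin 6)) :=
  [swap 4 5,
   swap 3 4,
   swap 3 5,
   swap 2 3,
   swap 2 3 * swap 4 5,
   swap 2 4,
   swap 2 4 * swap 3 5,
   swap 2 5,
   swap 2 5 * swap 3 4,
   swap 1 2,
   swap 1 2 * swap 4 5,
   swap 1 2 * swap 3 4,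
   swap 1 2 * swap 3 5,
   swap 1 3,
   swap 1 3 * swap 4 5,
   swap 1 3 * swap 2 4,
   swap 1 3 * swap 2 5,
   swap 1 4,
   swap 1 4 * swap 3 5,
   swap 1 4 * swap 2 3,
   swap 1 4 * swap 2 5,
   swap 1 5,
   swap 1 5 * swap 3 4,
   swap 1 5 * swap 2 3,
   swap 1 5 * swap 2 4,
   swap 0 1,
   swap 0 1 * swap 4 5,
   swap 0 1 * swap 3 4,
   swap 0 1 * swap 3 5,
   swap 0 1 * swap 2 3,
   swap 0 1 * swap 2 3 * swap 4 5,
   swap 0 1 * swap 2 4,
   swap 0 1 * swap 2 4 * swap 3 5,
   swap 0 1 * swap 2 5,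
   swap 0 1 * swap 2 5 * swap 3 4,
   swap 0 2,
   swap 0 2 * swap 4 5,
   swap 0 2 * swap 3 4,
   swap 0 2 * swap 3 5,
   swap 0 2 * swap 1 3,
   swap 0 2 * swap 1 3 * swap 4 5,
   swap 0 2 * swap 1 4,
   swap 0 2 * swap 1 4 * swap 3 5,
   swap 0 2 * swap 1 5,
   swap 0 2 * swap 1 5 * swap 3 4,
   swap 0 3,
   swap 0 3 * swap 4 5,
   swap 0 3 * swap 2 4,
   swap 0 3 * swap 2 5,
   swap 0 3 * swap 1 2,
   swap 0 3 * swap 1 2 * swap 4 5,
   swap 0 3 * swap 1 4,
   swap 0 3 * swap 1 4 * swap 2 5,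
   swap 0 3 * swap 1 5,
   swap 0 3 * swap 1 5 * swap 2 4,
   swap 0 4,
   swap 0 4 * swap 3 5,
   swap 0 4 * swap 2 3,
   swap 0 4 * swap 2 5,
   swap 0 4 * swap 1 2,
   swap 0 4 * swap 1 2 * swap 3 5,
   swap 0 4 * swap 1 3,
   swap 0 4 * swap 1 3 * swap 2 5,
   swap 0 4 * swap 1 5,
   swap 0 4 * swap 1 5 * swap 2 3,
   swap 0 5,
   swap 0 5 * swap 3 4,
   swap 0 5 * swap 2 3,
   swap 0 5 * swap 2 4,
   swap 0 5 * swap 1 2,
   swap 0 5 * swap 1 2 * swap 3 4,
   swap 0 5 * swap 1 3,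
   swap 0 5 * swap 1 3 * swap 2 4,
   swap 0 5 * swap 1 4,
   swap 0 5 * swap 1 4 * swap 2 3]

theorem invSix_complete : ∀ x : Perm (Fin 6), x * x = 1 → x = 1 ∨ x ∈ invSix := by decide +kernel

/-- Equality of permutations of six points, by values. -/
def eqSix (a b : Perm (Fin 6)) : Bool := (List.finRange 6).all fun k => a k == b k

theorem eqSix_iff (a b : Perm (Fin 6)) : eqSix a b = true ↔ a = b := by
  simp only [eqSix, List.all_eq_true, List.mem_finRange, forall_const, beq_iff_eq, Equiv.ext_iff]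

/-- Commuting, by values. -/
def coSix (a b : Perm (Fin 6)) : Bool := eqSix (a * b) (b * a)

/-- The braid relation, by values. -/
def brSix (a b : Perm (Fin 6)) : Bool := eqSix (a * b * a) (b * a * b)

theorem six_table : (invSix.all fun I => invSix.all fun S => eqSix I S || !brSix I S ||
    invSix.all fun J => !coSix I J || !coSix S J || invSix.all fun A =>
      eqSix A S || !coSix I A || !brSix S A || !brSix A J || invSix.all fun X =>
        eqSix X J || !coSix X I || !coSix X S || !brSix J X || coSix A X || coSix (J * A * J) X) = true := by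
  decide +kernel

/-- In the symmetric group of degree six: the choice of the third Moore generator. -/
theorem six_choice {I S J A X : Perm (Fin 6)} (hI : I * I = 1) (hS : S * S = 1) (hJ : J * J = 1)
    (hA : A * A = 1) (hX : X * X = 1) (hI1 : I ≠ 1) (hS1 : S ≠ 1) (hJ1 : J ≠ 1) (hA1 : A ≠ 1) (hX1 : X ≠ 1)
    (h1 : I ≠ S) (h2 : I * S * I = S * I * S) (h3 : I * J = J * I) (h4 : S * J = J * S) (h5 : A ≠ S)
    (h6 : I * A = A * I) (h7 : S * A * S = A * S * A) (h8 : A * J * A = J * A * J) (h9 : X ≠ J)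
    (h10 : X * I = I * X) (h11 : X * S = S * X) (h12 : J * X * J = X * J * X) :
    A * X = X * A ∨ J * A * J * X = X * (J * A * J) := by
  have mem : ∀ {x : Perm (Fin 6)}, x * x = 1 → x ≠ 1 → x ∈ invSix := fun h h' => (invSix_complete _ h).resolve_left h'
  have t := six_table
  simp only [List.all_eq_true, Bool.or_eq_true, Bool.not_eq_true', ← Bool.not_eq_true, coSix, brSix,
    eqSix_iff] at t
  have t1 := ((t I (mem hI hI1) S (mem hS hS1)).resolve_left (by tauto)) J (mem hJ hJ1)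
  have t2 := (t1.resolve_left (by tauto)) A (mem hA hA1)
  have t3 := (t2.resolve_left (by tauto)) X (mem hX hX1)
  tauto

end CfsgLib.SymEightThreeLocal
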