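import Cfsg.Agent.Lib.SymEightThreeLocal.Model
import Cfsg.Agent.S3333

/-!
First consequences of the 3-local data: the conjugates of `r`, and the centralizer of `r`.
-/

set_option autoImplicit false
set_option linter.unusedSectionVars false

namespace CfsgLib.SymEightThreeLocal

open Subgroup

universe u

namespace Datum

variable {G : Type u} [Group G] (L : Datum G)

theorem t_inv : L.t⁻¹ = L.t := inv_eq_of_mul_eq_one_right L.t_sq

theorem t_z : L.t * L.z * L.t = L.w := L.tz

theorem t_w : L.t * L.w * L.t = L.z := by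
  rw [← L.t_z]
  calc L.t * (L.t * L.z * L.t) * L.t = (L.t * L.t) * L.z * (L.t * L.t) := by simp only [mul_assoc]
    _ = L.z := by rw [L.t_sq]; simp

theorem t_r : L.t * L.r * L.t = L.r := L.tr

theorem t_i : L.t * L.i * L.t = L.j := rfl

theorem t_j : L.t * L.j * L.t = L.i := by
  rw [← L.t_i]
  calc L.t * (L.t * L.i * L.t) * L.t = (L.t * L.t) * L.i * (L.t * L.t) := by simp only [mul_assoc]
    _ = L.i := by rw [L.t_sq]; simp

theorem zw_comm : L.z * L.w = L.w * L.z := by
  rw [z, w, ← map_mul, ← map_mul, mz_mw]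

theorem z_cube : L.z ^ 3 = 1 := by rw [z, ← map_pow, mz_cube, map_one]
theorem w_cube : L.w ^ 3 = 1 := by rw [w, ← map_pow, mw_cube, map_one]
theorem z_ne : L.z ≠ 1 := fun h => mz_ne (L.φ_inj (h.trans (map_one _).symm))
theorem w_ne : L.w ≠ 1 := fun h => mw_ne (L.φ_inj (h.trans (map_one _).symm))
theorem r_sq : L.r * L.r = 1 := by rw [r, ← map_mul, mr_sq, map_one]
theorem r_ne : L.r ≠ 1 := fun h => mr_ne (L.φ_inj (h.trans (map_one _).symm))

theorem z_mem : L.z ∈ L.D := by
  have h : L.z ∈ closure ({L.φ mz, L.φ mw} : Set G) := subset_closure (Or.inl rfl)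
  rwa [← L.D_eq] at h

theorem w_mem : L.w ∈ L.D := by
  have h : L.w ∈ closure ({L.φ mz, L.φ mw} : Set G) := subset_closure (Or.inr rfl)
  rwa [← L.D_eq] at h

theorem mem_centralizer_D {x : G} :
    x ∈ centralizer (L.D : Set G) ↔ x * L.z = L.z * x ∧ x * L.w = L.w * x := by
  rw [L.D_eq, centralizer_closure, mem_centralizer_iff]
  constructor
  · exact fun h => ⟨(h _ (Or.inl rfl)).symm, (h _ (Or.inr rfl)).symm⟩
  · rintro h y (rfl | rfl)
    exacts [h.1.symm, h.2.symm]

theorem D_comm {a b : G} (ha : a ∈ L.D) (hb : b ∈ L.D) : a * b = b * a := by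
  have hz : L.z ∈ centralizer (L.D : Set G) := L.mem_centralizer_D.mpr ⟨rfl, L.zw_comm⟩
  have hw : L.w ∈ centralizer (L.D : Set G) := L.mem_centralizer_D.mpr ⟨L.zw_comm.symm, rfl⟩
  have hle : L.D ≤ centralizer (L.D : Set G) := by
    conv_lhs => rw [L.D_eq]
    rw [closure_le]
    rintro y (rfl | rfl)
    exacts [hz, hw]
  exact (mem_centralizer_iff.mp (hle hb) a ha)

theorem D_cube {a : G} (ha : a ∈ L.D) : a ^ 3 = 1 := by
  rw [L.D_eq] at ha
  induction ha using closure_induction with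
  | mem y hy =>
    rcases hy with rfl | rfl
    exacts [L.z_cube, L.w_cube]
  | one => exact one_pow 3
  | mul a b ha' hb' ha hb =>
    have hc : Commute a b := L.D_comm (by rwa [L.D_eq]) (by rwa [L.D_eq])
    rw [hc.mul_pow, ha, hb, one_mul]
  | inv a _ ha => rw [inv_pow, ha, inv_one]

theorem mem_norm_z {x : G} : x ∈ normalizer (zpowers L.z : Set G) ↔ ∃ p : M, L.φ p = x := by
  rw [z, ← L.φ_range]; rfl

theorem mem_cent_z {x : G} :
    x ∈ centralizer ({L.z} : Set G) ↔ ∃ p : M, Commute p mz ∧ L.φ p = x := by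
  constructor
  · intro hx
    have hc : x * L.z = L.z * x := (mem_centralizer_singleton_iff.mp hx)
    have hn : x ∈ normalizer (zpowers L.z : Set G) := by
      refine centralizer_le_normalizer _ ?_
      rw [mem_centralizer_iff]
      intro y hy
      obtain ⟨n, rfl⟩ := mem_zpowers_iff.mp hy
      exact ((show Commute x L.z from hc).zpow_right n).symm.eq
    obtain ⟨p, rfl⟩ := L.mem_norm_z.mp hn
    refine ⟨p, L.φ_inj ?_, rfl⟩
    rw [map_mul, map_mul]; exact hc
  · rintro ⟨p, hp, rfl⟩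
    rw [mem_centralizer_singleton_iff, z, ← map_mul, ← map_mul, hp.eq]

theorem exists_of_commute_z {x : G} (hx : x * L.z = L.z * x) :
    ∃ p : M, p * mz = mz * p ∧ L.φ p = x := by
  obtain ⟨p, hp, h⟩ := L.mem_cent_z.mp (mem_centralizer_singleton_iff.mpr hx)
  exact ⟨p, hp, h⟩

/-- Elements centralizing `D`. -/
theorem centralizer_D_cases {x : G} (hz : x * L.z = L.z * x) (hw : x * L.w = L.w * x) :
    x ∈ L.D ∨ x * L.r⁻¹ ∈ L.D := by
  obtain ⟨p, hp, rfl⟩ := L.exists_of_commute_z hz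
  have hpw : p * mw = mw * p := L.φ_inj (by rw [map_mul, map_mul]; exact hw)
  have hD : ∀ a b : Fin 3, L.φ (mz ^ a.val * mw ^ b.val) ∈ L.D := fun a b => by
    rw [map_mul, map_pow, map_pow]
    exact mul_mem (pow_mem L.z_mem _) (pow_mem L.w_mem _)
  obtain ⟨a, b, rfl | rfl⟩ := cent_D_cases p hp hpw
  · exact Or.inl (hD a b)
  · refine Or.inr ?_
    rw [map_mul, r, mul_inv_cancel_right]
    exact hD a b

theorem eq_r_of_commute_D {x : G} (h2 : x * x = 1) (h1 : x ≠ 1) (hz : x * L.z = L.z * x)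
    (hw : x * L.w = L.w * x) : x = L.r := by
  obtain ⟨p, hp, rfl⟩ := L.exists_of_commute_z hz
  have hpw : p * mw = mw * p := L.φ_inj (by rw [map_mul, map_mul]; exact hw)
  have hp2 : p * p = 1 := L.φ_inj (by rw [map_mul, map_one]; exact h2)
  rcases cent_D_invol p hp hpw hp2 with rfl | rfl
  · exact absurd (map_one _) h1
  · rfl

theorem r_z : L.r * L.z = L.z * L.r := by rw [r, z, ← map_mul, ← map_mul, mz_mr]
theorem r_w : L.r * L.w = L.w * L.r := by rw [r, w, ← map_mul, ← map_mul, mw_mr]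

theorem r_mem_centralizer_D : L.r ∈ centralizer (L.D : Set G) :=
  L.mem_centralizer_D.mpr ⟨L.r_z, L.r_w⟩

theorem norm_D_le_cent_r : normalizer (L.D : Set G) ≤ centralizer ({L.r} : Set G) := by
  intro g hg
  rw [mem_centralizer_singleton_iff]
  have hconj : ∀ d ∈ L.D, g * L.r * g⁻¹ * d = d * (g * L.r * g⁻¹) := by
    intro d hd
    have h1 : g⁻¹ * d * g ∈ L.D := by
      have := (mem_normalizer_iff.mp (inv_mem hg) d).mp hd
      simpa using this
    have h2 := mem_centralizer_iff.mp L.r_mem_centralizer_D _ h1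
    calc g * L.r * g⁻¹ * d = g * (L.r * (g⁻¹ * d * g)) * g⁻¹ := by group
      _ = g * ((g⁻¹ * d * g) * L.r) * g⁻¹ := by rw [← h2]
      _ = d * (g * L.r * g⁻¹) := by group
  have := L.eq_r_of_commute_D (x := g * L.r * g⁻¹)
    (by calc g * L.r * g⁻¹ * (g * L.r * g⁻¹) = g * (L.r * L.r) * g⁻¹ := by group
          _ = 1 := by rw [L.r_sq]; group)
    (fun h => L.r_ne (by
      calc L.r = g⁻¹ * (g * L.r * g⁻¹) * g := by group
        _ = 1 := by rw [h]; group))
    (hconj _ L.z_mem) (hconj _ L.w_mem)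
  calc g * L.r = (g * L.r * g⁻¹) * g := by group
    _ = L.r * g := by rw [this]

theorem mem_D_of_cube {x : G} [Finite G] (hx : x ∈ normalizer (L.D : Set G)) (h9 : x ^ 9 = 1) :
    x ∈ L.D := by
  set N := normalizer (L.D : Set G)
  set D0 := L.D.subgroupOf N
  have hidx : D0.index = 16 := by
    have h := D0.card_mul_index
    rw [Nat.card_congr (subgroupOfEquivOfLe le_normalizer).toEquiv, L.card_D, L.card_norm_D] at h
    omega
  have hord : orderOf ((⟨x, hx⟩ : N) : N ⧸ D0) ∣ 9 := by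
    rw [orderOf_dvd_iff_pow_eq_one, ← QuotientGroup.mk_pow]
    have : (⟨x, hx⟩ : N) ^ 9 = 1 := Subtype.ext h9
    rw [this, QuotientGroup.mk_one]
  have hord' : orderOf ((⟨x, hx⟩ : N) : N ⧸ D0) ∣ 16 :=
    hidx ▸ (orderOf_dvd_natCard _)
  have h1 : orderOf ((⟨x, hx⟩ : N) : N ⧸ D0) = 1 :=
    Nat.eq_one_of_dvd_coprimes (by norm_num : Nat.Coprime 9 16) hord hord'
  rw [orderOf_eq_one_iff, QuotientGroup.eq_one_iff] at h1
  exact h1

theorem exists_pow_of_mem_D [Finite G] {d : G} (hd : d ∈ L.D) :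
    ∃ a b : Fin 3, L.z ^ a.val * L.w ^ b.val = d := by
  have hz : d * L.z = L.z * d := L.D_comm hd L.z_mem
  have hw : d * L.w = L.w * d := L.D_comm hd L.w_mem
  obtain ⟨p, hp, rfl⟩ := L.exists_of_commute_z hz
  have hpw : p * mw = mw * p := L.φ_inj (by rw [map_mul, map_mul]; exact hw)
  obtain ⟨a, b, rfl | rfl⟩ := cent_D_cases p hp hpw
  · exact ⟨a, b, by rw [map_mul, map_pow, map_pow]; rfl⟩
  · exfalso
    have h1 : L.r ∈ L.D := by
      rw [map_mul, map_mul, map_pow, map_pow] at hd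
      exact (L.D.mul_mem_cancel_left (mul_mem (pow_mem L.z_mem _) (pow_mem L.w_mem _))).mp hd
    refine L.r_ne ?_
    have h3 := L.D_cube h1
    rwa [pow_succ, pow_two, L.r_sq, one_mul] at h3

theorem t_mem_norm [Finite G] : L.t ∈ normalizer (L.D : Set G) := by
  refine mem_normalizer_fintype ?_
  intro a ha
  have hle : L.D ≤ L.D.comap (MulAut.conj L.t).toMonoidHom := by
    conv_lhs => rw [L.D_eq]
    rw [closure_le]
    rintro y (rfl | rfl)
    · show L.t * L.z * L.t⁻¹ ∈ L.D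
      rw [L.t_inv, L.t_z]; exact L.w_mem
    · show L.t * L.w * L.t⁻¹ ∈ L.D
      rw [L.t_inv, L.t_w]; exact L.z_mem
  exact hle ha

theorem isR_r : L.IsR L.r := ⟨1, by group⟩

theorem isR_conj {x : G} (g : G) (hx : L.IsR x) : L.IsR (g * x * g⁻¹) := by
  obtain ⟨h, rfl⟩ := hx
  exact ⟨g * h, by group⟩

theorem isR_conj_iff {x : G} (g : G) : L.IsR (g * x * g⁻¹) ↔ L.IsR x := by
  refine ⟨fun h => ?_, L.isR_conj g⟩
  have := L.isR_conj g⁻¹ h
  rwa [show g⁻¹ * (g * x * g⁻¹) * g⁻¹⁻¹ = x by group] at this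

theorem isR_t_iff {x : G} : L.IsR (L.t * x * L.t) ↔ L.IsR x := by
  have := L.isR_conj_iff (x := x) L.t
  rwa [L.t_inv] at this

theorem isR_sq {x : G} (hx : L.IsR x) : x * x = 1 := by
  obtain ⟨g, rfl⟩ := hx
  calc g * L.r * g⁻¹ * (g * L.r * g⁻¹) = g * (L.r * L.r) * g⁻¹ := by group
    _ = 1 := by rw [L.r_sq]; group

theorem isR_ne {x : G} (hx : L.IsR x) : x ≠ 1 := by
  obtain ⟨g, rfl⟩ := hx
  intro h
  refine L.r_ne ?_
  calc L.r = g⁻¹ * (g * L.r * g⁻¹) * g := by group
    _ = 1 := by rw [h]; group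

section Finite

variable [Finite G]
include L

theorem card_le_nine {Q : Subgroup G} (hQ : IsPGroup 3 Q) : Nat.card Q ∣ 9 := by
  haveI : Fact (Nat.Prime 3) := ⟨Nat.prime_three⟩
  obtain ⟨n, hn⟩ := hQ.exists_card_eq
  have h := L.D.card_mul_index
  rw [L.card_D] at h
  have hcop : Nat.Coprime (3 ^ n) L.D.index :=
    ((Nat.Prime.coprime_iff_not_dvd Nat.prime_three).mpr L.not_dvd).pow_left n
  have hd : 3 ^ n ∣ 9 * L.D.index := by rw [h, ← hn]; exact card_subgroup_dvd_card Q
  rw [hn]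
  exact hcop.dvd_of_dvd_mul_right hd

/-- A subgroup of order divisible by nine containing an element of order dividing three contains a
subgroup of order nine through it. -/
theorem exists_nine {H : Subgroup G} (h9 : 9 ∣ Nat.card H) {a : G} (ha : a ∈ H) (ha3 : a ^ 3 = 1) :
    ∃ Q : Subgroup G, Q ≤ H ∧ a ∈ Q ∧ Nat.card Q = 9 ∧ (∀ x ∈ Q, ∀ y ∈ Q, x * y = y * x) := by
  haveI : Fact (Nat.Prime 3) := ⟨Nat.prime_three⟩
  have hp : IsPGroup 3 (zpowers (⟨a, ha⟩ : H)) := by
    refine IsPGroup.of_card_dvd_pow (n := 1) ?_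
    rw [Nat.card_zpowers, pow_one]
    exact orderOf_dvd_of_pow_eq_one (Subtype.ext (by simpa using ha3))
  obtain ⟨S, hS⟩ := hp.exists_le_sylow
  have hQ : IsPGroup 3 ((S : Subgroup H).map H.subtype) := S.2.map _
  have hc : Nat.card ((S : Subgroup H).map H.subtype) = 9 := by
    refine Nat.dvd_antisymm (L.card_le_nine hQ) ?_
    rw [card_map_of_injective H.subtype_injective, S.card_eq_multiplicity,
      show (9 : ℕ) = 3 ^ 2 from rfl]
    refine pow_dvd_pow 3 ?_
    exact (Nat.Prime.pow_dvd_iff_le_factorization Nat.prime_three (Nat.card_pos).ne').mp h9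
  refine ⟨_, map_subtype_le _, ⟨⟨a, ha⟩, hS (mem_zpowers _), rfl⟩, hc, fun x hx y hy => ?_⟩
  have := (IsPGroup.isMulCommutative_of_card_eq_prime_sq (p := 3) (G := (S : Subgroup H).map H.subtype) hc)
  exact congrArg Subtype.val (this.is_comm.comm ⟨x, hx⟩ ⟨y, hy⟩)

theorem eq_D_of_nine {Q : Subgroup G} (hQ : Nat.card Q = 9) (hle : Q ≤ normalizer (L.D : Set G)) :
    Q = L.D := by
  refine eq_of_le_of_card_ge (fun x hx => ?_) (by rw [hQ, L.card_D])
  refine L.mem_D_of_cube (hle hx) ?_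
  have := pow_card_eq_one' (G := Q) (x := ⟨x, hx⟩)
  rw [hQ] at this
  exact congrArg Subtype.val this

theorem nine_dvd_cent {x : G} (hx : L.IsR x) : 9 ∣ Nat.card (centralizer ({x} : Set G)) := by
  obtain ⟨g, rfl⟩ := hx
  have hle : L.D.map (MulAut.conj g).toMonoidHom ≤ centralizer ({g * L.r * g⁻¹} : Set G) := by
    rintro _ ⟨d, hd, rfl⟩
    rw [mem_centralizer_singleton_iff]
    show g * d * g⁻¹ * (g * L.r * g⁻¹) = g * L.r * g⁻¹ * (g * d * g⁻¹)
    have h := mem_centralizer_iff.mp L.r_mem_centralizer_D d hd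
    calc g * d * g⁻¹ * (g * L.r * g⁻¹) = g * (d * L.r) * g⁻¹ := by group
      _ = _ := by rw [h]; group
  have h := card_dvd_of_le hle
  have e : Nat.card (L.D.map (MulAut.conj g).toMonoidHom) = 9 := by
    rw [card_map_of_injective (MulAut.conj g).injective]; exact L.card_D
  rwa [e] at h

theorem eq_r_of_commute_of_le {d x : G} (hd : d ∈ L.D)
    (hle : centralizer ({d} : Set G) ≤ normalizer (L.D : Set G)) (hx : L.IsR x)
    (hc : x * d = d * x) : x = L.r := by
  obtain ⟨Q, hQH, hdQ, hQ, hQc⟩ := L.exists_nine (L.nine_dvd_cent hx)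
    (mem_centralizer_singleton_iff.mpr hc.symm) (L.D_cube hd)
  have hQD : Q = L.D :=
    L.eq_D_of_nine hQ fun y hy => hle (mem_centralizer_singleton_iff.mpr (hQc y hy d hdQ))
  subst hQD
  exact L.eq_r_of_commute_D (L.isR_sq hx) (L.isR_ne hx)
    (mem_centralizer_singleton_iff.mp (hQH L.z_mem)).symm
    (mem_centralizer_singleton_iff.mp (hQH L.w_mem)).symm

theorem eq_r_of_commute_zw {x : G} (hx : L.IsR x) (hc : Commute x (L.z * L.w)) : x = L.r :=
  L.eq_r_of_commute_of_le (mul_mem L.z_mem L.w_mem) L.zw_le hx hc.eq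

theorem eq_r_of_commute_zw' {x : G} (hx : L.IsR x) (hc : Commute x (L.z * L.w⁻¹)) : x = L.r :=
  L.eq_r_of_commute_of_le (mul_mem L.z_mem (inv_mem L.w_mem)) L.zw'_le hx hc.eq

theorem eq_of_commute_conj_zw {x g : G} (hx : L.IsR x) (hc : Commute x (g * (L.z * L.w) * g⁻¹)) :
    x = g * L.r * g⁻¹ := by
  have h : g⁻¹ * x * g⁻¹⁻¹ = L.r := by
    refine L.eq_r_of_commute_zw (L.isR_conj _ hx) ?_
    show g⁻¹ * x * g⁻¹⁻¹ * (L.z * L.w) = L.z * L.w * (g⁻¹ * x * g⁻¹⁻¹)
    calc g⁻¹ * x * g⁻¹⁻¹ * (L.z * L.w) = g⁻¹ * (x * (g * (L.z * L.w) * g⁻¹)) * g := by group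
      _ = _ := by rw [hc.eq]; group
  rw [← h]; group

theorem eq_of_commute_conj_zw' {x g : G} (hx : L.IsR x)
    (hc : Commute x (g * (L.z * L.w⁻¹) * g⁻¹)) : x = g * L.r * g⁻¹ := by
  have h : g⁻¹ * x * g⁻¹⁻¹ = L.r := by
    refine L.eq_r_of_commute_zw' (L.isR_conj _ hx) ?_
    show g⁻¹ * x * g⁻¹⁻¹ * (L.z * L.w⁻¹) = L.z * L.w⁻¹ * (g⁻¹ * x * g⁻¹⁻¹)
    calc g⁻¹ * x * g⁻¹⁻¹ * (L.z * L.w⁻¹) = g⁻¹ * (x * (g * (L.z * L.w⁻¹) * g⁻¹)) * g := by group
      _ = _ := by rw [hc.eq]; group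
  rw [← h]; group

theorem not_isR_double : ¬ L.IsR (L.φ mjEven) := by
  intro hx
  have hc : L.φ mjEven * L.z = L.z * L.φ mjEven := by
    rw [z, ← map_mul, ← map_mul, show mjEven * mz = mz * mjEven by decide]
  obtain ⟨Q, hQH, hzQ, hQ, hQc⟩ := L.exists_nine (L.nine_dvd_cent hx)
    (mem_centralizer_singleton_iff.mpr hc.symm) L.z_cube
  have hle : Q ≤ zpowers L.z := by
    intro y hy
    obtain ⟨p, hp, rfl⟩ := L.exists_of_commute_z (hQc y hy _ hzQ)
    have hpj : p * mjEven = mjEven * p :=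
      L.φ_inj (by rw [map_mul, map_mul]; exact mem_centralizer_singleton_iff.mp (hQH hy))
    have hp3 : p ^ 9 = 1 := L.φ_inj (by
      have := pow_card_eq_one' (G := Q) (x := ⟨L.φ p, hy⟩)
      rw [hQ] at this
      rw [map_pow, map_one]
      exact congrArg Subtype.val this)
    have h33 : (p ^ 3) ^ 3 = 1 := by rw [← pow_mul]; exact hp3
    have hp' : p ^ 3 = 1 := by
      obtain h | h | h := cent_double_cube (p ^ 3)
        (Commute.pow_left (show Commute p mz from hp) 3).eq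
        (Commute.pow_left (show Commute p mjEven from hpj) 3).eq h33
      · exact h
      all_goals
        exfalso
        have h2 : ∀ q : M, q ^ 3 ≠ mz ∧ q ^ 3 ≠ mz⁻¹ := by decide +kernel
        first
          | exact (h2 p).1 h
          | exact (h2 p).2 h
    rcases cent_double_cube p hp hpj hp' with rfl | rfl | rfl
    · rw [map_one]; exact one_mem _
    · exact mem_zpowers _
    · rw [map_inv]; exact inv_mem (mem_zpowers _)
  have h3 := card_dvd_of_le hle
  rw [hQ, Nat.card_zpowers, orderOf_eq_prime (hp := ⟨Nat.prime_three⟩) L.z_cube L.z_ne] at h3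
  norm_num at h3

theorem isR_phi {p : M} (hp : Commute p mz) :
    L.IsR (L.φ p) ↔ ∃ a b : Fin 5, a ≠ b ∧ p = (1, Equiv.swap a b) := by
  constructor
  · intro hx
    have hp2 : p * p = 1 := L.φ_inj (by rw [map_mul, map_one]; exact L.isR_sq hx)
    have hp1 : p ≠ 1 := fun h => L.isR_ne hx (by rw [h, map_one])
    rcases cent_z_invol p hp.eq hp2 hp1 with h | ⟨σ, rfl⟩
    · exact h
    · rw [map_mul, map_mul, map_inv, L.isR_conj_iff] at hx
      exact absurd hx L.not_isR_double
  · rintro ⟨a, b, hab, rfl⟩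
    obtain ⟨σ, hσ⟩ := transposition_conj a b hab
    rw [← hσ, map_mul, map_mul, map_inv]
    exact L.isR_conj _ L.isR_r

theorem centralizer_inter_r_le {d x : G} (hd : d ∈ L.D) (hd1 : d ≠ 1)
    (hx : x ∈ centralizer ({d} : Set G)) (hr : x * L.r = L.r * x) :
    x ∈ normalizer (L.D : Set G) := by
  have hxd : x * d = d * x := mem_centralizer_singleton_iff.mp hx
  have hzcase : ∀ {y : G}, y * L.z = L.z * y → y * L.r = L.r * y →
      y ∈ normalizer (L.D : Set G) := by
    intro y hyz hyr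
    obtain ⟨p, hp, rfl⟩ := L.exists_of_commute_z hyz
    have hpr : p * mr = mr * p := L.φ_inj (by rw [map_mul, map_mul]; exact hyr)
    have hw' : L.φ p * L.w * (L.φ p)⁻¹ ∈ L.D := by
      rw [w, ← map_inv, ← map_mul, ← map_mul]
      rcases cent_z_r p hp hpr with e | e
      · rw [e]; exact L.w_mem
      · rw [e, map_inv]; exact inv_mem L.w_mem
    have hz' : L.φ p * L.z * (L.φ p)⁻¹ ∈ L.D := by
      rw [hyz, mul_inv_cancel_right]; exact L.z_mem
    refine mem_normalizer_fintype ?_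
    intro a ha
    have hle : L.D ≤ L.D.comap (MulAut.conj (L.φ p)).toMonoidHom := by
      conv_lhs => rw [L.D_eq]
      rw [closure_le]
      rintro y (rfl | rfl)
      exacts [hz', hw']
    exact hle ha
  have hwcase : x * L.w = L.w * x → x ∈ normalizer (L.D : Set G) := by
    intro hxw
    have h1 : L.t * x * L.t * L.z = L.z * (L.t * x * L.t) := by
      conv_lhs => rw [← L.t_w]
      conv_rhs => rw [← L.t_w]
      calc L.t * x * L.t * (L.t * L.w * L.t) = L.t * x * (L.t * L.t) * L.w * L.t := by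
            simp only [mul_assoc]
        _ = L.t * (x * L.w) * L.t := by rw [L.t_sq]; simp only [mul_one, mul_assoc]
        _ = L.t * (L.w * x) * L.t := by rw [hxw]
        _ = L.t * L.w * (L.t * L.t) * x * L.t := by rw [L.t_sq]; simp only [mul_one, mul_assoc]
        _ = _ := by simp only [mul_assoc]
    have h2 : L.t * x * L.t * L.r = L.r * (L.t * x * L.t) := by
      conv_lhs => rw [← L.t_r]
      conv_rhs => rw [← L.t_r]
      calc L.t * x * L.t * (L.t * L.r * L.t) = L.t * x * (L.t * L.t) * L.r * L.t := by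
            simp only [mul_assoc]
        _ = L.t * (x * L.r) * L.t := by rw [L.t_sq]; simp only [mul_one, mul_assoc]
        _ = L.t * (L.r * x) * L.t := by rw [hr]
        _ = L.t * L.r * (L.t * L.t) * x * L.t := by rw [L.t_sq]; simp only [mul_one, mul_assoc]
        _ = _ := by simp only [mul_assoc]
    have h3 := mul_mem (mul_mem L.t_mem_norm (hzcase h1 h2)) L.t_mem_norm
    have e : L.t * (L.t * x * L.t) * L.t = x := by
      calc L.t * (L.t * x * L.t) * L.t = (L.t * L.t) * x * (L.t * L.t) := by simp only [mul_assoc]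
        _ = x := by rw [L.t_sq]; simp
    rwa [e] at h3
  obtain ⟨a, b, rfl⟩ := L.exists_pow_of_mem_D hd
  have hc0 : Commute L.z L.w := L.zw_comm
  have hinv : ∀ {c : G}, x * c⁻¹ = c⁻¹ * x → x * c = c * x := fun {c} h => by
    simpa using (show Commute x c⁻¹ from h).inv_right.eq
  have key : ∀ {c c' : G}, c ^ 3 = 1 → x * c ^ 2 = c ^ 2 * x → x * c = c * x := fun {c c'} h3 h => by
    have e : c ^ 2 = c⁻¹ := eq_inv_of_mul_eq_one_left (by rw [← pow_succ]; exact h3)
    rw [e] at h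
    exact hinv h
  fin_cases a <;> fin_cases b <;> simp only [pow_zero, one_mul, mul_one, pow_one] at hxd hd1
  · exact absurd rfl hd1
  · exact hwcase hxd
  · exact hwcase (key (c' := L.w) L.w_cube hxd)
  · exact hzcase hxd hr
  · exact L.zw_le (mem_centralizer_singleton_iff.mpr hxd)
  · refine L.zw'_le (mem_centralizer_singleton_iff.mpr ?_)
    have e : L.w ^ 2 = L.w⁻¹ := eq_inv_of_mul_eq_one_left (by rw [← pow_succ]; exact L.w_cube)
    rw [e] at hxd
    exact hxd
  · exact hzcase (key (c' := L.z) L.z_cube hxd) hr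
  · refine L.zw'_le (mem_centralizer_singleton_iff.mpr (hinv ?_))
    have e : L.z ^ 2 = L.z⁻¹ := eq_inv_of_mul_eq_one_left (by rw [← pow_succ]; exact L.z_cube)
    have ec : (L.z * L.w⁻¹)⁻¹ = L.z⁻¹ * L.w := by
      rw [mul_inv_rev, inv_inv]
      exact ((show Commute L.w L.z from L.zw_comm.symm).inv_right).eq
    rw [e] at hxd
    show x * (L.z * L.w⁻¹)⁻¹ = (L.z * L.w⁻¹)⁻¹ * x
    rw [ec]; exact hxd
  · refine L.zw_le (mem_centralizer_singleton_iff.mpr (key (c' := L.z) (L.D_cube (mul_mem L.z_mem L.w_mem)) ?_))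
    show x * (L.z * L.w) ^ 2 = (L.z * L.w) ^ 2 * x
    rw [hc0.mul_pow]
    exact hxd

theorem five_dvd_cent_z : 5 ∣ Nat.card (centralizer ({L.z} : Set G)) := by
  obtain ⟨p, hp, h5, hp1⟩ := exists_order_five
  have ho : orderOf (L.φ p) = 5 := by
    rw [orderOf_injective L.φ L.φ_inj]
    exact orderOf_eq_prime (hp := ⟨by norm_num⟩) h5 hp1
  rw [← ho]
  exact orderOf_dvd_natCard _ (L.mem_cent_z.mpr ⟨p, hp, rfl⟩)

theorem card_centralizer_conj (g a : G) :
    Nat.card (centralizer ({g * a * g⁻¹} : Set G)) = Nat.card (centralizer ({a} : Set G)) := by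
  refine Nat.card_congr
    { toFun := fun x => ⟨g⁻¹ * x.1 * g, ?_⟩
      invFun := fun x => ⟨g * x.1 * g⁻¹, ?_⟩
      left_inv := fun x => Subtype.ext (by simp [mul_assoc])
      right_inv := fun x => Subtype.ext (by simp [mul_assoc]) }
  · have h := mem_centralizer_singleton_iff.mp x.2
    rw [mem_centralizer_singleton_iff]
    calc g⁻¹ * x.1 * g * a = g⁻¹ * (x.1 * (g * a * g⁻¹)) * g := by group
      _ = _ := by rw [h]; group
  · have h := mem_centralizer_singleton_iff.mp x.2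
    rw [mem_centralizer_singleton_iff]
    calc g * x.1 * g⁻¹ * (g * a * g⁻¹) = g * (x.1 * a) * g⁻¹ := by group
      _ = _ := by rw [h]; group

/-- An involution centralizing both kinds of elements of order three is a conjugate of `r`. -/
theorem isR_of_commute_both {x g h : G} (h2 : x * x = 1) (h1 : x ≠ 1)
    (hz : Commute x (g * L.z * g⁻¹)) (hy : Commute x (h * (L.z * L.w) * h⁻¹)) : L.IsR x := by
  haveI : Fact (Nat.Prime 3) := ⟨Nat.prime_three⟩
  set H := centralizer ({x} : Set G) with hH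
  set a := g * L.z * g⁻¹ with ha
  set b := h * (L.z * L.w) * h⁻¹ with hb
  have haH : a ∈ H := mem_centralizer_singleton_iff.mpr hz.eq.symm
  have hbH : b ∈ H := mem_centralizer_singleton_iff.mpr hy.eq.symm
  by_cases h9 : 9 ∣ Nat.card H
  · obtain ⟨Q, hQH, -, hQ, hQc⟩ := L.exists_nine h9 haH (by rw [ha, conj_pow, L.z_cube]; group)
    obtain ⟨P, hP⟩ : ∃ P : Sylow 3 G, (P : Subgroup G) = L.D :=
      ⟨(IsPGroup.of_card (n := 2) (by rw [L.card_D]; rfl)).toSylow L.not_dvd, rfl⟩
    obtain ⟨P', hP'⟩ : ∃ P' : Sylow 3 G, (P' : Subgroup G) = Q := by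
      refine ⟨(IsPGroup.of_card (n := 2) (by rw [hQ]; rfl)).toSylow ?_, rfl⟩
      have e1 := L.D.card_mul_index
      have e2 := Q.card_mul_index
      rw [L.card_D] at e1; rw [hQ] at e2
      have : Q.index = L.D.index := by omega
      rw [this]; exact L.not_dvd
    obtain ⟨k, hk⟩ := MulAction.exists_smul_eq G P P'
    have hkQ : ∀ d ∈ L.D, k * d * k⁻¹ ∈ Q := by
      intro d hd
      rw [← hP', ← hk, Sylow.coe_subgroup_smul, Subgroup.mem_pointwise_smul_iff_inv_smul_mem, hP]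
      simpa [MulAut.smul_def, mul_assoc] using hd
    have hcomm : ∀ d ∈ L.D, k⁻¹ * x * k⁻¹⁻¹ * d = d * (k⁻¹ * x * k⁻¹⁻¹) := by
      intro d hd
      have := mem_centralizer_singleton_iff.mp (hQH (hkQ d hd))
      calc k⁻¹ * x * k⁻¹⁻¹ * d = k⁻¹ * (x * (k * d * k⁻¹)) * k := by group
        _ = _ := by rw [← this]; group
    have hr := L.eq_r_of_commute_D (x := k⁻¹ * x * k⁻¹⁻¹)
      (by calc k⁻¹ * x * k⁻¹⁻¹ * (k⁻¹ * x * k⁻¹⁻¹) = k⁻¹ * (x * x) * k := by group
            _ = 1 := by rw [h2]; group)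
      (fun e => h1 (by
        calc x = k * (k⁻¹ * x * k⁻¹⁻¹) * k⁻¹ := by group
          _ = 1 := by rw [e]; group))
      (hcomm _ L.z_mem) (hcomm _ L.w_mem)
    exact ⟨k, by rw [← hr]; group⟩
  · exfalso
    -- the two cyclic subgroups are conjugate Sylow subgroups
    have hord : ∀ {c : G} (_ : c ∈ H), c ^ 3 = 1 → c ≠ 1 →
        ∃ S : Sylow 3 H, ((S : Subgroup H).map H.subtype) = zpowers c := by
      intro c hc h3 h1c
      have ho : orderOf c = 3 := orderOf_eq_prime h3 h1c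
      let C : Subgroup H := zpowers ⟨c, hc⟩
      have hC : Nat.card C = 3 := by rw [Nat.card_zpowers, orderOf_mk, ho]
      have hi : ¬ 3 ∣ C.index := by
        intro hd
        apply h9
        have := C.card_mul_index
        rw [← this, hC]
        exact Nat.mul_dvd_mul_left 3 hd
      refine ⟨(IsPGroup.of_card (n := 1) (by rw [hC, pow_one])).toSylow hi, ?_⟩
      show C.map H.subtype = _
      rw [MonoidHom.map_zpowers]; rfl
    obtain ⟨Sa, hSa⟩ := hord haH (by rw [ha, conj_pow, L.z_cube]; group)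
      (fun e => L.z_ne (by
        calc L.z = g⁻¹ * a * g := by rw [ha]; group
          _ = 1 := by rw [e]; group))
    have hzw : (L.z * L.w) ^ 3 = 1 := L.D_cube (mul_mem L.z_mem L.w_mem)
    have hb1 : b ≠ 1 := fun e => by
      have : L.z * L.w = 1 := by
        calc L.z * L.w = h⁻¹ * b * h := by rw [hb]; group
          _ = 1 := by rw [e]; group
      have : L.φ (mz * mw) = L.φ 1 := by rw [map_mul, map_one]; exact this
      exact absurd (L.φ_inj this) (by decide)
    obtain ⟨Sb, hSb⟩ := hord hbH (by rw [hb, conj_pow, hzw]; group) hb1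
    obtain ⟨k, hk⟩ := MulAction.exists_smul_eq H Sa Sb
    have hmem : (k : G) * a * (k : G)⁻¹ ∈ zpowers b := by
      rw [← hSb, ← hk, Sylow.coe_subgroup_smul]
      have hak : (⟨a, haH⟩ : H) ∈ (Sa : Subgroup H) := by
        have : a ∈ (Sa : Subgroup H).map H.subtype := by rw [hSa]; exact mem_zpowers a
        obtain ⟨y, hy, hya⟩ := this
        rwa [show (⟨a, haH⟩ : H) = y from Subtype.ext hya.symm]
      refine ⟨k * ⟨a, haH⟩ * k⁻¹, ?_, rfl⟩
      rw [SetLike.mem_coe, Subgroup.mem_pointwise_smul_iff_inv_smul_mem]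
      simpa [MulAut.smul_def, mul_assoc] using hak
    have hc : Nat.card (centralizer ({(k : G) * a * (k : G)⁻¹} : Set G)) =
        Nat.card (centralizer ({b} : Set G)) := by
      have hbo : orderOf b = 3 := orderOf_eq_prime (by rw [hb, conj_pow, hzw]; group) hb1
      have hne : (k : G) * a * (k : G)⁻¹ ≠ 1 := fun e => L.z_ne (by
        calc L.z = g⁻¹ * ((k : G)⁻¹ * ((k : G) * a * (k : G)⁻¹) * k) * g := by rw [ha]; group
          _ = 1 := by rw [e]; group)
      obtain ⟨n, hn⟩ := mem_zpowers_iff.mp hmem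
      rw [← zpow_mod_orderOf, hbo] at hn
      have h0 := Int.emod_nonneg n (show ((3 : ℕ) : ℤ) ≠ 0 by norm_num)
      have h3 := Int.emod_lt_of_pos n (show (0 : ℤ) < ((3 : ℕ) : ℤ) by norm_num)
      rcases (show n % ((3 : ℕ) : ℤ) = 0 ∨ n % ((3 : ℕ) : ℤ) = 1 ∨ n % ((3 : ℕ) : ℤ) = 2 by omega) with
        e | e | e <;> rw [e] at hn
      · exact absurd (by rw [← hn, zpow_zero]) hne
      · rw [← hn, zpow_one]
      · have hb2 : b ^ (2 : ℤ) = b⁻¹ := by
          refine eq_inv_of_mul_eq_one_left ?_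
          rw [← zpow_add_one, show (2 : ℤ) + 1 = (3 : ℕ) from rfl, zpow_natCast, ← hbo,
            pow_orderOf_eq_one]
        rw [← hn, hb2]
        congr 2
        ext y
        simp only [mem_centralizer_singleton_iff]
        refine ⟨fun e' => ?_, fun e' => (show Commute y b from e').inv_right.eq⟩
        simpa using (show Commute y b⁻¹ from e').inv_right.eq
    rw [L.card_centralizer_conj, ha, L.card_centralizer_conj, hb, L.card_centralizer_conj] at hc
    have h5 := L.five_dvd_cent_z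
    have h36 : Nat.card (centralizer ({L.z * L.w} : Set G)) = 36 := L.card_zw
    rw [hc, h36] at h5
    norm_num at h5

/-- The centralizer of `r`. -/
theorem cent_r_cases : centralizer ({L.r} : Set G) = normalizer (L.D : Set G) ∨
    ∃ e : centralizer ({L.r} : Set G) →* Equiv.Perm (Fin 6), Function.Surjective e ∧
      e.ker = (zpowers L.r).subgroupOf (centralizer ({L.r} : Set G)) := by
  classical
  haveI : Fact (Nat.Prime 3) := ⟨Nat.prime_three⟩
  set C := centralizer ({L.r} : Set G) with hC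
  set R := (zpowers L.r).subgroupOf C with hR
  have hrC : L.r ∈ C := mem_centralizer_singleton_iff.mpr rfl
  have hro : orderOf L.r = 2 := orderOf_eq_prime (by rw [pow_two]; exact L.r_sq) L.r_ne
  haveI hRn : R.Normal := by
    refine ⟨fun x hx g => ?_⟩
    have hg : (g : G) * L.r = L.r * (g : G) := mem_centralizer_singleton_iff.mp g.2
    obtain ⟨n, hn⟩ := mem_zpowers_iff.mp (mem_subgroupOf.mp hx)
    have : g * x * g⁻¹ = x := Subtype.ext (by
      have hc : Commute (g : G) ((x : C) : G) := by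
        rw [← hn]; exact (show Commute (g : G) L.r from hg).zpow_right n
      simp [hc.eq])
    rwa [this]
  set π := QuotientGroup.mk' R
  have hDC : L.D ≤ C := le_normalizer.trans L.norm_D_le_cent_r
  have hmemR : ∀ {x : C}, x ∈ R → (x : G) = 1 ∨ (x : G) = L.r := by
    intro x hx
    obtain ⟨n, hn⟩ := mem_zpowers_iff.mp (mem_subgroupOf.mp hx)
    rw [← hn, ← zpow_mod_orderOf, hro]
    rcases Int.emod_two_eq_zero_or_one n with e | e <;> simp [e]
  have hπinj : ∀ d₁ d₂ : C, (d₁ : G) ∈ L.D → (d₂ : G) ∈ L.D → π d₁ = π d₂ → d₁ = d₂ := by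
    intro d₁ d₂ h₁ h₂ e
    have hmem : d₁⁻¹ * d₂ ∈ R := QuotientGroup.eq.mp e
    rcases hmemR hmem with h | h
    · exact inv_mul_eq_one.mp (Subtype.ext h)
    · exfalso
      have hd : L.r ∈ L.D := h ▸ L.D.mul_mem (L.D.inv_mem h₁) h₂
      have h3 := orderOf_dvd_of_pow_eq_one (L.D_cube hd)
      rw [hro] at h3
      norm_num at h3
  set S : Subgroup (C ⧸ R) := (L.D.subgroupOf C).map π with hS
  have hScard : Nat.card S = 9 := by
    rw [← L.card_D, ← Nat.card_congr (subgroupOfEquivOfLe hDC).toEquiv, hS]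
    refine (Nat.card_congr (Equiv.ofBijective
      (fun d : L.D.subgroupOf C => (⟨π d.1, ⟨d.1, d.2, rfl⟩⟩ : (L.D.subgroupOf C).map π)) ⟨?_, ?_⟩)).symm
    · intro a b e
      exact Subtype.ext (hπinj _ _ a.2 b.2 (congrArg Subtype.val e))
    · rintro ⟨_, d, hd, rfl⟩
      exact ⟨⟨d, hd⟩, rfl⟩
  have hSidx : ¬ 3 ∣ S.index := by
    intro h
    apply L.not_dvd
    have h1 : (L.D.subgroupOf C).index ∣ L.D.index := relIndex_dvd_index_of_le hDC
    exact (h.trans ((index_map_dvd _ (QuotientGroup.mk'_surjective R)))).trans h1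
  let P : Sylow 3 (C ⧸ R) := (IsPGroup.of_card (n := 2) (by rw [hScard]; rfl)).toSylow hSidx
  -- lifting commutation
  have hlift : ∀ (x : C) (d : C), (d : G) ∈ L.D → π x * π d = π d * π x → (x : G) * d = d * x := by
    intro x d hd e
    rw [← map_mul, ← map_mul] at e
    have hmem : (d * x)⁻¹ * (x * d) ∈ R := QuotientGroup.eq.mp e.symm
    rcases hmemR hmem with h | h
    · exact (inv_mul_eq_one.mp (by simpa using h)).symm
    · exfalso
      have h' : (x : G) * d = d * x * L.r := by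
        rw [← h]; simp [mul_assoc]
      have hxr : (x : G) * L.r = L.r * (x : G) := mem_centralizer_singleton_iff.mp x.2
      have hdr : Commute (d : G) L.r := mem_centralizer_iff.mp L.r_mem_centralizer_D _ hd
      have e2 : (x : G) * d * (x : G)⁻¹ = d * L.r := by
        rw [h', mul_assoc (d : G), hxr]; group
      have e3 := congrArg (· ^ 3) e2
      simp only [conj_pow, L.D_cube hd, mul_one, mul_inv_cancel, hdr.mul_pow, one_mul] at e3
      rw [pow_succ, pow_two, L.r_sq, one_mul] at e3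
      exact L.r_ne e3.symm
  have hcS : centralizer (S : Set (C ⧸ R)) = S := by
    refine le_antisymm ?_ ?_
    · intro y hy
      obtain ⟨x, rfl⟩ := QuotientGroup.mk'_surjective R y
      have hcz : ∀ d : C, (d : G) ∈ L.D → (x : G) * d = d * x := fun d hd =>
        hlift x d hd (mem_centralizer_iff.mp hy _ ⟨d, hd, rfl⟩).symm
      rcases L.centralizer_D_cases (hcz ⟨L.z, hDC L.z_mem⟩ L.z_mem) (hcz ⟨L.w, hDC L.w_mem⟩ L.w_mem)
        with h | h
      · exact ⟨x, h, rfl⟩
      · refine ⟨x * ⟨L.r, hrC⟩⁻¹, h, ?_⟩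
        rw [map_mul, map_inv, show π ⟨L.r, hrC⟩ = 1 from
          (QuotientGroup.eq_one_iff _).mpr (mem_subgroupOf.mpr (mem_zpowers L.r))]
        simp [π]
    · rintro _ ⟨d, hd, rfl⟩
      rw [mem_centralizer_iff]
      rintro _ ⟨d', hd', rfl⟩
      rw [← map_mul, ← map_mul]
      exact congrArg π (Subtype.ext (L.D_comm hd' hd))
  -- normalizers
  have hnorm : ∀ x : C, π x ∈ normalizer (S : Set (C ⧸ R)) → (x : G) ∈ normalizer (L.D : Set G) := by
    intro x hx
    have key : ∀ d ∈ L.D, (x : G) * d * (x : G)⁻¹ ∈ L.D := by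
      intro d hd
      obtain ⟨d', hd', e⟩ := (mem_normalizer_iff.mp hx _).mp ⟨⟨d, hDC hd⟩, hd, rfl⟩
      rw [← map_inv, ← map_mul, ← map_mul] at e
      have hmem : d'⁻¹ * (x * ⟨d, hDC hd⟩ * x⁻¹) ∈ R := QuotientGroup.eq.mp e
      rcases hmemR hmem with h | h
      · have : (d' : G) = x * d * (x : G)⁻¹ := inv_mul_eq_one.mp (by simpa [mul_assoc] using h)
        exact this ▸ hd'
      · exfalso
        have h' : (x : G) * d * (x : G)⁻¹ = d' * L.r := by rw [← h]; simp [mul_assoc]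
        have hdr : Commute (d' : G) L.r := mem_centralizer_iff.mp L.r_mem_centralizer_D _ hd'
        have e3 := congrArg (· ^ 3) h'
        simp only [conj_pow, L.D_cube hd, mul_one, mul_inv_cancel, hdr.mul_pow,
          L.D_cube (show (d' : G) ∈ L.D from hd'), one_mul] at e3
        rw [pow_succ, pow_two, L.r_sq, one_mul] at e3
        exact L.r_ne e3.symm
    refine mem_normalizer_fintype ?_
    exact key
  have hcent : ∀ y ∈ S, y ≠ 1 → centralizer ({y} : Set (C ⧸ R)) ≤ normalizer (S : Set (C ⧸ R)) := by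
    rintro _ ⟨d, hd, rfl⟩ hne y hy
    obtain ⟨x, rfl⟩ := QuotientGroup.mk'_surjective R y
    have hxd := hlift x d hd (mem_centralizer_singleton_iff.mp hy)
    have hd1 : (d : G) ≠ 1 := fun e => hne (by rw [show d = 1 from Subtype.ext e, map_one])
    have hxN : (x : G) ∈ normalizer (L.D : Set G) :=
      L.centralizer_inter_r_le hd hd1 (mem_centralizer_singleton_iff.mpr hxd)
        (mem_centralizer_singleton_iff.mp x.2)
    refine mem_normalizer_fintype ?_
    rintro _ ⟨d', hd', rfl⟩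
    exact ⟨x * d' * x⁻¹, (mem_normalizer_iff.mp hxN _).mp hd', by simp [π]⟩
  -- the quotient of the normalizer
  have hmapN : ∀ x : normalizer (L.D : Set G),
      π ⟨x.1, L.norm_D_le_cent_r x.2⟩ ∈ normalizer (S : Set (C ⧸ R)) := by
    intro x
    refine mem_normalizer_fintype ?_
    rintro _ ⟨d', hd', rfl⟩
    exact ⟨⟨x.1, L.norm_D_le_cent_r x.2⟩ * d' * ⟨x.1, L.norm_D_le_cent_r x.2⟩⁻¹,
      (mem_normalizer_iff.mp x.2 _).mp hd', by simp [π]⟩
  set NS := normalizer (S : Set (C ⧸ R))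
  let ψ : normalizer (L.D : Set G) →* NS ⧸ S.subgroupOf NS :=
    (QuotientGroup.mk' _).comp
      (MonoidHom.mk' (fun x => (⟨π ⟨x.1, L.norm_D_le_cent_r x.2⟩, hmapN x⟩ : NS))
        (fun x y => Subtype.ext (by
          show π _ = π _ * π _
          rw [← map_mul]; rfl)))
  have hψs : Function.Surjective ψ := by
    intro y
    obtain ⟨⟨y, hy⟩, rfl⟩ := QuotientGroup.mk'_surjective _ y
    obtain ⟨x, rfl⟩ := QuotientGroup.mk'_surjective R y
    exact ⟨⟨x.1, hnorm x hy⟩, rfl⟩
  have hψk : ψ.ker = (centralizer (L.D : Set G)).subgroupOf (normalizer (L.D : Set G)) := by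
    ext x
    rw [MonoidHom.mem_ker, mem_subgroupOf]
    show (QuotientGroup.mk' _ _ = (1 : NS ⧸ S.subgroupOf NS)) ↔ _
    rw [QuotientGroup.mk'_apply, QuotientGroup.eq_one_iff, mem_subgroupOf]
    show π ⟨x.1, L.norm_D_le_cent_r x.2⟩ ∈ S ↔ _
    constructor
    · rintro ⟨d, hd, e⟩
      have hmem : d⁻¹ * ⟨x.1, L.norm_D_le_cent_r x.2⟩ ∈ R := QuotientGroup.eq.mp e
      rcases hmemR hmem with h | h
      · have : (d : G) = x.1 := inv_mul_eq_one.mp (by simpa using h)
        rw [← this]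
        exact L.mem_centralizer_D.mpr ⟨L.D_comm hd L.z_mem, L.D_comm hd L.w_mem⟩
      · have hx : x.1 = (d : G) * L.r := by rw [← h]; simp
        rw [hx]
        exact mul_mem (L.mem_centralizer_D.mpr ⟨L.D_comm hd L.z_mem, L.D_comm hd L.w_mem⟩)
          L.r_mem_centralizer_D
    · intro hx
      obtain ⟨hz, hw⟩ := L.mem_centralizer_D.mp hx
      rcases L.centralizer_D_cases hz hw with h | h
      · exact ⟨⟨x.1, L.norm_D_le_cent_r x.2⟩, h, rfl⟩
      · refine ⟨⟨x.1, L.norm_D_le_cent_r x.2⟩ * ⟨L.r, hrC⟩⁻¹, h, ?_⟩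
        rw [map_mul, map_inv, show π ⟨L.r, hrC⟩ = 1 from
          (QuotientGroup.eq_one_iff _).mpr (mem_subgroupOf.mpr (mem_zpowers L.r))]
        simp [π]
  obtain ⟨f, hfs, hfk⟩ := L.dih
  have eN : NS ⧸ S.subgroupOf NS ≃* DihedralGroup 4 :=
    (QuotientGroup.quotientKerEquivOfSurjective ψ hψs).symm.trans
      ((QuotientGroup.quotientMulEquivOfEq (hψk.trans hfk.symm)).trans
        (QuotientGroup.quotientKerEquivOfSurjective f hfs))
  rcases Cfsg.Agent.S3333.result P S rfl hScard hcS eN hcent with hn | ⟨⟨e⟩⟩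
  · left
    refine le_antisymm (fun x hx => ?_) L.norm_D_le_cent_r
    refine hnorm ⟨x, hx⟩ ?_
    show π ⟨x, hx⟩ ∈ normalizer (S : Set (C ⧸ R))
    rw [normalizer_eq_top_iff.mpr hn]
    exact mem_top _
  · right
    refine ⟨e.toMonoidHom.comp π, e.surjective.comp (QuotientGroup.mk'_surjective R), ?_⟩
    ext x
    rw [MonoidHom.mem_ker]
    show e (π x) = 1 ↔ x ∈ R
    rw [map_eq_one_iff _ e.injective]
    exact QuotientGroup.eq_one_iff x

end Finite

end Datum

end CfsgLib.SymEightThreeLocal
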