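import Cfsg.Agent.Lib.Generators.CoxeterSn
import Cfsg.Agent.Lib.SymEightThreeLocal.CaseEightModel
import Cfsg.Agent.Lib.SymEightThreeLocal.Lemmas

/-!
The symmetric case of S3330: the homomorphism from the symmetric group of degree eight.
-/

set_option autoImplicit false
set_option linter.unusedSectionVars false
set_option maxRecDepth 100000

namespace CfsgLib.SymEightThreeLocal

open Equiv Subgroup

universe u

/-- The transposition of two right points in the model. -/
def mT (a b : Fin 5) : M := (1, swap a b)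

/-- The preimages of six of the Moore generators under the model map. -/
def preOne (k : Fin 7) : M := ![mi, (swap 1 2, 1), 1, mjOdd, mT 1 2, mT 2 3, mr] k

/-- The preimages of six of the Moore generators under the twisted model map. -/
def preTwo (c : M) (k : Fin 7) : M := ![mT 0 1, mT 1 2, c, mr, 1, mz⁻¹ * mi * mz, mi] k

/-- The Coxeter exponents. -/
def expA (a b : Fin 7) : ℕ :=
  if a = b then 1 else if (b : ℕ) + 1 = a ∨ (a : ℕ) + 1 = b then 3 else 2

theorem pre_one_rel : ∀ a b : Fin 7, a ≠ 2 → b ≠ 2 → (preOne a * preOne b) ^ expA a b = 1 := by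
  decide +kernel

theorem pre_two_rel : ∀ c ∈ [mT 2 3, mT 2 4], ∀ a b : Fin 7, a ≠ 4 → b ≠ 4 →
    (preTwo c a * preTwo c b) ^ expA a b = 1 := by decide +kernel

namespace Datum

variable {G : Type u} [Group G] (L : Datum G)

/-- The twisted model map. -/
def φ₂ : M →* G :=
  (MulAut.conj L.s).toMonoidHom.comp ((MulAut.conj L.t).toMonoidHom.comp L.φ)

theorem φ₂_apply (p : M) : L.φ₂ p = L.φ ms * (L.t * L.φ p * L.t⁻¹) * (L.φ ms)⁻¹ := rfl

theorem φ₂_inj : Function.Injective L.φ₂ :=
  (MulAut.conj L.s).injective.comp ((MulAut.conj L.t).injective.comp L.φ_inj)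

theorem φ_conj {p q r : M} (h : p * q * p⁻¹ = r) : L.φ p * L.φ q * (L.φ p)⁻¹ = L.φ r := by
  rw [← h, map_mul, map_mul, map_inv]

theorem φ₂_conj {p q r : M} (h : p * q * p⁻¹ = r) : L.φ₂ p * L.φ₂ q * (L.φ₂ p)⁻¹ = L.φ₂ r := by
  rw [← h, map_mul, map_mul, map_inv]

theorem t_swap {x y : G} (h : L.t * x * L.t = y) : L.t * y * L.t = x := by
  rw [← h, show L.t * (L.t * x * L.t) * L.t = (L.t * L.t) * x * (L.t * L.t) by group, L.t_sq, one_mul, mul_one]

variable (hP : L.CaseP)
include hP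

theorem φ₂_mr : L.φ₂ mr = L.φ mjOdd := by
  rw [φ₂_apply, t_inv, L.tr]
  exact L.φ_conj (by decide +kernel)

theorem φ₂_mi : L.φ₂ mi = L.φ mr := by
  rw [φ₂_apply, t_inv, show L.t * L.φ mi * L.t = L.φ mjOdd from hP]
  exact L.φ_conj (by decide +kernel)

theorem φ₂_zero_one : L.φ₂ (mT 0 1) = L.φ mi := by
  have h : L.t * L.φ mi * L.t = L.φ (mT 0 1) := hP
  rw [φ₂_apply, t_inv, L.t_swap h]
  exact L.φ_conj (by decide +kernel)

theorem φ₂_mz : L.φ₂ mz = L.φ (ms * mw * ms⁻¹) := by
  rw [φ₂_apply, t_inv, L.tz, ← map_inv, ← map_mul, ← map_mul]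

theorem φ₂_mw : L.φ₂ mw = L.φ mz := by
  rw [φ₂_apply, t_inv, L.t_swap L.tz]
  exact L.φ_conj (by decide +kernel)

theorem φ₂_one_two : L.φ₂ (mT 1 2) = L.φ (swap 1 2, 1) := by
  rw [← L.φ₂_conj (p := mw) (q := mT 0 1) (r := mT 1 2) (by decide +kernel), φ₂_mw L hP,
    φ₂_zero_one L hP]
  exact L.φ_conj (by decide +kernel)

theorem φ₂_two_three : L.φ₂ (mz⁻¹ * mi * mz) = L.φ (mT 2 3) := by
  rw [map_mul, map_mul, map_inv, φ₂_mz L hP, φ₂_mi L hP, ← map_inv, ← map_mul, ← map_mul]
  exact congrArg L.φ (by decide +kernel)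

variable [Finite G]

theorem not_isR_mjEven : ¬ L.IsR (L.φ mjEven) := by
  rw [L.isR_phi (show mjEven * mz = mz * mjEven by decide +kernel)]
  decide +kernel

theorem not_isR_i_r : ¬ L.IsR (L.φ (mi * mr)) := by
  intro h
  refine not_isR_mjEven L hP ?_
  have h' := L.isR_conj L.t h
  rwa [t_inv, map_mul, show L.t * (L.φ mi * L.φ mr) * L.t = (L.t * L.φ mi * L.t) * (L.t * L.φ mr * L.t) by
    rw [show (L.t * L.φ mi * L.t) * (L.t * L.φ mr * L.t) = L.t * L.φ mi * (L.t * L.t) * L.φ mr * L.t by group,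
      L.t_sq]; group, show L.t * L.φ mi * L.t = L.φ mjOdd from hP, L.tr, ← map_mul,
    show mjOdd * mr = mjEven by decide +kernel] at h'

omit hP

theorem isR_transp {a b : Fin 5} (hab : a ≠ b) : L.IsR (L.φ (mT a b)) :=
  (L.isR_phi (Prod.ext (by simp [mT]) (by simp [mT, mz]))).2 ⟨a, b, hab, rfl⟩

theorem isR_φ₂ {p : M} (h : L.IsR (L.φ p)) : L.IsR (L.φ₂ p) :=
  L.isR_conj _ (L.isR_conj _ h)

include hP

theorem mem_cent_r_right (π : Perm (Fin 5)) : L.φ₂ (1, π) ∈ centralizer ({L.r} : Set G) := by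
  rw [mem_centralizer_singleton_iff, show L.r = L.φ₂ mi from (φ₂_mi L hP).symm, ← map_mul, ← map_mul]
  congr 1

theorem exists_six : ∃ e : centralizer ({L.r} : Set G) →* Perm (Fin 6),
    Function.Surjective e ∧ e.ker = (zpowers L.r).subgroupOf (centralizer ({L.r} : Set G)) := by
  refine L.cent_r_cases.resolve_left fun h => ?_
  let f : Perm (Fin 5) →* centralizer ({L.r} : Set G) :=
    (L.φ₂.comp (MonoidHom.inr _ _)).codRestrict _ fun π => mem_cent_r_right L hP π
  have hf : Function.Injective f := fun a b e =>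
    congrArg Prod.snd (L.φ₂_inj (congrArg Subtype.val e) : ((1, a) : M) = (1, b))
  have h1 := Subgroup.card_dvd_of_injective f hf
  rw [h, L.card_norm_D, Nat.card_perm, Nat.card_fin] at h1
  norm_num at h1

/-- The choice of the third generator. -/
theorem exists_third : ∃ c ∈ [mT 2 3, mT 2 4], Commute (L.φ₂ c) (L.φ (mT 1 2)) := by
  obtain ⟨e, -, hker⟩ := exists_six L hP
  let C := centralizer ({L.r} : Set G)
  change C →* _ at e
  let f : Perm (Fin 5) →* C :=
    (L.φ₂.comp (MonoidHom.inr _ _)).codRestrict _ fun π => mem_cent_r_right L hP π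
  have hx : L.φ (mT 1 2) ∈ C := by
    rw [mem_centralizer_singleton_iff, show L.r = L.φ mr from rfl, ← map_mul, ← map_mul]
    congr 1
    decide +kernel
  let x : C := ⟨L.φ (mT 1 2), hx⟩
  have hr : ∀ {y : C}, e y = 1 → (y : G) = 1 ∨ (y : G) = L.r := by
    intro y hy
    obtain ⟨k, hk⟩ := mem_zpowers_iff.1 (mem_subgroupOf.1 ((SetLike.ext_iff.1 hker y).1 hy))
    have h2 : L.r ^ (2 : ℤ) = 1 := by
      rw [zpow_two, show L.r = L.φ mr from rfl, ← map_mul, show mr * mr = (1 : M) by decide +kernel, map_one]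
    rcases Int.even_or_odd k with ⟨m, rfl⟩ | ⟨m, rfl⟩
    · left; rw [← hk, ← two_mul, zpow_mul, h2, one_zpow]
    · right; rw [← hk, _root_.zpow_add, zpow_mul, h2, one_zpow, one_mul, zpow_one]
  have hf : ∀ π, e (f π) = 1 → π = 1 := by
    intro π h
    rcases hr h with h' | h'
    · exact congrArg Prod.snd (L.φ₂_inj (h'.trans (map_one _).symm) : ((1, π) : M) = 1)
    · exact absurd (congrArg Prod.fst (L.φ₂_inj (h'.trans (φ₂_mi L hP).symm) : ((1, π) : M) = mi))
        (show (1 : Perm (Fin 3)) ≠ swap 0 1 by decide)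
  have hne : ∀ a b : Perm (Fin 5), a ≠ b → e (f a) ≠ e (f b) := fun a b hab h => hab (by
    refine (inv_mul_eq_one.1 (hf _ ?_))
    rw [map_mul, map_mul, map_inv, map_inv, h, inv_mul_cancel])
  have hsq : x * x = 1 := Subtype.ext (by
    show L.φ (mT 1 2) * L.φ (mT 1 2) = 1
    rw [← map_mul, show mT 1 2 * mT 1 2 = (1 : M) by decide +kernel, map_one])
  have inφ : ∀ {y : C} {p : M}, (y : G) = L.φ p → e y = 1 → p = 1 ∨ p = mr := fun {y p} hy h => by
    rcases hr h with h' | h'
    · exact Or.inl (L.φ_inj ((hy.symm.trans h').trans (map_one _).symm))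
    · exact Or.inr (L.φ_inj (hy.symm.trans h'))
  have hJ : (f (swap 3 4) : G) = L.φ mjOdd := φ₂_mr L hP
  have hI : (f (swap 0 1) : G) = L.φ mi := φ₂_zero_one L hP
  have hS : (f (swap 1 2) : G) = L.φ (swap 1 2, 1) := φ₂_one_two L hP
  have hx1 : e x ≠ 1 := fun h => by
    rcases inφ (p := mT 1 2) rfl h with h' | h' <;> revert h' <;> decide +kernel
  have hxj : e x ≠ e (f (swap 3 4)) := fun h => by
    have h' : e ((f (swap 3 4))⁻¹ * x) = 1 := by rw [map_mul, map_inv, h, inv_mul_cancel]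
    rcases inφ (p := mjOdd⁻¹ * mT 1 2) (by rw [map_mul, map_inv, ← hJ]; rfl) h' with h'' | h'' <;>
      revert h'' <;> decide +kernel
  have comm : ∀ {y : C} {p : M}, (y : G) = L.φ p → p * mT 1 2 = mT 1 2 * p → y * x = x * y :=
    fun {y p} hy h => Subtype.ext (by
      show (y : G) * L.φ (mT 1 2) = L.φ (mT 1 2) * y
      rw [hy, ← map_mul, ← map_mul, h])
  have tr : ∀ {a b : Perm (Fin 5)}, a = b → e (f a) = e (f b) := fun h => by rw [h]
  have key := six_choice (I := e (f (swap 0 1))) (S := e (f (swap 1 2))) (J := e (f (swap 3 4)))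
    (A := e (f (swap 2 3))) (X := e x)
    (by rw [← map_mul, ← map_mul, swap_mul_self, map_one, map_one])
    (by rw [← map_mul, ← map_mul, swap_mul_self, map_one, map_one])
    (by rw [← map_mul, ← map_mul, swap_mul_self, map_one, map_one])
    (by rw [← map_mul, ← map_mul, swap_mul_self, map_one, map_one])
    (by rw [← map_mul, hsq, map_one])
    (fun h => by have := hf _ h; revert this; decide +kernel) (fun h => by have := hf _ h; revert this; decide +kernel)
    (fun h => by have := hf _ h; revert this; decide +kernel) (fun h => by have := hf _ h; revert this; decide +kernel)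
    hx1 (hne _ _ (by decide +kernel))
    (by simp only [← map_mul]; exact tr (by decide +kernel))
    (by simp only [← map_mul]; exact tr (by decide +kernel))
    (by simp only [← map_mul]; exact tr (by decide +kernel)) (hne _ _ (by decide +kernel))
    (by simp only [← map_mul]; exact tr (by decide +kernel))
    (by simp only [← map_mul]; exact tr (by decide +kernel))
    (by simp only [← map_mul]; exact tr (by decide +kernel))
    hxj (by rw [← map_mul, ← map_mul, comm hI (by decide +kernel)])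
    (by rw [← map_mul, ← map_mul, comm hS (by decide +kernel)])
    (by
      rw [← map_mul, ← map_mul, ← map_mul, ← map_mul]
      refine congrArg e (Subtype.ext ?_)
      show (f (swap 3 4) : G) * L.φ (mT 1 2) * (f (swap 3 4) : G) = L.φ (mT 1 2) * (f (swap 3 4) : G) * L.φ (mT 1 2)
      rw [hJ, ← map_mul, ← map_mul, ← map_mul, ← map_mul]
      exact congrArg L.φ (by decide +kernel))
  -- lifting
  have lift : ∀ {c : M} {π : Perm (Fin 5)}, c = (1, π) → L.IsR (L.φ c) →
      ¬ L.IsR (L.φ (mi * c)) → e (f π) * e x = e x * e (f π) → Commute (L.φ₂ c) (L.φ (mT 1 2)) := by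
    intro c π hc hR hnR h
    subst hc
    have h' : e ((x * f π)⁻¹ * (f π * x)) = 1 := by
      rw [map_mul, map_inv, map_mul, map_mul, h, inv_mul_cancel]
    rcases hr h' with h1 | h1
    · exact (inv_mul_eq_one.1 h1).symm
    · exfalso
      refine hnR ?_
      have hA : (f π : G) * L.φ (mT 1 2) = L.φ (mT 1 2) * (f π : G) * L.r := by
        have h1' : (L.φ (mT 1 2) * (f π : G))⁻¹ * ((f π : G) * L.φ (mT 1 2)) = L.r := h1
        rw [inv_mul_eq_iff_eq_mul] at h1'
        exact h1'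
      have hR2 : L.IsR (L.φ₂ (mi * (1, π))) := by
        have hxx : L.φ (mT 1 2) * L.φ (mT 1 2) = 1 := congrArg Subtype.val hsq
        have e1 : L.φ₂ (mi * (1, π)) = L.φ (mT 1 2) * L.φ₂ (1, π) * (L.φ (mT 1 2))⁻¹ := by
          rw [map_mul, φ₂_mi L hP, inv_eq_of_mul_eq_one_right hxx, mul_assoc,
            show L.φ₂ (1, π) * L.φ (mT 1 2) = L.φ (mT 1 2) * L.φ₂ (1, π) * L.r from hA,
            ← mul_assoc, ← mul_assoc, hxx, one_mul]
          exact (mem_centralizer_singleton_iff.1 (mem_cent_r_right L hP π)).symm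
        rw [e1]
        exact L.isR_conj _ (L.isR_φ₂ hR)
      have h3 := L.isR_conj (L.t⁻¹) (L.isR_conj (L.φ ms)⁻¹ hR2)
      rw [φ₂_apply] at h3
      simpa [mul_assoc] using h3
  have nR : ∀ {c : M}, (∃ g : M, g * (mi * c) * g⁻¹ = mi * mr) → ¬ L.IsR (L.φ (mi * c)) := by
    rintro c ⟨g, hg⟩ h
    have h' := L.isR_conj (L.φ g) h
    rw [L.φ_conj hg] at h'
    exact not_isR_i_r L hP h'
  rcases key with h | h
  · exact ⟨mT 2 3, by simp, lift (π := swap 2 3) rfl (L.isR_transp (by decide))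
      (nR ⟨(1, swap 2 4), by decide +kernel⟩) h⟩
  · refine ⟨mT 2 4, by simp, lift (π := swap 2 4) rfl (L.isR_transp (by decide))
      (nR ⟨(1, swap 2 3), by decide +kernel⟩) ?_⟩
    rw [show (swap 2 4 : Perm (Fin 5)) = swap 3 4 * swap 2 3 * swap 3 4 by decide +kernel]
    simp only [map_mul]
    exact h

/-- The homomorphism from the symmetric group of degree eight. -/
theorem exists_theta : ∃ θ : Perm (Fin 8) →* G, Function.Injective θ ∧ θ (swap 0 1) = L.φ mi ∧
    θ (swap 1 2) = L.φ (swap 1 2, 1) ∧ θ (swap 3 4) = L.φ mjOdd ∧ θ (swap 4 5) = L.φ (mT 1 2) ∧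
    θ (swap 5 6) = L.φ (mT 2 3) ∧ θ (swap 6 7) = L.φ mr := by
  obtain ⟨c, hc, hcc⟩ := exists_third L hP
  let g : Fin 7 → G := fun k => if k = 2 then L.φ₂ c else L.φ (preOne k)
  have hg2 : ∀ k : Fin 7, k ≠ 4 → g k = L.φ₂ (preTwo c k) := by
    intro k hk
    fin_cases k
    · simp [g, preOne, preTwo, φ₂_zero_one L hP]
    · simp [g, preOne, preTwo, φ₂_one_two L hP]
    · simp [g, preTwo]
    · simp [g, preOne, preTwo, φ₂_mr L hP]
    · exact absurd rfl hk
    · simp [g, preOne, preTwo, φ₂_two_three L hP]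
    · simp [g, preOne, preTwo, φ₂_mi L hP]
  have hA : ∀ a b : Fin 7, CoxeterMatrix.A 7 a b = expA a b := fun a b => rfl
  have hlift : (CoxeterMatrix.A 7).IsLiftable g := by
    intro a b
    rw [hA]
    by_cases ha : a ≠ 2 ∧ b ≠ 2
    · simp only [g, ha.1, ha.2, if_false]
      rw [← map_mul, ← map_pow, pre_one_rel a b ha.1 ha.2, map_one]
    by_cases hb : a ≠ 4 ∧ b ≠ 4
    · rw [hg2 a hb.1, hg2 b hb.2, ← map_mul, ← map_pow, pre_two_rel c hc a b hb.1 hb.2, map_one]
    have sq : ∀ p : M, p * p = 1 → L.φ p * L.φ p = 1 := fun p h => by rw [← map_mul, h, map_one]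
    have hc2 : L.φ₂ c * L.φ₂ c = 1 := by
      have := pre_two_rel c hc 2 2 (by decide) (by decide)
      rw [show expA 2 2 = 1 from rfl, pow_one] at this
      rw [← map_mul, show c * c = 1 from this, map_one]
    have hd : (a = 2 ∧ b = 4) ∨ (a = 4 ∧ b = 2) := by
      revert ha hb; revert a b; decide
    rcases hd with ⟨rfl, rfl⟩ | ⟨rfl, rfl⟩
    · rw [show expA 2 4 = 2 from rfl, show g 2 = L.φ₂ c from rfl, show g 4 = L.φ (mT 1 2) from rfl,
        hcc.mul_pow, pow_two, pow_two, hc2, sq _ (by decide +kernel), mul_one]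
    · rw [show expA 4 2 = 2 from rfl, show g 2 = L.φ₂ c from rfl, show g 4 = L.φ (mT 1 2) from rfl,
        hcc.symm.mul_pow, pow_two, pow_two, hc2, sq _ (by decide +kernel), mul_one]
  obtain ⟨cs, hcs⟩ := CfsgLib.Generators.exists_coxeterSystem_perm 7
  let θ : Perm (Fin 8) →* G := cs.lift ⟨g, hlift⟩
  have hθ : ∀ k : Fin 7, θ (swap k.castSucc k.succ) = g k := fun k => by
    rw [← hcs k]; exact cs.lift_apply_simple hlift k
  have v : ∀ k : Fin 7, k ≠ 2 → θ (swap k.castSucc k.succ) = L.φ (preOne k) := fun k hk => by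
    rw [hθ]; exact if_neg hk
  refine ⟨θ, ?_, v 0 (by decide), v 1 (by decide), v 3 (by decide), v 4 (by decide), v 5 (by decide),
    v 6 (by decide)⟩
  rw [← MonoidHom.ker_eq_bot_iff]
  by_contra hne
  have hA8 := Equiv.Perm.alternatingGroup_le_of_normal (α := Fin 8) (by simp)
    ((Subgroup.nontrivial_iff_ne_bot _).2 hne)
  have hm : (swap 3 4 * swap 4 5 : Perm (Fin 8)) ∈ θ.ker := hA8 (by
    rw [Equiv.Perm.mem_alternatingGroup, map_mul, Equiv.Perm.sign_swap (by decide),
      Equiv.Perm.sign_swap (by decide)]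
    rfl)
  rw [MonoidHom.mem_ker, map_mul, show θ (swap 3 4) = L.φ mjOdd from v 3 (by decide),
    show θ (swap 4 5) = L.φ (mT 1 2) from v 4 (by decide), ← map_mul] at hm
  have h1 : mjOdd * mT 1 2 = 1 := L.φ_inj (hm.trans (map_one _).symm)
  revert h1; decide +kernel

end Datum

end CfsgLib.SymEightThreeLocal
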