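import Cfsg.Agent.Lib.InvChar.Transfer
import Cfsg.Agent.Lib.SymEightThreeLocal.CaseEightHom

/-!
The symmetric case of S3330: fusion of `r` inside the image of the symmetric group of degree eight, and
the subgroup of index two.
-/

set_option autoImplicit false
set_option linter.unusedSectionVars false
set_option maxRecDepth 100000

namespace CfsgLib.SymEightThreeLocal

open Equiv Subgroup

universe u

/-- The product of the two three-cycles in the symmetric group of degree eight. -/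
def eY : Perm (Fin 8) := swap 0 1 * swap 1 2 * (swap 3 4 * swap 4 5)
/-- An involution centralizing `eY`, interchanging the supports. -/
def eA : Perm (Fin 8) := swap 0 3 * swap 1 4 * swap 2 5 * swap 6 7
/-- An involution normalizing both three-cycles, inverting the first. -/
def eB : Perm (Fin 8) := swap 0 1 * swap 6 7
/-- An involution inverting `eY`. -/
def eV : Perm (Fin 8) := swap 0 1 * swap 3 4

theorem conj_of_support_card {σ τ : Perm (Fin 8)} (hσ : σ * σ = 1) (hτ : τ * τ = 1)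
    (h : σ.support.card = τ.support.card) : IsConj σ τ := by
  have key : ∀ ρ : Perm (Fin 8), ρ * ρ = 1 →
      ρ.cycleType = Multiset.replicate (ρ.support.card / 2) 2 := by
    intro ρ hρ
    have h2 : ∀ a ∈ ρ.cycleType, a = 2 := fun a ha => by
      have h1 := Equiv.Perm.dvd_of_mem_cycleType ha
      have h2 := Equiv.Perm.two_le_of_mem_cycleType ha
      have h3 : orderOf ρ ∣ 2 := orderOf_dvd_of_pow_eq_one (by rw [pow_two, hρ])
      exact le_antisymm (Nat.le_of_dvd two_pos (h1.trans h3)) h2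
    have hr := Multiset.eq_replicate_card.2 h2
    have hs : ρ.cycleType.sum = ρ.support.card := Equiv.Perm.sum_cycleType ρ
    rw [hr, Multiset.sum_replicate, smul_eq_mul] at hs
    rw [hr, ← hs, Nat.mul_div_cancel _ two_pos]
  exact Equiv.Perm.isConj_iff_cycleType_eq.2 (by rw [key σ hσ, key τ hτ, h])

theorem invol_eight {σ : Perm (Fin 8)} (hσ : σ * σ = 1) (h1 : σ ≠ 1) :
    IsConj σ (swap 6 7) ∨ IsConj σ (swap 3 4 * swap 5 6) ∨
      IsConj σ (swap 0 3 * swap 1 4 * swap 2 5) ∨ IsConj σ eA := by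
  have hle : σ.support.card ≤ 8 := by simpa using Finset.card_le_univ σ.support
  have hev : 2 ∣ σ.support.card := by
    rw [← Equiv.Perm.sum_cycleType]
    refine Multiset.dvd_sum fun a ha => ?_
    have h3 : orderOf σ ∣ 2 := orderOf_dvd_of_pow_eq_one (by rw [pow_two, hσ])
    have := Equiv.Perm.two_le_of_mem_cycleType ha
    exact (le_antisymm (Nat.le_of_dvd two_pos ((Equiv.Perm.dvd_of_mem_cycleType ha).trans h3)) this) ▸ dvd_rfl
  have h0 : σ.support.card ≠ 0 := by
    simp [Equiv.Perm.card_support_eq_zero, h1]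
  obtain ⟨k, hk⟩ := hev
  have hk' : k = 1 ∨ k = 2 ∨ k = 3 ∨ k = 4 := by omega
  rcases hk' with rfl | rfl | rfl | rfl
  · exact Or.inl (conj_of_support_card hσ (by decide +kernel) (hk.trans (by decide +kernel)))
  · exact Or.inr (Or.inl (conj_of_support_card hσ (by decide +kernel) (hk.trans (by decide +kernel))))
  · exact Or.inr (Or.inr (Or.inl (conj_of_support_card hσ (by decide +kernel) (hk.trans (by decide +kernel)))))
  · exact Or.inr (Or.inr (Or.inr (conj_of_support_card hσ (by decide +kernel) (hk.trans (by decide +kernel)))))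

namespace Datum

variable {G : Type u} [Group G] (L : Datum G) [Finite G]

/-- The homomorphism from the symmetric group of degree eight with its named values. -/
def IsTheta (θ : Perm (Fin 8) →* G) : Prop :=
  Function.Injective θ ∧ θ (swap 0 1) = L.φ mi ∧ θ (swap 1 2) = L.φ (swap 1 2, 1) ∧
    θ (swap 3 4) = L.φ mjOdd ∧ θ (swap 4 5) = L.φ (mT 1 2) ∧ θ (swap 5 6) = L.φ (mT 2 3) ∧
    θ (swap 6 7) = L.φ mr

variable {θ : Perm (Fin 8) →* G}

theorem theta_z (hθ : L.IsTheta θ) : θ (swap 0 1 * swap 1 2) = L.z := by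
  rw [map_mul, hθ.2.1, hθ.2.2.1, ← map_mul]
  exact congrArg L.φ (by decide +kernel)

theorem theta_w (hθ : L.IsTheta θ) : θ (swap 3 4 * swap 4 5) = L.w := by
  rw [map_mul, hθ.2.2.2.1, hθ.2.2.2.2.1, ← map_mul]
  exact congrArg L.φ (by decide +kernel)

theorem theta_r (hθ : L.IsTheta θ) : θ (swap 6 7) = L.r := hθ.2.2.2.2.2.2

theorem theta_y (hθ : L.IsTheta θ) : θ eY = L.z * L.w := by
  rw [eY, map_mul, L.theta_z hθ, L.theta_w hθ]

theorem isR_theta_swap (hθ : L.IsTheta θ) {a b : Fin 8} (hab : a ≠ b) : L.IsR (θ (swap a b)) := by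
  obtain ⟨c, hc⟩ := isConj_iff.1 (Equiv.Perm.isConj_swap (show (6 : Fin 8) ≠ 7 by decide) hab)
  refine ⟨θ c, ?_⟩
  rw [← L.theta_r hθ, ← map_inv, ← map_mul, ← map_mul, hc]

theorem exists_of_isR_mem (hP : L.CaseP) (hθ : L.IsTheta θ) {x : G} (hx : L.IsR x) (hxH : x ∈ θ.range) :
    ∃ σ : Perm (Fin 8), θ σ = x ∧ IsConj σ (swap 6 7) := by
  obtain ⟨σ, rfl⟩ := hxH
  refine ⟨σ, rfl, ?_⟩
  obtain ⟨g, hg⟩ := hx
  have hr : L.r * L.r = 1 := by
    show L.φ mr * L.φ mr = 1
    rw [← map_mul, show mr * mr = (1 : M) by decide +kernel, map_one]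
  have hσ : σ * σ = 1 := hθ.1 (by
    rw [map_mul, map_one, ← hg, show g * L.r * g⁻¹ * (g * L.r * g⁻¹) = g * (L.r * L.r) * g⁻¹ by group, hr]
    group)
  have h1 : σ ≠ 1 := fun e => by
    rw [e, map_one, conj_eq_one_iff] at hg
    have : mr = (1 : M) := L.φ_inj (hg.trans (map_one _).symm)
    revert this; decide +kernel
  have hR : ∀ τ, IsConj σ τ → L.IsR (θ τ) := fun τ hτ => by
    obtain ⟨c, rfl⟩ := isConj_iff.1 hτ
    rw [map_mul, map_mul, map_inv]
    exact L.isR_conj _ ⟨g, hg⟩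
  have hy : ∀ τ, IsConj σ τ → τ * eY = eY * τ → τ = swap 6 7 := fun τ hτ hc => by
    refine hθ.1 ((L.eq_r_of_commute_zw (hR τ hτ) ?_).trans (L.theta_r hθ).symm)
    rw [← L.theta_y hθ]
    show θ τ * θ eY = θ eY * θ τ
    rw [← map_mul, ← map_mul, hc]
  rcases invol_eight hσ h1 with h | h | h | h
  · exact h
  · exfalso
    have h' := hR _ h
    rw [map_mul, hθ.2.2.2.1, hθ.2.2.2.2.2.1, ← map_mul,
      L.isR_phi (show mjOdd * mT 2 3 * mz = mz * (mjOdd * mT 2 3) by decide +kernel)] at h'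
    revert h'; decide +kernel
  · have := hy _ h (by decide +kernel)
    exact this ▸ h
  · have := hy _ h (by decide +kernel)
    exact this ▸ h

/-- The pair of embedded symmetric groups of degree six and two. -/
def sixTwo : Perm (Fin 6) × Perm (Fin 2) →* Perm (Fin 8) :=
  (Equiv.permCongrHom (finSumFinEquiv : Fin 6 ⊕ Fin 2 ≃ Fin 8)).toMonoidHom.comp
    (Equiv.Perm.sumCongrHom (Fin 6) (Fin 2))

theorem cent_r_le (hP : L.CaseP) (hθ : L.IsTheta θ) : centralizer ({L.r} : Set G) ≤ θ.range := by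
  obtain ⟨e, he, hker⟩ := exists_six L hP
  let C := centralizer ({L.r} : Set G)
  change C →* _ at e
  have hrC : L.r ∈ C := mem_centralizer_singleton_iff.2 rfl
  have hcard : Nat.card C = 1440 := by
    rw [← e.ker.card_mul_index, hker]
    have hi : ((zpowers L.r).subgroupOf C).index = 720 := by
      rw [← hker, Subgroup.index_ker, MonoidHom.range_eq_top.2 he, Subgroup.card_top, Nat.card_perm, Nat.card_fin]
      rfl
    rw [hi, Nat.card_congr (Subgroup.subgroupOfEquivOfLe (zpowers_le.2 hrC)).toEquiv, Nat.card_zpowers,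
      show L.r = L.φ mr from rfl, orderOf_injective L.φ L.φ_inj, orderOf_eq_prime (p := 2) (by decide +kernel)
        (by decide +kernel)]
  have hs : Equiv.swap (6 : Fin 8) 7 = sixTwo (1, swap 0 1) := by decide +kernel
  let f : Perm (Fin 6) × Perm (Fin 2) →* C := (θ.comp sixTwo).codRestrict C fun p => by
    show _ ∈ centralizer ({L.r} : Set G)
    rw [mem_centralizer_singleton_iff, ← L.theta_r hθ, MonoidHom.comp_apply, ← map_mul, ← map_mul, hs,
      ← map_mul, ← map_mul]
    congr 2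
    refine Prod.ext (by simp) ?_
    have : ∀ a : Perm (Fin 2), a * swap 0 1 = swap 0 1 * a := by decide +kernel
    simpa using this p.2
  have hf : Function.Injective f := by
    intro p q h
    have h' := hθ.1 (congrArg Subtype.val h)
    exact Equiv.Perm.sumCongrHom_injective ((Equiv.permCongrHom _).injective h')
  have hsurj : Function.Surjective f := by
    refine ((Nat.bijective_iff_injective_and_card f).2 ⟨hf, ?_⟩).2
    rw [hcard, Nat.card_prod, Nat.card_perm, Nat.card_perm, Nat.card_fin, Nat.card_fin]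
    rfl
  intro x hx
  obtain ⟨p, hp⟩ := hsurj ⟨x, hx⟩
  exact ⟨sixTwo p, congrArg Subtype.val hp⟩

theorem odd_index (hP : L.CaseP) (hθ : L.IsTheta θ) : ¬ 2 ∣ θ.range.index := by
  classical
  set H := θ.range
  have hrH : L.r ∈ H := ⟨_, L.theta_r hθ⟩
  have hp : IsPGroup 2 (zpowers L.r) := IsPGroup.of_card (n := 1) (by
    rw [Nat.card_zpowers, show L.r = L.φ mr from rfl, orderOf_injective L.φ L.φ_inj,
      orderOf_eq_prime (p := 2) (by decide +kernel) (by decide +kernel), pow_one])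
  haveI : Fact (Nat.Prime 2) := ⟨Nat.prime_two⟩
  have hmod := hp.card_modEq_card_fixedPoints (G ⧸ H)
  have hfix : MulAction.fixedPoints (zpowers L.r) (G ⧸ H) = {((1 : G) : G ⧸ H)} := by
    ext q
    refine QuotientGroup.induction_on q fun g => ?_
    simp only [MulAction.mem_fixedPoints, Set.mem_singleton_iff]
    constructor
    · intro h
      have h' := h ⟨L.r, mem_zpowers _⟩
      change ((L.r * g : G) : G ⧸ H) = (g : G ⧸ H) at h'
      rw [QuotientGroup.eq] at h'
      have hmem : g⁻¹ * L.r * g ∈ H := by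
        have e : g⁻¹ * L.r * g = ((L.r * g)⁻¹ * g)⁻¹ := by group
        rw [e]; exact inv_mem h'
      obtain ⟨σ, hσ, hconj⟩ := L.exists_of_isR_mem hP hθ (x := g⁻¹ * L.r * g) ⟨g⁻¹, by group⟩ hmem
      obtain ⟨c, hc⟩ := isConj_iff.1 hconj
      have hk : g * (θ c)⁻¹ ∈ H := L.cent_r_le hP hθ (mem_centralizer_singleton_iff.2 (by
        have hr : L.r = θ c * (g⁻¹ * L.r * g) * (θ c)⁻¹ := by
          rw [← hσ, ← map_inv, ← map_mul, ← map_mul, hc, L.theta_r hθ]
        calc g * (θ c)⁻¹ * L.r = g * (θ c)⁻¹ * (θ c * (g⁻¹ * L.r * g) * (θ c)⁻¹) := by rw [← hr]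
          _ = L.r * (g * (θ c)⁻¹) := by group))
      refine QuotientGroup.eq.2 ?_
      rw [mul_one]
      exact inv_mem (by simpa using mul_mem hk (⟨c, rfl⟩ : θ c ∈ H))
    · rintro h ⟨x, hx⟩
      rw [h]
      change ((x * 1 : G) : G ⧸ H) = ((1 : G) : G ⧸ H)
      rw [QuotientGroup.eq, mul_one, mul_one]
      exact inv_mem ((zpowers_le.2 hrH) hx)
  intro h2
  rw [hfix, Nat.card_eq_fintype_card (α := ({((1 : G) : G ⧸ H)} : Set (G ⧸ H))), Set.card_singleton] at hmod
  rw [Subgroup.index] at h2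
  rw [Nat.ModEq, Nat.mod_eq_zero_of_dvd h2] at hmod
  norm_num at hmod

theorem exists_index_two (hP : L.CaseP) (hθ : L.IsTheta θ) :
    ∃ G₀ : Subgroup G, G₀.Normal ∧ G₀.index = 2 ∧ L.r ∉ G₀ := by
  haveI : Fact (Nat.Prime 2) := ⟨Nat.prime_two⟩
  have hr8 : (swap 6 7 : Perm (Fin 8)) * swap 6 7 = 1 := swap_mul_self _ _
  have hp : IsPGroup 2 (zpowers (swap 6 7 : Perm (Fin 8))) := IsPGroup.of_card (n := 1) (by
    rw [Nat.card_zpowers, orderOf_eq_prime (p := 2) (by rw [pow_two, hr8]) (by decide +kernel), pow_one])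
  obtain ⟨P, hP8⟩ := hp.exists_le_sylow
  have hPs : swap 6 7 ∈ (P : Subgroup (Perm (Fin 8))) := hP8 (mem_zpowers _)
  have hcardP : Nat.card ((P : Subgroup (Perm (Fin 8))).map θ) = 2 ^ (Nat.card G).factorization 2 := by
    rw [Nat.card_congr ((P : Subgroup (Perm (Fin 8))).equivMapOfInjective θ hθ.1).toEquiv.symm,
      P.card_eq_multiplicity]
    congr 1
    have e : Nat.card θ.range = Nat.card (Perm (Fin 8)) :=
      (Nat.card_congr (MonoidHom.ofInjective hθ.1).toEquiv).symm
    rw [← θ.range.card_mul_index, Nat.factorization_mul Nat.card_pos.ne' Subgroup.index_ne_zero_of_finite,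
      Finsupp.add_apply, Nat.factorization_eq_zero_of_not_dvd (L.odd_index hP hθ), e, add_zero]
  let S : Sylow 2 G := Sylow.ofCard _ hcardP
  let M' : Subgroup G := ((P : Subgroup (Perm (Fin 8))) ⊓ alternatingGroup (Fin 8)).map θ
  have hS : (S : Subgroup G) = (P : Subgroup (Perm (Fin 8))).map θ := rfl
  have hrS : L.r ∈ (S : Subgroup G) := hS ▸ ⟨_, hPs, L.theta_r hθ⟩
  have hM : M'.relIndex (S : Subgroup G) = 2 := by
    rw [hS, Subgroup.relIndex_map_map_of_injective _ _ hθ.1, inf_comm, Subgroup.inf_relIndex_right]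
    refine Subgroup.index_eq_two_iff.2 ⟨⟨_, hPs⟩, fun b => ?_⟩
    simp only [mem_subgroupOf, Subgroup.coe_mul, Equiv.Perm.mem_alternatingGroup, map_mul,
      Equiv.Perm.sign_swap (show (6 : Fin 8) ≠ 7 by decide)]
    rcases Int.units_eq_one_or (Equiv.Perm.sign (b : Perm (Fin 8))) with h | h <;> simp [h, Xor]
  have ho : orderOf L.r = 2 := by
    rw [show L.r = L.φ mr from rfl, orderOf_injective L.φ L.φ_inj,
      orderOf_eq_prime (p := 2) (by decide +kernel) (by decide +kernel)]
  obtain ⟨G₀, h1, h2, h3⟩ := CfsgLib.InvChar.exists_index_two_not_mem S M' hM 1 le_rfl (fun y _ hyM => by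
    rw [Nat.sub_self, pow_zero]
    refine lt_of_le_of_ne (orderOf_pos y) fun h => hyM ?_
    rw [orderOf_eq_one_iff.1 h.symm]
    exact one_mem _) L.r hrS (by rw [ho, pow_one]) fun g hg => by
    obtain ⟨σ, ⟨-, hσ⟩, e⟩ := hg
    obtain ⟨σ', hσ', hconj⟩ := L.exists_of_isR_mem hP hθ (x := g * L.r * g⁻¹) ⟨g, rfl⟩ ⟨σ, e⟩
    have : σ' = σ := hθ.1 (hσ'.trans e.symm)
    subst this
    obtain ⟨c, hc⟩ := isConj_iff.1 hconj
    have h' := congrArg Equiv.Perm.sign hc
    rw [map_mul, map_mul, map_inv, Equiv.Perm.mem_alternatingGroup.1 hσ,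
      Equiv.Perm.sign_swap (by decide)] at h'
    simp at h'
  exact ⟨G₀, h1, h2, h3⟩

end Datum

end CfsgLib.SymEightThreeLocal
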