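import Cfsg.Agent.Lib.TwoGroups.Basic
import Cfsg.Agent.Lib.SymEightThreeLocal.CaseEightFusion

/-!
The symmetric case of S3330: the subgroup of index two satisfies the hypotheses of S3329.
-/

set_option autoImplicit false
set_option linter.unusedSectionVars false
set_option maxRecDepth 100000

namespace CfsgLib.SymEightThreeLocal

open Equiv Subgroup

universe u

/-- The statement of S3329 at a given universe. -/
def AltEightRecognition : Prop :=
  ∀ {G : Type u} [Group G] [Finite G] (P : Sylow 3 G) (D : Subgroup G) (_ : D = P) (y z : G)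
    (_ : Subgroup.closure {y, z} = D) (_ : IsMulCommutative D) (_ : Nat.card D = 9)
    (_ : ∀ a ∈ D, a ^ 3 = 1) (_ : Subgroup.centralizer (D : Set G) = D)
    (_ : Subgroup.normalizer (D : Set G) ⧸ D.subgroupOf (Subgroup.normalizer (D : Set G)) ≃* DihedralGroup 4)
    (_ : (D.subgroupOf (Subgroup.centralizer ({y} : Set G))).Normal)
    (_ : Nat.card (Subgroup.centralizer ({y} : Set G)) = 18)
    (Ny : Subgroup G) (_ : Ny = Subgroup.normalizer (Subgroup.zpowers y : Set G))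
    (_ : D ≤ Ny) [(D.subgroupOf Ny).Normal]
    (_ : Nat.card (Ny ⧸ D.subgroupOf Ny) = 4) (_ : ∀ g : Ny ⧸ D.subgroupOf Ny, g ^ 2 = 1)
    (_ : Subgroup.centralizer ({z} : Set G) ≃* Multiplicative (ZMod 3) × alternatingGroup (Fin 5))
    (_ : Subgroup.normalizer (Subgroup.zpowers z : Set G) ≃*
      (((Equiv.Perm.sign).comp (MonoidHom.fst (Equiv.Perm (Fin 3)) (Equiv.Perm (Fin 5)))) *
        ((Equiv.Perm.sign).comp (MonoidHom.snd (Equiv.Perm (Fin 3)) (Equiv.Perm (Fin 5))))).ker),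
    Nonempty (G ≃* alternatingGroup (Fin 8))

theorem map_cent_singleton {G : Type u} [Group G] (K : Subgroup G) (a : K) :
    (centralizer ({a} : Set K)).map K.subtype = K ⊓ centralizer ({(a : G)} : Set G) := by
  ext x
  simp only [Subgroup.mem_map, Subgroup.mem_inf, mem_centralizer_singleton_iff]
  exact ⟨fun ⟨y, hy, e⟩ => e ▸ ⟨y.2, congrArg Subtype.val hy⟩,
    fun ⟨hx, hc⟩ => ⟨⟨x, hx⟩, Subtype.ext hc, rfl⟩⟩

theorem map_normalizer_subgroupOf {G : Type u} [Group G] {K D : Subgroup G} (h : D ≤ K) :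
    (normalizer ((D.subgroupOf K : Subgroup K) : Set K)).map K.subtype = K ⊓ normalizer (D : Set G) := by
  ext x
  simp only [Subgroup.mem_map, Subgroup.mem_inf, Subgroup.mem_normalizer_iff]
  constructor
  · rintro ⟨y, hy, rfl⟩
    refine ⟨y.2, fun d => ?_⟩
    constructor
    · intro hd
      exact mem_subgroupOf.1 ((hy ⟨d, h hd⟩).1 (mem_subgroupOf.2 hd))
    · intro hd
      have hdK : d ∈ K := by
        have := K.mul_mem (K.mul_mem (K.inv_mem y.2) (h hd)) y.2
        simpa [mul_assoc] using this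
      exact mem_subgroupOf.1 ((hy ⟨d, hdK⟩).2 (mem_subgroupOf.2 hd))
  · rintro ⟨hx, hn⟩
    exact ⟨⟨x, hx⟩, fun d => hn d, rfl⟩

theorem two_mul_card_inf {G : Type u} [Group G] [Finite G] {K N : Subgroup G} (hK : K.index = 2) {r : G}
    (hrN : r ∈ N) (hrK : r ∉ K) : 2 * Nat.card (K ⊓ N : Subgroup G) = Nat.card N := by
  have hi : (K.subgroupOf N).index = 2 := by
    refine Subgroup.index_eq_two_iff.2 ⟨⟨r, hrN⟩, fun b => ?_⟩
    simp only [mem_subgroupOf, Subgroup.coe_mul, Subgroup.mul_mem_iff_of_index_two hK, hrK, iff_false]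
    by_cases hb : (b : G) ∈ K <;> simp [hb, Xor]
  rw [← (K.subgroupOf N).card_mul_index, hi, mul_comm]
  congr 1
  rw [← Subgroup.subgroupOf_map_subtype, Subgroup.card_map_of_injective N.subtype_injective]

namespace Datum

variable {G : Type u} [Group G] (L : Datum G) [Finite G]

theorem mem_of_theta {θ : Perm (Fin 8) →* G} (hθ : L.IsTheta θ) {G₀ : Subgroup G} (hn : G₀.Normal)
    (hi : G₀.index = 2) (hr : L.r ∉ G₀) (σ : Perm (Fin 8)) :
    θ σ ∈ G₀ ↔ Equiv.Perm.sign σ = 1 := by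
  induction σ using Equiv.Perm.swap_induction_on with
  | one => simp
  | swap_mul σ a b hab ih =>
    have hns : θ (swap a b) ∉ G₀ := fun h => by
      obtain ⟨g, hg⟩ := L.isR_theta_swap hθ hab
      have h' := hn.conj_mem _ (hg ▸ h) g⁻¹
      exact hr (by rwa [show g⁻¹ * (g * L.r * g⁻¹) * g⁻¹⁻¹ = L.r by group] at h')
    rw [map_mul, map_mul, Subgroup.mul_mem_iff_of_index_two hi, Equiv.Perm.sign_swap hab, ih]
    rcases Int.units_eq_one_or (Equiv.Perm.sign σ) with h | h <;> simp [h, hns]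

theorem mem_of_phi {θ : Perm (Fin 8) →* G} (hθ : L.IsTheta θ) {G₀ : Subgroup G} (hn : G₀.Normal)
    (hi : G₀.index = 2) (hr : L.r ∉ G₀) (p : M) :
    L.φ p ∈ G₀ ↔ Equiv.Perm.sign p.1 * Equiv.Perm.sign p.2 = 1 := by
  have hl : ∀ σ : Perm (Fin 3), L.φ (σ, 1) ∈ G₀ ↔ Equiv.Perm.sign σ = 1 := fun σ => by
    induction σ using Equiv.Perm.swap_induction_on with
    | one => rw [show ((1 : Perm (Fin 3)), (1 : Perm (Fin 5))) = (1 : M) from rfl, map_one]; simp
    | swap_mul σ a b hab ih =>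
      have hns : L.φ (swap a b, 1) ∉ G₀ := fun h => by
        obtain ⟨c, hc⟩ := isConj_iff.1 (Equiv.Perm.isConj_swap hab (show (0 : Fin 3) ≠ 1 by decide))
        have h' := hn.conj_mem _ h (L.φ (c, 1))
        rw [L.φ_conj (r := mi) (by
          rw [Prod.mk_mul_mk, Prod.inv_mk, Prod.mk_mul_mk, hc]; simp [mi]), ← hθ.2.1,
          L.mem_of_theta hθ hn hi hr, Equiv.Perm.sign_swap (by decide)] at h'
        exact absurd h' (by decide)
      rw [show ((swap a b * σ, 1) : M) = (swap a b, 1) * (σ, 1) by rw [Prod.mk_mul_mk, one_mul], map_mul,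
        map_mul, Subgroup.mul_mem_iff_of_index_two hi, Equiv.Perm.sign_swap hab, ih]
      rcases Int.units_eq_one_or (Equiv.Perm.sign σ) with h | h <;> simp [h, hns]
  have hright : ∀ π : Perm (Fin 5), L.φ (1, π) ∈ G₀ ↔ Equiv.Perm.sign π = 1 := fun π => by
    induction π using Equiv.Perm.swap_induction_on with
    | one => rw [show ((1 : Perm (Fin 3)), (1 : Perm (Fin 5))) = (1 : M) from rfl, map_one]; simp
    | swap_mul π a b hab ih =>
      have hns : L.φ (mT a b) ∉ G₀ := fun h => by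
        obtain ⟨g, hg⟩ := L.isR_transp hab
        have h' := hn.conj_mem _ (hg ▸ h) g⁻¹
        exact hr (by rwa [show g⁻¹ * (g * L.r * g⁻¹) * g⁻¹⁻¹ = L.r by group] at h')
      rw [show ((1, swap a b * π) : M) = mT a b * (1, π) by rw [mT, Prod.mk_mul_mk, one_mul], map_mul,
        map_mul, Subgroup.mul_mem_iff_of_index_two hi, Equiv.Perm.sign_swap hab, ih]
      rcases Int.units_eq_one_or (Equiv.Perm.sign π) with h | h <;> simp [h, hns]
  obtain ⟨σ, π⟩ := p
  rw [show ((σ, π) : M) = (σ, 1) * (1, π) by rw [Prod.mk_mul_mk, mul_one, one_mul], map_mul,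
    Subgroup.mul_mem_iff_of_index_two hi, hl, hright]
  rcases Int.units_eq_one_or (Equiv.Perm.sign σ) with h | h <;>
    rcases Int.units_eq_one_or (Equiv.Perm.sign π) with h' | h' <;> simp [h, h']

variable {θ : Perm (Fin 8) →* G} {G₀ : Subgroup G}

theorem D_le_index_two (hn : G₀.Normal) (hi : G₀.index = 2) : L.D ≤ G₀ := by
  intro d hd
  have h3 : d ^ 3 ∈ G₀ := by rw [L.D_cube hd]; exact one_mem _
  rw [pow_succ, pow_two, Subgroup.mul_mem_iff_of_index_two hi] at h3
  refine h3.1 ?_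
  rw [Subgroup.mul_mem_iff_of_index_two hi]

theorem D_commute {d : G} (hd : d ∈ L.D) : Commute d L.z ∧ Commute d L.w :=
  ⟨L.D_comm hd L.z_mem, L.D_comm hd L.w_mem⟩

theorem card_D₀ (hle : L.D ≤ G₀) : Nat.card (L.D.subgroupOf G₀) = 9 := by
  rw [Nat.card_congr (Subgroup.subgroupOfEquivOfLe hle).toEquiv, L.card_D]

theorem cent_D₀ (hi : G₀.index = 2) (hr : L.r ∉ G₀) (hle : L.D ≤ G₀) :
    centralizer ((L.D.subgroupOf G₀ : Subgroup G₀) : Set G₀) = L.D.subgroupOf G₀ := by
  refine (Subgroup.eq_of_le_of_card_ge ?_ ?_).symm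
  · intro a ha
    exact Subgroup.mem_centralizer_iff.2 fun b hb =>
      Subtype.ext (L.D_comm (mem_subgroupOf.1 hb) (mem_subgroupOf.1 ha))
  · have hmap : (centralizer ((L.D.subgroupOf G₀ : Subgroup G₀) : Set G₀)).map G₀.subtype ≤
        G₀ ⊓ centralizer (L.D : Set G) := by
      rintro _ ⟨a, ha, rfl⟩
      refine ⟨a.2, Subgroup.mem_centralizer_iff.2 fun d hd => ?_⟩
      exact congrArg Subtype.val (Subgroup.mem_centralizer_iff.1 ha ⟨d, hle hd⟩ hd)
    have h1 := Subgroup.card_le_of_le hmap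
    rw [Subgroup.card_map_of_injective G₀.subtype_injective] at h1
    have h2 := two_mul_card_inf (N := centralizer (L.D : Set G)) hi L.r_mem_centralizer_D hr
    rw [L.card_cent_D] at h2
    rw [L.card_D₀ hle]
    omega

theorem card_norm_D₀ (hi : G₀.index = 2) (hr : L.r ∉ G₀) (hle : L.D ≤ G₀) :
    Nat.card (normalizer ((L.D.subgroupOf G₀ : Subgroup G₀) : Set G₀)) = 72 := by
  have h := two_mul_card_inf (N := normalizer (L.D : Set G)) hi
    (show L.r ∈ normalizer (L.D : Set G) from Subgroup.centralizer_le_normalizer _ L.r_mem_centralizer_D) hr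
  rw [L.card_norm_D, ← map_normalizer_subgroupOf hle,
    Subgroup.card_map_of_injective G₀.subtype_injective] at h
  omega

theorem mem_norm_D₀ {x : G₀} (h : (x : G) ∈ normalizer (L.D : Set G)) :
    x ∈ normalizer ((L.D.subgroupOf G₀ : Subgroup G₀) : Set G₀) :=
  Subgroup.mem_normalizer_iff.2 fun d => Subgroup.mem_normalizer_iff.1 h d

theorem theta_mem_D (hθ : L.IsTheta θ) {σ : Perm (Fin 8)} (h : θ σ ∈ L.D) :
    σ * (swap 0 1 * swap 1 2) = swap 0 1 * swap 1 2 * σ ∧
      σ * (swap 3 4 * swap 4 5) = swap 3 4 * swap 4 5 * σ := by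
  obtain ⟨c1, c2⟩ := L.D_commute h
  exact ⟨hθ.1 (by rw [map_mul _ σ, map_mul _ _ σ, L.theta_z hθ]; exact c1.eq),
    hθ.1 (by rw [map_mul _ σ, map_mul _ _ σ, L.theta_w hθ]; exact c2.eq)⟩

theorem theta_mem_norm (hθ : L.IsTheta θ) (σ : Perm (Fin 8)) (k l k' l' : ℕ)
    (h1 : σ * (swap 0 1 * swap 1 2) * σ⁻¹ = (swap 0 1 * swap 1 2) ^ k * (swap 3 4 * swap 4 5) ^ l)
    (h2 : σ * (swap 3 4 * swap 4 5) * σ⁻¹ = (swap 0 1 * swap 1 2) ^ k' * (swap 3 4 * swap 4 5) ^ l') :
    θ σ ∈ normalizer (L.D : Set G) := by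
  refine Subgroup.mem_normalizer_iff_map_conj_eq.2 (Subgroup.eq_of_le_of_card_ge ?_ ?_)
  · rw [Subgroup.map_le_iff_le_comap, L.D_eq, closure_le, ← L.D_eq]
    rintro x (rfl | rfl)
    · show θ σ * L.z * (θ σ)⁻¹ ∈ L.D
      rw [← L.theta_z hθ, ← map_inv θ σ, ← map_mul, ← map_mul, h1, map_mul, map_pow, map_pow, L.theta_z hθ,
        L.theta_w hθ]
      exact mul_mem (pow_mem L.z_mem k) (pow_mem L.w_mem l)
    · show θ σ * L.w * (θ σ)⁻¹ ∈ L.D
      rw [← L.theta_w hθ, ← map_inv θ σ, ← map_mul, ← map_mul, h2, map_mul, map_pow, map_pow, L.theta_z hθ,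
        L.theta_w hθ]
      exact mul_mem (pow_mem L.z_mem k') (pow_mem L.w_mem l')
  · rw [Subgroup.card_map_of_injective (MulAut.conj (θ σ)).injective]

theorem nonempty_dihedral (hθ : L.IsTheta θ) (hn : G₀.Normal) (hi : G₀.index = 2) (hr : L.r ∉ G₀)
    (hle : L.D ≤ G₀) :
    Nonempty (normalizer ((L.D.subgroupOf G₀ : Subgroup G₀) : Set G₀) ⧸
      (L.D.subgroupOf G₀).subgroupOf (normalizer ((L.D.subgroupOf G₀ : Subgroup G₀) : Set G₀)) ≃*
        DihedralGroup 4) := by
  classical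
  let D₀ : Subgroup G₀ := L.D.subgroupOf G₀
  have memθ : ∀ σ, Equiv.Perm.sign σ = 1 → θ σ ∈ G₀ := fun σ h => (L.mem_of_theta hθ hn hi hr σ).2 h
  have hnA : θ eA ∈ normalizer (L.D : Set G) := L.theta_mem_norm hθ _ 0 1 1 0 (by decide +kernel) (by decide +kernel)
  have hnB : θ eB ∈ normalizer (L.D : Set G) :=
    L.theta_mem_norm hθ _ 2 0 0 1 (by decide +kernel) (by decide +kernel)
  set N := normalizer (D₀ : Set G₀) with hN
  obtain ⟨a, ha⟩ : ∃ a : N, ((a : G₀) : G) = θ eA :=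
    ⟨⟨⟨θ eA, memθ _ (by decide +kernel)⟩, L.mem_norm_D₀ hnA⟩, rfl⟩
  obtain ⟨b, hb⟩ : ∃ b : N, ((b : G₀) : G) = θ eB :=
    ⟨⟨⟨θ eB, memθ _ (by decide +kernel)⟩, L.mem_norm_D₀ hnB⟩, rfl⟩
  haveI : (D₀.subgroupOf N).Normal := Subgroup.normal_in_normalizer
  let f : N →* G := G₀.subtype.comp N.subtype
  have hf : Function.Injective f := G₀.subtype_injective.comp N.subtype_injective
  have fa : f a = θ eA := ha
  have fb : f b = θ eB := hb
  have hQ : ∀ (x : N) (σ : Perm (Fin 8)), f x = θ σ →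
      (QuotientGroup.mk x : N ⧸ D₀.subgroupOf N) = 1 →
      σ * (swap 0 1 * swap 1 2) = swap 0 1 * swap 1 2 * σ ∧
      σ * (swap 3 4 * swap 4 5) = swap 3 4 * swap 4 5 * σ := fun x σ e h => by
    refine L.theta_mem_D hθ ?_
    rw [← e]
    exact mem_subgroupOf.1 (mem_subgroupOf.1 ((QuotientGroup.eq_one_iff x).1 h))
  have h4 : (a * b) ^ 2 ^ (1 + 1) = 1 := hf (by
    rw [map_pow, map_mul, fa, fb, map_one, ← map_mul, ← map_pow,
      show (eA * eB) ^ 2 ^ (1 + 1) = 1 by decide +kernel, map_one])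
  have hb2 : b ^ 2 = 1 := hf (by
    rw [map_pow, fb, map_one, ← map_pow, show eB ^ 2 = 1 by decide +kernel, map_one])
  have hconj : b * (a * b) * b⁻¹ = (a * b)⁻¹ := hf (by
    simp only [map_mul, map_inv, fa, fb]
    simp only [← map_inv, ← map_mul]
    exact congrArg θ (by decide +kernel))
  have hord : orderOf (QuotientGroup.mk (a * b) : N ⧸ D₀.subgroupOf N) = 4 := by
    refine orderOf_eq_prime_pow (p := 2) (n := 1) (fun h => ?_) ?_
    · rw [← QuotientGroup.mk_pow] at h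
      have := hQ _ ((eA * eB) ^ (2 ^ 1)) (by rw [map_pow, map_mul, fa, fb, ← map_mul, ← map_pow]) h
      revert this; decide +kernel
    · rw [← QuotientGroup.mk_pow, h4]
      rfl
  haveI : Fintype (N ⧸ D₀.subgroupOf N) := Fintype.ofFinite _
  have hcard : Nat.card (N ⧸ D₀.subgroupOf N) = 2 * 4 := by
    have h1 := (D₀.subgroupOf N).card_mul_index
    rw [L.card_norm_D₀ hi hr hle, Nat.card_congr (Subgroup.subgroupOfEquivOfLe Subgroup.le_normalizer).toEquiv,
      L.card_D₀ hle, Subgroup.index] at h1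
    omega
  have hy : (QuotientGroup.mk b : N ⧸ D₀.subgroupOf N) ∉
      zpowers (QuotientGroup.mk (a * b) : N ⧸ D₀.subgroupOf N) := by
    intro h
    obtain ⟨k, hk⟩ := (mem_powers_iff_mem_zpowers).2 h
    have hk4 : (QuotientGroup.mk (a * b) : N ⧸ D₀.subgroupOf N) ^ (k % 4) = QuotientGroup.mk b := by
      rw [← hord, pow_mod_orderOf]; exact hk
    rw [← QuotientGroup.mk_pow, ← mul_inv_eq_one, ← QuotientGroup.mk_inv, ← QuotientGroup.mk_mul] at hk4
    have h' := hQ _ ((eA * eB) ^ (k % 4) * eB⁻¹)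
      (by rw [map_mul, map_inv, map_pow, map_mul, fa, fb, ← map_mul, ← map_pow, ← map_inv, ← map_mul]) hk4
    have key : ∀ m < 4, ¬ (((eA * eB) ^ m * eB⁻¹) * (swap 0 1 * swap 1 2) =
        swap 0 1 * swap 1 2 * ((eA * eB) ^ m * eB⁻¹) ∧
        ((eA * eB) ^ m * eB⁻¹) * (swap 3 4 * swap 4 5) =
        swap 3 4 * swap 4 5 * ((eA * eB) ^ m * eB⁻¹)) := by decide +kernel
    exact key _ (Nat.mod_lt _ (by norm_num)) h'
  refine CfsgLib.TwoGroups.nonempty_mulEquiv_dihedral hord hcard hy ?_ ?_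
  · rw [← QuotientGroup.mk_pow, hb2]
    rfl
  · rw [← QuotientGroup.mk_inv, ← QuotientGroup.mk_inv, ← QuotientGroup.mk_mul, ← QuotientGroup.mk_mul, hconj]

theorem y_facts (hθ : L.IsTheta θ) (hn : G₀.Normal) (hi : G₀.index = 2) (hr : L.r ∉ G₀)
    (hle : L.D ≤ G₀) (y₀ : G₀) (hy₀ : (y₀ : G) = L.z * L.w) :
    ((L.D.subgroupOf G₀).subgroupOf (centralizer ({y₀} : Set G₀))).Normal ∧
      Nat.card (centralizer ({y₀} : Set G₀)) = 18 ∧
      L.D.subgroupOf G₀ ≤ normalizer (zpowers y₀ : Set G₀) ∧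
      ∃ _ : ((L.D.subgroupOf G₀).subgroupOf (normalizer (zpowers y₀ : Set G₀))).Normal,
        Nat.card (normalizer (zpowers y₀ : Set G₀) ⧸
          (L.D.subgroupOf G₀).subgroupOf (normalizer (zpowers y₀ : Set G₀))) = 4 ∧
        ∀ g : normalizer (zpowers y₀ : Set G₀) ⧸
          (L.D.subgroupOf G₀).subgroupOf (normalizer (zpowers y₀ : Set G₀)), g ^ 2 = 1 := by
  classical
  obtain rfl : y₀ = ⟨L.z * L.w, hle (mul_mem L.z_mem L.w_mem)⟩ := Subtype.ext hy₀
  let y₀ : G₀ := ⟨L.z * L.w, hle (mul_mem L.z_mem L.w_mem)⟩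
  let D₀ : Subgroup G₀ := L.D.subgroupOf G₀
  have memθ : ∀ σ, Equiv.Perm.sign σ = 1 → θ σ ∈ G₀ := fun σ h => (L.mem_of_theta hθ hn hi hr σ).2 h
  have hyd : (y₀ : G) ∈ L.D := mul_mem L.z_mem L.w_mem
  have hrz : ∀ {x : G}, Commute L.r x → L.r ∈ centralizer ({x} : Set G) :=
    fun h => mem_centralizer_singleton_iff.2 h.eq
  have hry : Commute L.r (L.z * L.w) := (Subgroup.mem_centralizer_iff.1 L.r_mem_centralizer_D _ hyd).symm
  have hcy : Nat.card (centralizer ({y₀} : Set G₀)) = 18 := by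
    have h := two_mul_card_inf (N := centralizer ({L.z * L.w} : Set G)) hi (hrz hry) hr
    rw [show Nat.card (centralizer ({L.z * L.w} : Set G)) = 36 from L.card_zw,
      ← map_cent_singleton G₀ y₀, Subgroup.card_map_of_injective G₀.subtype_injective] at h
    omega
  have hDC : D₀ ≤ centralizer ({y₀} : Set G₀) := fun d hd => by
    refine mem_centralizer_singleton_iff.2 (Subtype.ext ?_)
    obtain ⟨c1, c2⟩ := L.D_commute (mem_subgroupOf.1 hd)
    exact (c1.mul_right c2).eq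
  have hCN : centralizer ({y₀} : Set G₀) ≤ normalizer (D₀ : Set G₀) := fun x hx => by
    have := L.zw_le (mem_centralizer_singleton_iff.2 (congrArg Subtype.val (mem_centralizer_singleton_iff.1 hx)))
    exact L.mem_norm_D₀ this
  have hyn : (D₀.subgroupOf (centralizer ({y₀} : Set G₀))).Normal :=
    Subgroup.normal_subgroupOf_of_le_normalizer hCN
  let aa : G₀ := ⟨θ eA, memθ _ (by decide +kernel)⟩
  let vv : G₀ := ⟨θ eV, memθ _ (by decide +kernel)⟩
  have haC : aa ∈ centralizer ({y₀} : Set G₀) := mem_centralizer_singleton_iff.2 (Subtype.ext (by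
    show θ eA * (L.z * L.w) = L.z * L.w * θ eA
    rw [← L.theta_y hθ, ← map_mul, ← map_mul]
    exact congrArg θ (by decide +kernel)))
  have hvy : vv * y₀ * vv⁻¹ = y₀⁻¹ := Subtype.ext (by
    show θ eV * (L.z * L.w) * (θ eV)⁻¹ = (L.z * L.w)⁻¹
    rw [← L.theta_y hθ, ← map_inv, ← map_inv, ← map_mul, ← map_mul]
    exact congrArg θ (by decide +kernel))
  have hy3 : y₀ ^ 3 = 1 := Subtype.ext (L.D_cube hyd)
  let Ny := normalizer (zpowers y₀ : Set G₀)
  have hCNy : centralizer ({y₀} : Set G₀) ≤ Ny := by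
    refine fun x hx => Subgroup.centralizer_le_normalizer _ ?_
    refine Subgroup.mem_centralizer_iff.2 fun q hq => ?_
    obtain ⟨k, rfl⟩ := mem_zpowers_iff.1 hq
    exact ((show Commute x y₀ from mem_centralizer_singleton_iff.1 hx).zpow_right k).symm.eq
  have hvN : vv ∈ Ny := by
    refine Subgroup.mem_normalizer_iff_map_conj_eq.2 ?_
    rw [MonoidHom.map_zpowers]
    show zpowers (vv * y₀ * vv⁻¹) = _
    rw [hvy, zpowers_inv]
  have hsplit : ∀ g ∈ Ny, g ∈ centralizer ({y₀} : Set G₀) ∨ g * vv ∈ centralizer ({y₀} : Set G₀) := by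
    intro g hg
    have hmem : g * y₀ * g⁻¹ ∈ zpowers y₀ := (Subgroup.mem_normalizer_iff.1 hg y₀).1 (mem_zpowers _)
    obtain ⟨k, hk⟩ := mem_powers_iff_mem_zpowers.2 hmem
    have hk' : y₀ ^ (k % 3) = g * y₀ * g⁻¹ := by rw [← pow_eq_pow_mod k hy3]; exact hk
    rcases (by omega : k % 3 = 0 ∨ k % 3 = 1 ∨ k % 3 = 2) with h | h | h <;> rw [h] at hk'
    · exfalso
      rw [pow_zero] at hk'
      have h1 : y₀ = 1 := conj_eq_one_iff.1 hk'.symm
      have h2 : θ eY = 1 := by rw [L.theta_y hθ]; exact congrArg Subtype.val h1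
      have h3 : eY = 1 := hθ.1 (h2.trans (map_one _).symm)
      revert h3; decide +kernel
    · left
      refine mem_centralizer_singleton_iff.2 ?_
      rw [pow_one] at hk'
      conv_rhs => rw [hk']
      group
    · right
      refine mem_centralizer_singleton_iff.2 ?_
      have h2 : y₀ ^ 2 = y₀⁻¹ := eq_inv_of_mul_eq_one_left (by rw [← pow_succ]; exact hy3)
      rw [h2] at hk'
      have e1 : g * vv * y₀ * (g * vv)⁻¹ = y₀ := by
        rw [show g * vv * y₀ * (g * vv)⁻¹ = g * (vv * y₀ * vv⁻¹) * g⁻¹ by group, hvy,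
          show g * y₀⁻¹ * g⁻¹ = (g * y₀ * g⁻¹)⁻¹ by group, ← hk', inv_inv]
      exact mul_inv_eq_iff_eq_mul.1 e1
  have hNN : Ny ≤ normalizer (D₀ : Set G₀) := fun g hg => by
    have hv : vv ∈ normalizer (D₀ : Set G₀) :=
      L.mem_norm_D₀ (L.theta_mem_norm hθ eV 2 0 0 2 (by decide +kernel) (by decide +kernel))
    rcases hsplit g hg with h | h
    · exact hCN h
    · have := mul_mem (hCN h) (inv_mem hv)
      rwa [mul_inv_cancel_right] at this
  haveI hyNn : (D₀.subgroupOf Ny).Normal := Subgroup.normal_subgroupOf_of_le_normalizer hNN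
  have hiC : (D₀.subgroupOf (centralizer ({y₀} : Set G₀))).index = 2 := by
    have h1 := (D₀.subgroupOf (centralizer ({y₀} : Set G₀))).card_mul_index
    rw [hcy, Nat.card_congr (Subgroup.subgroupOfEquivOfLe hDC).toEquiv, L.card_D₀ hle] at h1
    omega
  have haD : aa ∉ D₀ := fun h => by
    have := L.theta_mem_D hθ (σ := eA) (mem_subgroupOf.1 h)
    revert this; decide +kernel
  have hvC : vv ∉ centralizer ({y₀} : Set G₀) := fun h => by
    have h1 : θ eV * θ eY = θ eY * θ eV := by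
      rw [L.theta_y hθ]; exact congrArg Subtype.val (mem_centralizer_singleton_iff.1 h)
    rw [← map_mul, ← map_mul] at h1
    have h2 := hθ.1 h1
    revert h2; decide +kernel
  have hNy_card : Nat.card Ny = 36 := by
    have hi2 : ((centralizer ({y₀} : Set G₀)).subgroupOf Ny).index = 2 := by
      refine Subgroup.index_eq_two_iff.2 ⟨⟨vv, hvN⟩, fun g => ?_⟩
      simp only [mem_subgroupOf, Subgroup.coe_mul]
      rcases hsplit _ g.2 with h | h
      · refine Or.inr ⟨h, fun h' => hvC ?_⟩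
        have := mul_mem (inv_mem h) h'
        rwa [inv_mul_cancel_left] at this
      · refine Or.inl ⟨h, fun h' => hvC ?_⟩
        have := mul_mem (inv_mem h') h
        rwa [inv_mul_cancel_left] at this
    have h1 := ((centralizer ({y₀} : Set G₀)).subgroupOf Ny).card_mul_index
    rw [hi2, Nat.card_congr (Subgroup.subgroupOfEquivOfLe hCNy).toEquiv, hcy] at h1
    omega
  have hDNy : D₀ ≤ Ny := hDC.trans hCNy
  have hquot : Nat.card (Ny ⧸ D₀.subgroupOf Ny) = 4 := by
    have h1 := (D₀.subgroupOf Ny).card_mul_index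
    rw [hNy_card, Nat.card_congr (Subgroup.subgroupOfEquivOfLe hDNy).toEquiv, L.card_D₀ hle, Subgroup.index] at h1
    omega
  have hexp : ∀ g : Ny ⧸ D₀.subgroupOf Ny, g ^ 2 = 1 := by
    intro q
    refine QuotientGroup.induction_on q fun g => ?_
    let A : Ny := ⟨aa, hCNy haC⟩
    let V : Ny := ⟨vv, hvN⟩
    have hAV : (QuotientGroup.mk A : Ny ⧸ D₀.subgroupOf Ny) * QuotientGroup.mk V =
        QuotientGroup.mk V * QuotientGroup.mk A := by
      rw [← QuotientGroup.mk_mul, ← QuotientGroup.mk_mul]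
      congr 1
      refine Subtype.ext (Subtype.ext ?_)
      show θ eA * θ eV = θ eV * θ eA
      rw [← map_mul, ← map_mul]
      exact congrArg θ (by decide +kernel)
    have hA2 : (QuotientGroup.mk A : Ny ⧸ D₀.subgroupOf Ny) ^ 2 = 1 := by
      rw [← QuotientGroup.mk_pow, show A ^ 2 = 1 from Subtype.ext (Subtype.ext (by
        show θ eA ^ 2 = 1
        rw [← map_pow, show eA ^ 2 = 1 by decide +kernel, map_one]))]
      rfl
    have hV2 : (QuotientGroup.mk V : Ny ⧸ D₀.subgroupOf Ny) ^ 2 = 1 := by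
      rw [← QuotientGroup.mk_pow, show V ^ 2 = 1 from Subtype.ext (Subtype.ext (by
        show θ eV ^ 2 = 1
        rw [← map_pow, show eV ^ 2 = 1 by decide +kernel, map_one]))]
      rfl
    have hC2 : ∀ c : Ny, (c : G₀) ∈ centralizer ({y₀} : Set G₀) →
        (QuotientGroup.mk c : Ny ⧸ D₀.subgroupOf Ny) = 1 ∨
        (QuotientGroup.mk c : Ny ⧸ D₀.subgroupOf Ny) = QuotientGroup.mk A := by
      intro c hc
      by_cases hcD : (c : G₀) ∈ D₀
      · exact Or.inl ((QuotientGroup.eq_one_iff c).2 hcD)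
      · refine Or.inr (QuotientGroup.eq.2 ?_)
        have h := Subgroup.mul_mem_iff_of_index_two hiC (a := (⟨c, hc⟩⁻¹ : centralizer ({y₀} : Set G₀)))
          (b := ⟨aa, haC⟩)
        rw [mem_subgroupOf, mem_subgroupOf, mem_subgroupOf] at h
        exact h.2 (iff_of_false (fun h' => hcD (by simpa using inv_mem h')) haD)
    rcases hsplit _ g.2 with h | h
    · rcases hC2 g h with e | e
      · rw [e, one_pow]
      · rw [e, hA2]
    · have hgv := hC2 (g * V) h
      have eg : (QuotientGroup.mk g : Ny ⧸ D₀.subgroupOf Ny) = QuotientGroup.mk (g * V) * QuotientGroup.mk V := by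
        rw [QuotientGroup.mk_mul, mul_assoc, ← pow_two, hV2, mul_one]
      rcases hgv with e | e <;> rw [eg, e]
      · rw [one_mul, hV2]
      · rw [(show Commute _ _ from hAV).mul_pow, hA2, hV2, one_mul]
  exact ⟨hyn, hcy, hDNy, hyNn, hquot, hexp⟩

theorem z_facts (hθ : L.IsTheta θ) (hn : G₀.Normal) (hi : G₀.index = 2) (hr : L.r ∉ G₀) (z₀ : G₀)
    (hz₀ : (z₀ : G) = L.z) :
    Nonempty (centralizer ({z₀} : Set G₀) ≃* Multiplicative (ZMod 3) × alternatingGroup (Fin 5)) ∧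
    Nonempty (normalizer (zpowers z₀ : Set G₀) ≃*
      (((Equiv.Perm.sign).comp (MonoidHom.fst (Equiv.Perm (Fin 3)) (Equiv.Perm (Fin 5)))) *
        ((Equiv.Perm.sign).comp (MonoidHom.snd (Equiv.Perm (Fin 3)) (Equiv.Perm (Fin 5))))).ker) := by
  classical
  have hsz : ∀ p : M, L.φ p * L.z = L.z * L.φ p ↔ Equiv.Perm.sign p.1 = 1 := by
    intro p
    have key : ∀ σ : Perm (Fin 3), σ * (swap 0 1 * swap 1 2) = swap 0 1 * swap 1 2 * σ ↔
        Equiv.Perm.sign σ = 1 := by decide +kernel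
    show L.φ p * L.φ mz = L.φ mz * L.φ p ↔ _
    rw [← map_mul, ← map_mul, L.φ_inj.eq_iff, ← key, Prod.ext_iff]
    simp [mz]
  let Φ : alternatingGroup (Fin 3) × alternatingGroup (Fin 5) →* centralizer ({z₀} : Set G₀) :=
    { toFun := fun q => ⟨⟨L.φ ((q.1 : Perm (Fin 3)), (q.2 : Perm (Fin 5))),
        (L.mem_of_phi hθ hn hi hr _).2 (by
          simp [Equiv.Perm.mem_alternatingGroup.1 q.1.2, Equiv.Perm.mem_alternatingGroup.1 q.2.2])⟩,
        mem_centralizer_singleton_iff.2 (Subtype.ext (by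
          rw [Subgroup.coe_mul, Subgroup.coe_mul, hz₀]
          exact (hsz _).2 (Equiv.Perm.mem_alternatingGroup.1 q.1.2)))⟩
      map_one' := Subtype.ext (Subtype.ext (map_one L.φ))
      map_mul' := fun q q' => Subtype.ext (Subtype.ext (map_mul L.φ ((q.1 : Perm (Fin 3)), (q.2 : Perm (Fin 5)))
        ((q'.1 : Perm (Fin 3)), (q'.2 : Perm (Fin 5))))) }
  have inRange : ∀ x : G, x ∈ normalizer (zpowers L.z : Set G) → ∃ p, L.φ p = x := fun x hx => by
    have hx' : x ∈ normalizer (zpowers (L.φ mz) : Set G) := hx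
    rw [← L.φ_range] at hx'
    exact hx'
  have hΦ : Function.Bijective Φ := by
    refine ⟨fun q q' h => ?_, fun x => ?_⟩
    · have h' := L.φ_inj (congrArg Subtype.val (congrArg Subtype.val h))
      exact Prod.ext (Subtype.ext (congrArg Prod.fst h')) (Subtype.ext (congrArg Prod.snd h'))
    · have hx : ((x : G₀) : G) * L.z = L.z * ((x : G₀) : G) :=
        by
        have := congrArg Subtype.val (mem_centralizer_singleton_iff.1 x.2)
        rwa [Subgroup.coe_mul, Subgroup.coe_mul, hz₀] at this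
      obtain ⟨p, hp⟩ := inRange _ (Subgroup.centralizer_le_normalizer _ (Subgroup.mem_centralizer_iff.2
        fun q hq => by
          obtain ⟨k, rfl⟩ := mem_zpowers_iff.1 hq
          exact ((show Commute _ _ from hx).zpow_right k).symm.eq))
      rw [← hp] at hx
      have h1 := (hsz p).1 hx
      have h2 := (L.mem_of_phi hθ hn hi hr p).1 (hp ▸ (x : G₀).2)
      rw [h1, one_mul] at h2
      exact ⟨(⟨p.1, Equiv.Perm.mem_alternatingGroup.2 h1⟩, ⟨p.2, Equiv.Perm.mem_alternatingGroup.2 h2⟩),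
        Subtype.ext (Subtype.ext hp)⟩
  have h3 : Nat.card (alternatingGroup (Fin 3)) = Nat.card (Multiplicative (ZMod 3)) := by
    rw [Nat.card_eq_fintype_card, Nat.card_eq_fintype_card]
    decide +kernel
  haveI : IsCyclic (alternatingGroup (Fin 3)) := isCyclic_of_prime_card (p := 3) (h3.trans (by simp))
  let eC : centralizer ({z₀} : Set G₀) ≃* Multiplicative (ZMod 3) × alternatingGroup (Fin 5) :=
    (MulEquiv.ofBijective Φ hΦ).symm.trans (MulEquiv.prodCongr (mulEquivOfCyclicCardEq h3) (MulEquiv.refl _))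
  let χ := ((Equiv.Perm.sign).comp (MonoidHom.fst (Equiv.Perm (Fin 3)) (Equiv.Perm (Fin 5)))) *
    ((Equiv.Perm.sign).comp (MonoidHom.snd (Equiv.Perm (Fin 3)) (Equiv.Perm (Fin 5))))
  have hz₀map : (zpowers z₀).map G₀.subtype = zpowers L.z := by rw [MonoidHom.map_zpowers]; exact congrArg zpowers hz₀
  have hzsub : (zpowers L.z).subgroupOf G₀ = zpowers z₀ := by
    rw [← hz₀map]; exact Subgroup.comap_map_eq_self_of_injective G₀.subtype_injective _
  have hNz : ∀ x : G₀, x ∈ normalizer (zpowers z₀ : Set G₀) ↔ (x : G) ∈ normalizer (zpowers L.z : Set G) := by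
    intro x
    rw [← hzsub]
    constructor
    · intro hx
      exact ((map_normalizer_subgroupOf (zpowers_le.2 (hz₀ ▸ z₀.2))).le ⟨x, hx, rfl⟩).2
    · intro hx
      refine Subgroup.mem_normalizer_iff.2 fun d => ?_
      exact Subgroup.mem_normalizer_iff.1 hx d
  have hpz : ∀ p : M, L.φ p ∈ normalizer (zpowers L.z : Set G) := fun p => by
    show L.φ p ∈ normalizer (zpowers (L.φ mz) : Set G)
    rw [← L.φ_range]
    exact ⟨p, rfl⟩
  let Ψ : χ.ker →* normalizer (zpowers z₀ : Set G₀) :=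
    { toFun := fun p => ⟨⟨L.φ p, (L.mem_of_phi hθ hn hi hr _).2 p.2⟩, (hNz _).2 (hpz _)⟩
      map_one' := Subtype.ext (Subtype.ext (map_one L.φ))
      map_mul' := fun _ _ => Subtype.ext (Subtype.ext (map_mul L.φ _ _)) }
  have hΨ : Function.Bijective Ψ := by
    refine ⟨fun p p' h => Subtype.ext (L.φ_inj (congrArg Subtype.val (congrArg Subtype.val h))), fun x => ?_⟩
    obtain ⟨p, hp⟩ := inRange _ ((hNz _).1 x.2)
    exact ⟨⟨p, (L.mem_of_phi hθ hn hi hr p).1 (hp ▸ (x : G₀).2)⟩, Subtype.ext (Subtype.ext hp)⟩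
  exact ⟨⟨eC⟩, ⟨(MulEquiv.ofBijective Ψ hΨ).symm⟩⟩

theorem card_index_two (h3329 : AltEightRecognition.{u}) (hθ : L.IsTheta θ)
    (hn : G₀.Normal) (hi : G₀.index = 2) (hr : L.r ∉ G₀) : Nat.card G₀ = 20160 := by
  classical
  haveI : Fact (Nat.Prime 3) := ⟨Nat.prime_three⟩
  have hle := L.D_le_index_two hn hi
  let D₀ : Subgroup G₀ := L.D.subgroupOf G₀
  let y₀ : G₀ := ⟨L.z * L.w, hle (mul_mem L.z_mem L.w_mem)⟩
  let z₀ : G₀ := ⟨L.z, hle L.z_mem⟩
  have hfac : (Nat.card G₀).factorization 3 = 2 := by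
    have h1 := G₀.card_mul_index
    have h2 := L.D.card_mul_index
    rw [hi] at h1
    rw [L.card_D, ← h1] at h2
    have h3 := congrArg (fun n => n.factorization 3) h2
    rw [Nat.factorization_mul (by norm_num) Subgroup.index_ne_zero_of_finite,
      Nat.factorization_mul Nat.card_pos.ne' (by norm_num), Finsupp.add_apply, Finsupp.add_apply,
      Nat.factorization_eq_zero_of_not_dvd L.not_dvd,
      Nat.factorization_eq_zero_of_not_dvd (show ¬ 3 ∣ 2 by norm_num),
      show (9 : ℕ).factorization 3 = 2 by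
        rw [show (9 : ℕ) = 3 ^ 2 by norm_num, Nat.Prime.factorization_pow Nat.prime_three,
          Finsupp.single_eq_same]] at h3
    omega
  have hD₀card := L.card_D₀ hle
  let P : Sylow 3 G₀ := Sylow.ofCard D₀ (by rw [hD₀card, hfac]; norm_num)
  have hDmap : D₀.map G₀.subtype = L.D := by
    rw [Subgroup.subgroupOf_map_subtype, inf_eq_left.2 hle]
  have hC := L.cent_D₀ hi hr hle
  obtain ⟨eN⟩ := L.nonempty_dihedral hθ hn hi hr hle
  obtain ⟨hyn, hcy, hDNy, hyNn, hquot, hexp⟩ := L.y_facts hθ hn hi hr hle y₀ rfl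
  obtain ⟨⟨eC⟩, ⟨eL⟩⟩ := L.z_facts hθ hn hi hr z₀ rfl
  have hgen : Subgroup.closure {y₀, z₀} = D₀ := by
    apply Subgroup.map_injective G₀.subtype_injective
    rw [MonoidHom.map_closure, hDmap, Set.image_pair]
    show closure ({L.z * L.w, L.z} : Set G) = L.D
    rw [L.D_eq]
    refine le_antisymm ((closure_le _).2 ?_) ((closure_le _).2 ?_)
    · rintro x (rfl | rfl)
      · exact mul_mem (subset_closure (Or.inl rfl)) (subset_closure (Or.inr rfl))
      · exact subset_closure (Or.inl rfl)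
    · rintro x (rfl | rfl)
      · exact subset_closure (Or.inr rfl)
      · have : L.z⁻¹ * (L.z * L.w) ∈ closure ({L.z * L.w, L.z} : Set G) :=
          mul_mem (inv_mem (subset_closure (Or.inr rfl))) (subset_closure (Or.inl rfl))
        rwa [inv_mul_cancel_left] at this
  have hcomm : IsMulCommutative D₀ := ⟨⟨fun p q => Subtype.ext
    (Subgroup.mem_centralizer_iff.1 ((le_of_eq hC.symm) q.2) _ p.2)⟩⟩
  obtain ⟨eA8⟩ := h3329 P D₀ rfl y₀ z₀ hgen hcomm hD₀card
    (fun d hd => Subtype.ext (L.D_cube (mem_subgroupOf.1 hd))) hC eN hyn hcy _ rfl hDNy hquot hexp eC eL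
  rw [Nat.card_congr eA8.toEquiv, nat_card_alternatingGroup, Nat.card_fin]
  rfl

/-- The symmetric case. -/
theorem sym8_of_caseP (h3329 : AltEightRecognition.{u}) (hP : L.CaseP) : Nonempty (G ≃* Perm (Fin 8)) := by
  obtain ⟨θ, hθ⟩ := exists_theta L hP
  obtain ⟨G₀, hn, hi, hr⟩ := L.exists_index_two hP hθ
  have h := L.card_index_two h3329 hθ hn hi hr
  have hG := G₀.card_mul_index
  rw [h, hi] at hG
  refine ⟨(MulEquiv.ofBijective θ ((Nat.bijective_iff_injective_and_card θ).2 ⟨hθ.1, ?_⟩)).symm⟩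
  rw [Nat.card_perm, Nat.card_fin, ← hG]
  rfl

end Datum

end CfsgLib.SymEightThreeLocal
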