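import Cfsg.Agent.Lib.SymEightThreeLocal.ExclSixFrame

/-!
The configuration in `S₆` when the image of `z` is a product of two three-cycles.
-/

set_option autoImplicit false
set_option maxRecDepth 100000
set_option Elab.async false
set_option synthInstance.maxSize 4000
set_option synthInstance.maxHeartbeats 200000

namespace CfsgLib.SymEightThreeLocal.ExclSix

open Equiv

/-- Data for the normal forms. -/
def cent_zb : List (Perm (Fin 6)) := [1, (swap 3 4 * swap 4 5), (swap 3 5 * swap 4 5), (swap 0 1 * swap 1 2), (swap 0 1 * swap 1 2 * swap 3 4 * swap 4 5), (swap 0 1 * swap 1 2 * swap 3 5 * swap 4 5), (swap 0 2 * swap 1 2), (swap 0 2 * swap 1 2 * swap 3 4 * swap 4 5), (swap 0 2 * swap 1 2 * swap 3 5 * swap 4 5), (swap 0 3 * swap 1 4 * swap 2 5), (swap 0 3 * swap 1 4 * swap 2 5 * swap 3 4 * swap 4 5), (swap 0 3 * swap 1 4 * swap 2 5 * swap 3 5 * swap 4 5), (swap 0 4 * swap 1 5 * swap 2 3 * swap 3 4 * swap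 4 5), (swap 0 4 * swap 1 5 * swap 2 3 * swap 3 5 * swap 4 5), (swap 0 4 * swap 1 5 * swap 2 3), (swap 0 5 * swap 1 3 * swap 2 4 * swap 3 5 * swap 4 5), (swap 0 5 * swap 1 3 * swap 2 4), (swap 0 5 * swap 1 3 * swap 2 4 * swap 3 4 * swap 4 5)]

/-- Data for the normal forms. -/
def inv_zb : List (Perm (Fin 6)) := [(swap 1 2 * swap 4 5), (swap 1 2 * swap 3 4), (swap 1 2 * swap 3 5), (swap 0 1 * swap 4 5), (swap 0 1 * swap 3 4), (swap 0 1 * swap 3 5), (swap 0 2 * swap 4 5), (swap 0 2 * swap 3 4), (swap 0 2 * swap 3 5), (swap 0 3 * swap 1 5 * swap 2 4), (swap 0 4 * swap 1 3 * swap 2 5), (swap 0 5 * swap 1 4 * swap 2 3)]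

/-- Data for the normal forms. -/
def w_zb : Perm (Fin 6) := (swap 0 1 * swap 1 2 * swap 3 5 * swap 4 5)

/-- Data for the normal forms. -/
def i_zb : Perm (Fin 6) := (swap 0 3 * swap 1 5 * swap 2 4)

/-- Data for the normal forms. -/
def j_zb : Perm (Fin 6) := (swap 0 3 * swap 1 4 * swap 2 5)

/-- Data for the normal forms. -/
def x_zb : Perm (Fin 6) := (swap 0 3 * swap 1 2 * swap 4 5)

/-- Data for the normal forms. -/
def p_zb : Perm (Fin 6) := (swap 2 5)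

/-- Data for the normal forms. -/
def q_zb : Perm (Fin 6) := (swap 2 4)

/-- Data for the normal forms. -/
def u_zb : Perm (Fin 6) := (swap 0 1 * swap 1 2 * swap 2 4 * swap 3 4)

/-- Data for the normal forms. -/
def v_zb : Perm (Fin 6) := (swap 2 3)

theorem cent_mem_zb : ∀ p : Perm (Fin 6), p * zb = zb * p → p ∈ cent_zb := by
  decide +kernel

theorem inv_mem_zb : ∀ p : Perm (Fin 6), p * p = 1 → p * zb * p = zb⁻¹ → p ∈ inv_zb := by
  decide +kernel

theorem normal_zb : ∀ W ∈ cent_zb, W * W * W = 1 → W ≠ 1 → ∀ I ∈ inv_zb, I * W = W * I →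
    ∀ J ∈ cent_zb, J * J = 1 → J * W * J = W⁻¹ → J * I = I * J →
    ∃ c ∈ cent_zb, c * I * c⁻¹ = i_zb ∧ c * J * c⁻¹ = j_zb ∧
      (c * W * c⁻¹ = w_zb ∨ c * W * c⁻¹ = w_zb⁻¹) ∧ c * zb = zb * c := by
  decide +kernel

theorem centr_zb : ∀ Y : Perm (Fin 6), Y * i_zb = i_zb * Y → Y * j_zb = j_zb * Y →
    Y = 1 ∨ Y = i_zb ∨ Y = j_zb ∨ Y = i_zb * j_zb ∨ Y = x_zb ∨ Y = x_zb * i_zb ∨
      Y = x_zb * j_zb ∨ Y = x_zb * (i_zb * j_zb) := by
  decide +kernel

theorem not_fused_zb : ∀ P : Perm (Fin 6), P * i_zb * P⁻¹ ≠ x_zb * j_zb := by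
  decide +kernel

theorem frame_zb {W I J : Perm (Fin 6)} (hW3 : W * W * W = 1) (hW1 : W ≠ 1)
    (hWZ : W * zb = zb * W) (hI2 : I * I = 1) (hIZ : I * zb * I = zb⁻¹) (hIW : I * W = W * I)
    (hJ2 : J * J = 1) (hJZ : J * zb = zb * J) (hJW : J * W * J = W⁻¹) (hJI : J * I = I * J) :
    Frame zb W I J := by
  obtain ⟨c, _, hcI, hcJ, hcW, hcz⟩ := normal_zb W (cent_mem_zb W hWZ) hW3 hW1 I
    (inv_mem_zb I hI2 hIZ) hIW J (cent_mem_zb J hJZ) hJ2 hJW hJI
  have hZ : c * zb * c⁻¹ = zb := by rw [hcz, mul_inv_cancel_right]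
  have h0 : Frame (c * zb * c⁻¹) (c * W * c⁻¹) (c * I * c⁻¹) (c * J * c⁻¹) := by
    rw [hZ, hcI, hcJ]
    refine ⟨x_zb, by decide, by decide, by decide, by decide, by decide, by decide, centr_zb,
      ⟨p_zb, by decide, by decide⟩, ⟨q_zb, by decide, by decide⟩, ?_,
      fun ⟨P, hP⟩ => not_fused_zb P hP⟩
    rcases hcW with h | h <;> rw [h]
    · exact ⟨u_zb, by decide⟩
    · exact ⟨v_zb, by decide⟩
  have h1 := h0.map (MulAut.conj c⁻¹)
  simpa [MulAut.conj_apply, mul_assoc] using h1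

end CfsgLib.SymEightThreeLocal.ExclSix
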