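import Cfsg.Agent.Lib.SymEightThreeLocal.ExclSixA
import Cfsg.Agent.Lib.SymEightThreeLocal.ExclSixB

/-!
The configuration in `S₆` excluded in the case leading to `(A₅ × A₅).4`, by reduction to two normal
forms under conjugation.
-/

set_option autoImplicit false
set_option maxRecDepth 100000
set_option synthInstance.maxSize 4000
set_option synthInstance.maxHeartbeats 200000

namespace CfsgLib.SymEightThreeLocal.ExclSix

open Equiv

theorem order_three_conj (Z : Perm (Fin 6)) (h3 : Z * Z * Z = 1) (h1 : Z ≠ 1) :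
    ∃ c : Perm (Fin 6), c * Z * c⁻¹ = za ∨ c * Z * c⁻¹ = zb := by
  have ho : orderOf Z = 3 := by
    haveI : Fact (Nat.Prime 3) := ⟨Nat.prime_three⟩
    exact orderOf_eq_prime (by rw [pow_succ, pow_two]; exact h3) h1
  obtain ⟨n, hn⟩ := Equiv.Perm.cycleType_prime_order (by rw [ho]; exact Nat.prime_three)
  have hle := Z.sum_cycleType ▸ Z.support.card_le_univ
  rw [hn, Multiset.sum_replicate, ho, smul_eq_mul, Fintype.card_fin] at hle
  have ha : za.cycleType = Multiset.replicate 1 3 := by decide +kernel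
  have hb : zb.cycleType = Multiset.replicate 2 3 := by decide +kernel
  rcases (show n = 0 ∨ n = 1 by omega) with rfl | rfl
  · obtain ⟨c, hc⟩ := isConj_iff.1
      (Equiv.Perm.isConj_iff_cycleType_eq.2 (show Z.cycleType = za.cycleType by rw [hn, ho, ha]))
    exact ⟨c, Or.inl hc⟩
  · obtain ⟨c, hc⟩ := isConj_iff.1
      (Equiv.Perm.isConj_iff_cycleType_eq.2 (show Z.cycleType = zb.cycleType by rw [hn, ho, hb]))
    exact ⟨c, Or.inr hc⟩

theorem exists_frame {Z W I J : Perm (Fin 6)} (hZ3 : Z * Z * Z = 1) (hZ1 : Z ≠ 1)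
    (hW3 : W * W * W = 1) (hW1 : W ≠ 1)
    (hWZ : W * Z = Z * W) (hI2 : I * I = 1) (hIZ : I * Z * I = Z⁻¹) (hIW : I * W = W * I)
    (hJ2 : J * J = 1) (hJZ : J * Z = Z * J) (hJW : J * W * J = W⁻¹) (hJI : J * I = I * J) :
    Frame Z W I J := by
  obtain ⟨c, hc⟩ := order_three_conj Z hZ3 hZ1
  have hφ : ∀ a, MulAut.conj c a = c * a * c⁻¹ := fun a => rfl
  set φ := MulAut.conj c with hφd
  have main : Frame (φ Z) (φ W) (φ I) (φ J) := by
    rcases hc with h | h <;> rw [← hφ] at h <;> rw [h] <;>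
      [apply frame_za; apply frame_zb] <;>
      first
        | (rw [ne_eq, map_eq_one_iff _ φ.injective]; exact hW1)
        | (simp only [← h, ← map_mul, ← map_inv, hW3, hWZ, hI2, hIZ, hIW, hJ2, hJZ, hJW, hJI, map_one])
  simpa using main.map φ.symm

end CfsgLib.SymEightThreeLocal.ExclSix
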