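import Cfsg.Agent.Lib.SymEightThreeLocal.Lemmas
import Cfsg.Agent.Lib.SymEightThreeLocal.ExclSixModel

/-!
In the case leading to `(A₅ × A₅).4` the centralizer of `r` is the normalizer of `D`.
-/

set_option autoImplicit false
set_option linter.unusedSectionVars false

namespace CfsgLib.SymEightThreeLocal

open Subgroup ExclSix

universe u

theorem mjEven_sq : mjEven * mjEven = 1 := by decide
theorem mjEven_mz : mjEven * mz = mz * mjEven := by decide
theorem mjEven_mw : mjEven * mw * mjEven = mw⁻¹ := by decide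
theorem mjEven_mr : mjEven * mr = mr * mjEven := by decide
theorem mi_mjEven : mi * mjEven = mjEven * mi := by decide
theorem ms_mi : ms * mi * ms = mi := by decide
theorem ms_mjEven : ms * mjEven * ms = mjEven := by decide
theorem ms_mr : ms * mr * ms = mjEven * mr := by decide
theorem mjEven_mr_eq : mjEven * mr = (1, Equiv.swap 0 1) := by decide

namespace Datum

variable {G : Type u} [Group G] (L : Datum G) [Finite G]

private theorem conj_mul_of {a b g : G} : g * (a * b) * g⁻¹ = g * a * g⁻¹ * (g * b * g⁻¹) := by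
  group

/-- In case Q the quotient `C(r)/⟨r⟩` is not `S₆`. -/
theorem not_cent_r_sym_six (hQ : L.CaseQ)
    (e : centralizer ({L.r} : Set G) →* Equiv.Perm (Fin 6)) (he : Function.Surjective e)
    (hk : e.ker = (zpowers L.r).subgroupOf (centralizer ({L.r} : Set G))) : False := by
  have hrr := L.r_sq
  have hro : orderOf L.r = 2 := orderOf_eq_prime (by rw [pow_two]; exact hrr) L.r_ne
  -- normalise the image of `z`
  have hzC : L.z * L.r = L.r * L.z := L.r_z.symm
  have hz3 : e ⟨L.z, mem_centralizer_singleton_iff.2 hzC⟩ *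
      e ⟨L.z, mem_centralizer_singleton_iff.2 hzC⟩ * e ⟨L.z, mem_centralizer_singleton_iff.2 hzC⟩ = 1 := by
    rw [← map_mul, ← map_mul]
    refine (congrArg e (Subtype.ext ?_)).trans (map_one e)
    show L.z * L.z * L.z = 1
    rw [← pow_two, ← pow_succ]; exact L.z_cube
  have hker : ∀ {a : centralizer ({L.r} : Set G)}, e a = 1 → (a : G) = 1 ∨ (a : G) = L.r := by
    intro a ha
    have hm : a ∈ e.ker := ha
    rw [hk, mem_subgroupOf, mem_zpowers_iff] at hm
    obtain ⟨n, hn⟩ := hm
    rw [← hn, ← zpow_mod_orderOf, hro]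
    rcases Int.emod_two_eq_zero_or_one n with c | c <;> simp [c]
  have hz1 : e ⟨L.z, mem_centralizer_singleton_iff.2 hzC⟩ ≠ 1 := fun h => by
    rcases hker h with h | h
    · exact L.z_ne h
    · have h3 := L.z_cube
      rw [show L.z = L.r from h, pow_succ, pow_two, hrr, one_mul] at h3
      exact L.r_ne h3
  let f : centralizer ({L.r} : Set G) →* Equiv.Perm (Fin 6) := e
  have hf : Function.Surjective f := he
  have hfk : ∀ {a : centralizer ({L.r} : Set G)}, f a = 1 → (a : G) = 1 ∨ (a : G) = L.r := hker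
  -- relations
  have hjv : L.j = L.φ mjEven := hQ
  have hwC : L.w * L.r = L.r * L.w := L.r_w.symm
  have hiC : L.i * L.r = L.r * L.i := by rw [i, r, ← map_mul, ← map_mul, mi_mr]
  have hjC : L.j * L.r = L.r * L.j := by rw [hjv, r, ← map_mul, ← map_mul, mjEven_mr]
  have hii : L.i * L.i = 1 := by rw [i, ← map_mul, mi_sq, map_one]
  have hjj : L.j * L.j = 1 := by rw [hjv, ← map_mul, mjEven_sq, map_one]
  have hij : L.i * L.j = L.j * L.i := by rw [hjv, i, ← map_mul, ← map_mul, mi_mjEven]
  have hjne : L.j ≠ 1 := by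
    rw [hjv]
    exact fun h => absurd (L.φ_inj (h.trans (map_one L.φ).symm)) (by decide)
  have hss : L.s * L.s = 1 := by rw [s, ← map_mul, ms_sq, map_one]
  have hsi : L.s * L.i * L.s = L.i := by rw [i, s, ← map_mul, ← map_mul, ms_mi]
  have hsj : L.s * L.j * L.s = L.j := by rw [hjv, s, ← map_mul, ← map_mul, ms_mjEven]
  have hsr : L.s * L.r * L.s = L.j * L.r := by
    rw [hjv, s, r, ← map_mul, ← map_mul, ← map_mul, ms_mr]
  set z' : centralizer ({L.r} : Set G) := ⟨L.z, mem_centralizer_singleton_iff.2 hzC⟩ with hz'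
  set w' : centralizer ({L.r} : Set G) := ⟨L.w, mem_centralizer_singleton_iff.2 hwC⟩ with hw'
  set i' : centralizer ({L.r} : Set G) := ⟨L.i, mem_centralizer_singleton_iff.2 hiC⟩ with hi'
  set j' : centralizer ({L.r} : Set G) := ⟨L.j, mem_centralizer_singleton_iff.2 hjC⟩ with hj'
  have rel : ∀ {a b : centralizer ({L.r} : Set G)}, (a : G) = b → f a = f b :=
    fun h => congrArg f (Subtype.ext h)
  have hW3 : f w' * f w' * f w' = 1 := by
    rw [← map_mul, ← map_mul]
    refine (rel (b := 1) ?_).trans (map_one f)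
    show L.w * L.w * L.w = 1
    rw [← pow_two, ← pow_succ]; exact L.w_cube
  have hW1 : f w' ≠ 1 := fun h => by
    rcases hfk h with h | h
    · exact L.w_ne h
    · have h3 := L.w_cube
      rw [show L.w = L.r from h, pow_succ, pow_two, hrr, one_mul] at h3
      exact L.r_ne h3
  have hWZ : f w' * f z' = f z' * f w' := by
    rw [← map_mul, ← map_mul]; exact rel L.zw_comm.symm
  have hI2 : f i' * f i' = 1 := by
    rw [← map_mul]; exact (rel (b := 1) hii).trans (map_one f)
  have hJ2 : f j' * f j' = 1 := by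
    rw [← map_mul]; exact (rel (b := 1) hjj).trans (map_one f)
  have hIZ : f i' * f z' * f i' = (f z')⁻¹ := by
    rw [← map_mul, ← map_mul, ← map_inv]
    refine rel ?_
    show L.i * L.z * L.i = L.z⁻¹
    rw [i, z, ← map_mul, ← map_mul, mi_mz, map_inv]
  have hIW : f i' * f w' = f w' * f i' := by
    rw [← map_mul, ← map_mul]
    refine rel ?_
    show L.i * L.w = L.w * L.i
    rw [i, w, ← map_mul, ← map_mul, mi_mw]
  have hJZ : f j' * f z' = f z' * f j' := by
    rw [← map_mul, ← map_mul]
    refine rel ?_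
    show L.j * L.z = L.z * L.j
    rw [hjv, z, ← map_mul, ← map_mul, mjEven_mz]
  have hJW : f j' * f w' * f j' = (f w')⁻¹ := by
    rw [← map_mul, ← map_mul, ← map_inv]
    refine rel ?_
    show L.j * L.w * L.j = L.w⁻¹
    rw [hjv, w, ← map_mul, ← map_mul, mjEven_mw, map_inv]
  have hJI : f j' * f i' = f i' * f j' := by
    rw [← map_mul, ← map_mul]; exact rel hij.symm
  have hframe : Frame (f z') (f w') (f i') (f j') :=
    exists_frame hz3 hz1 hW3 hW1 hWZ hI2 hIZ hIW hJ2 hJZ hJW hJI
  obtain ⟨X, hXI, hXJ, hX1, hXnI, hXnJ, hXnIJ, hcentr, ⟨P, hPI, hPJ⟩, ⟨P', hPJ', hPI'⟩, ⟨U, hU⟩, hfus⟩ :=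
    hframe
  -- the class of `r`
  have hjR : ¬ L.IsR L.j := hjv ▸ L.not_isR_double
  have hiR : ¬ L.IsR L.i := fun h => hjR (L.t_i ▸ (L.isR_t_iff).2 h)
  have hjrR : L.IsR (L.j * L.r) := by
    rw [hjv, r, ← map_mul, mjEven_mr_eq, L.isR_phi (show ((1, Equiv.swap 0 1) : M) * mz = mz * (1, Equiv.swap 0 1) by decide)]
    exact ⟨0, 1, by decide, rfl⟩
  have tconj : ∀ a b : G, L.t * (a * b) * L.t = L.t * a * L.t * (L.t * b * L.t) := fun a b => by
    simp only [mul_assoc]; rw [← mul_assoc L.t L.t, L.t_sq, one_mul]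
  have hirR : L.IsR (L.i * L.r) := by
    have h := (L.isR_t_iff).2 hjrR
    rwa [tconj, L.t_j, L.t_r] at h
  have sconj : ∀ a b : G, L.s * (a * b) * L.s = L.s * a * L.s * (L.s * b * L.s) := fun a b => by
    simp only [mul_assoc]; rw [← mul_assoc L.s L.s, hss, one_mul]
  have hsinv : L.s⁻¹ = L.s := inv_eq_of_mul_eq_one_right hss
  have isR_s : ∀ {a : G}, L.IsR a → L.IsR (L.s * a * L.s) := fun {a} h => by
    have := L.isR_conj L.s h
    rwa [hsinv] at this
  have s_s : ∀ a : G, L.s * (L.s * a * L.s) * L.s = a := fun a => by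
    simp only [mul_assoc]; rw [hss, mul_one, ← mul_assoc, hss, one_mul]
  have hijrR : L.IsR (L.i * L.j * L.r) := by
    have h := isR_s hirR
    rwa [sconj, hsi, hsr, ← mul_assoc] at h
  -- lifts
  obtain ⟨π, hπ⟩ := hf P
  obtain ⟨π', hπ'⟩ := hf P'
  have hπr : (π : G) * L.r * (π : G)⁻¹ = L.r := by
    rw [mem_centralizer_singleton_iff.1 π.2]; group
  have hπr' : (π' : G) * L.r * (π' : G)⁻¹ = L.r := by
    rw [mem_centralizer_singleton_iff.1 π'.2]; group
  let r' : centralizer ({L.r} : Set G) := ⟨L.r, mem_centralizer_singleton_iff.2 rfl⟩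
  have hfr : f r' = 1 := by
    show e r' = 1
    have : r' ∈ e.ker := by rw [hk, mem_subgroupOf]; exact mem_zpowers _
    exact this
  have hlift : ∀ {a b : centralizer ({L.r} : Set G)}, f a = f b →
      (a : G) = b ∨ (a : G) = b * L.r := by
    intro a b h
    have hab : f (b⁻¹ * a) = 1 := by rw [map_mul, map_inv, h, inv_mul_cancel]
    rcases hfk hab with h1 | h1
    · exact Or.inl (inv_mul_eq_one.1 (by simpa using h1)).symm
    · refine Or.inr (inv_mul_eq_iff_eq_mul.1 ?_)
      simpa using h1
  have huniq : ∀ {a b : centralizer ({L.r} : Set G)}, f a = f b → L.IsR (a : G) →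
      ¬ L.IsR ((b : G) * L.r) → (a : G) = b := by
    intro a b h ha hb
    rcases hlift h with h' | h'
    · exact h'
    · exact absurd (h' ▸ ha) hb
  -- `π` and `π'` on `i`, `j`
  have hπj : (π : G) * (L.j * L.r) * (π : G)⁻¹ = L.j * L.r := by
    refine huniq (a := π * (j' * r') * π⁻¹) (b := j' * r') ?_ (L.isR_conj _ hjrR) ?_
    · simp only [map_mul, map_inv, hfr, mul_one, hπ]; exact hPJ
    · rw [show ((j' * r' : centralizer ({L.r} : Set G)) : G) * L.r = L.j by
        show L.j * L.r * L.r = L.j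
        rw [mul_assoc, hrr, mul_one]]
      exact hjR
  have hπi' : (π' : G) * (L.i * L.r) * (π' : G)⁻¹ = L.i * L.r := by
    refine huniq (a := π' * (i' * r') * π'⁻¹) (b := i' * r') ?_ (L.isR_conj _ hirR) ?_
    · simp only [map_mul, map_inv, hfr, mul_one, hπ']; exact hPI'
    · rw [show ((i' * r' : centralizer ({L.r} : Set G)) : G) * L.r = L.i by
        show L.i * L.r * L.r = L.i
        rw [mul_assoc, hrr, mul_one]]
      exact hiR
  have hπj0 : (π : G) * L.j * (π : G)⁻¹ = L.j := by
    rw [conj_mul_of, hπr] at hπj; exact mul_right_cancel hπj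
  have hπi0 : (π' : G) * L.i * (π' : G)⁻¹ = L.i := by
    rw [conj_mul_of, hπr'] at hπi'; exact mul_right_cancel hπi'
  set x' : centralizer ({L.r} : Set G) := π * (i' * r') * π⁻¹ with hx'
  set x : G := (π : G) * (L.i * L.r) * (π : G)⁻¹ with hx
  have hxx : (x' : G) = x := rfl
  have hfx : f x' = X := by
    simp only [hx', map_mul, map_inv, hfr, mul_one, hπ]; exact hPI
  have hxR : L.IsR x := L.isR_conj _ hirR
  have hπ'j : (π' : G) * (L.j * L.r) * (π' : G)⁻¹ = x := by
    refine huniq (a := π' * (j' * r') * π'⁻¹) (b := x') ?_ (L.isR_conj _ hjrR) ?_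
    · rw [hfx]; simp only [map_mul, map_inv, hfr, mul_one, hπ']; exact hPJ'
    · rw [hxx, hx, show (π : G) * (L.i * L.r) * (π : G)⁻¹ * L.r = π * L.i * (π : G)⁻¹ by
        rw [conj_mul_of, hπr, mul_assoc, hrr, mul_one]]
      exact fun h => hiR ((L.isR_conj_iff _).1 h)
  have hcx : ∀ {g a b : G}, a * b = b * a → g * a * g⁻¹ * (g * b * g⁻¹) = g * b * g⁻¹ * (g * a * g⁻¹) := by
    intro g a b h
    rw [← conj_mul_of, h, conj_mul_of]
  have hxr : x * L.r = L.r * x := mem_centralizer_singleton_iff.1 x'.2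
  have hxj : x * L.j = L.j * x := by
    have h := hcx (g := (π : G)) (show L.i * L.r * L.j = L.j * (L.i * L.r) by
      rw [mul_assoc, ← hjC, ← mul_assoc, hij, mul_assoc])
    rwa [hπj0, ← hx] at h
  have hxi : x * L.i = L.i * x := by
    have h := hcx (g := (π' : G)) (show L.j * L.r * L.i = L.i * (L.j * L.r) by
      rw [mul_assoc, ← hiC, ← mul_assoc, ← hij, mul_assoc])
    rwa [hπ'j, hπi0] at h
  have hxjR : L.IsR (x * L.j) := by
    have h := L.isR_conj (π : G) hijrR
    rwa [show L.i * L.j * L.r = L.i * L.r * L.j by rw [mul_assoc, mul_assoc, hjC],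
      conj_mul_of, hπj0, ← hx] at h
  have hxiR : L.IsR (x * L.i) := by
    have h := L.isR_conj (π' : G) hijrR
    rwa [show L.i * L.j * L.r = L.i * (L.j * L.r) from mul_assoc _ _ _, conj_mul_of, hπ'j, hπi0,
      ← hxi] at h
  -- neither lift of `IJX` is conjugate to `r`
  have hIJX : ∀ a : centralizer ({L.r} : Set G), f a = f i' * f j' * X → ¬ L.IsR (a : G) := by
    intro a ha haR
    obtain ⟨u, hu⟩ := hf U
    set y : centralizer ({L.r} : Set G) := u * (z' * w') * u⁻¹ with hy
    have hy3 : (y : G) ^ 3 = 1 := by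
      show ((u : G) * (L.z * L.w) * (u : G)⁻¹) ^ 3 = 1
      rw [conj_pow, L.D_cube (mul_mem L.z_mem L.w_mem)]; group
    have hfy : f (a * y * a⁻¹) = f y := by
      have : f y = U * (f z' * f w') * U⁻¹ := by simp only [hy, map_mul, map_inv, hu]
      rw [map_mul, map_mul, map_inv, ha, this, hU]; group
    have hay : (a : G) * y * (a : G)⁻¹ = y := by
      rcases hlift hfy with h | h
      · exact h
      · exfalso
        have h' : (a : G) * y * (a : G)⁻¹ = (y : G) * L.r := h
        have h3 := congrArg (· ^ 3) h'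
        have hyr : Commute (y : G) L.r := mem_centralizer_singleton_iff.1 y.2
        simp only [conj_pow, hy3, mul_one, mul_inv_cancel, hyr.mul_pow, one_mul] at h3
        rw [pow_succ, pow_two, hrr, one_mul] at h3
        exact L.r_ne h3.symm
    have hcomm : Commute (a : G) ((u : G) * (L.z * L.w) * (u : G)⁻¹) :=
      mul_inv_eq_iff_eq_mul.1 hay
    have har := L.eq_of_commute_conj_zw haR hcomm
    rw [show (u : G) * L.r * (u : G)⁻¹ = L.r by
      rw [mem_centralizer_singleton_iff.1 u.2]; group] at har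
    have h1 : f a = 1 := by rw [← hfr]; exact rel har
    rw [ha] at h1
    exact hXnIJ (by
      calc X = (f i' * f j')⁻¹ * (f i' * f j' * X) := by group
        _ = f i' * f j' := by
          rw [h1, mul_one]
          exact inv_eq_of_mul_eq_one_right (by
            calc f i' * f j' * (f i' * f j') = f i' * (f j' * f i') * f j' := by group
              _ = (f i' * f i') * (f j' * f j') := by rw [hJI]; group
              _ = 1 := by rw [hI2, hJ2, one_mul]))
  -- `s x s = x`
  have hsxr : L.s * x * L.s * L.r = L.r * (L.s * x * L.s) := by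
    have h : x * (L.j * L.r) = L.j * L.r * x := by
      rw [← mul_assoc, hxj, mul_assoc, hxr, ← mul_assoc]
    have h2 := congrArg (fun a => L.s * a * L.s) h
    simp only [sconj, hsj, hsr] at h2
    rwa [show L.j * (L.j * L.r) = L.r by rw [← mul_assoc, hjj, one_mul]] at h2
  set a' : centralizer ({L.r} : Set G) := ⟨L.s * x * L.s, mem_centralizer_singleton_iff.2 hsxr⟩
  have haR : L.IsR (L.s * x * L.s) := isR_s hxR
  have hai : f a' * f i' = f i' * f a' := by
    rw [← map_mul, ← map_mul]
    refine rel ?_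
    have h2 := congrArg (fun a => L.s * a * L.s) hxi
    simp only [sconj, hsi] at h2
    exact h2
  have haj : f a' * f j' = f j' * f a' := by
    rw [← map_mul, ← map_mul]
    refine rel ?_
    have h2 := congrArg (fun a => L.s * a * L.s) hxj
    simp only [sconj, hsj] at h2
    exact h2
  -- `s` normalises the group generated by `r`, `i`, `j`
  have back : ∀ u : centralizer ({L.r} : Set G),
      L.s * x * L.s = (u : G) → x = L.s * u * L.s := fun u h => by rw [← h, s_s]
  have hsxs : L.s * x * L.s = x := by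
    have low : ∀ v : centralizer ({L.r} : Set G), f a' = f v →
        ∀ v1 v2 : centralizer ({L.r} : Set G), L.s * (v : G) * L.s = v1 →
          L.s * ((v : G) * L.r) * L.s = v2 → f x' = f v1 ∨ f x' = f v2 := by
      intro v hv v1 v2 h1 h2
      rcases hlift hv with h | h
      · exact Or.inl (rel (by rw [hxx, back v h, h1]))
      · exact Or.inr (rel (by rw [hxx, ← h2, ← h]; exact (s_s x).symm))
    rcases hcentr (f a') hai haj with h | h | h | h | h | h | h | h
    · rcases low 1 (h.trans (map_one f).symm) 1 (j' * r') (by simp [hss])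
        (by simp [hsr]; rfl) with h' | h' <;>
        rw [hfx] at h' <;> simp only [map_one, map_mul, hfr, mul_one] at h' ⊢
      · exact absurd h' hX1
      · exact absurd h' hXnJ
    · rcases low i' h i' (i' * (j' * r')) hsi
        (by rw [sconj]; show L.s * L.i * L.s * _ = _; rw [hsi, hsr]; rfl) with h' | h' <;>
        rw [hfx] at h' <;> (try simp only [map_mul, hfr, mul_one] at h')
      · exact absurd h' hXnI
      · exact absurd h' hXnIJ
    · rcases low j' h j' r' hsj
        (by rw [sconj]; show L.s * L.j * L.s * _ = _; rw [hsj, hsr, ← mul_assoc, hjj, one_mul]) with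
          h' | h' <;> rw [hfx] at h'
      · exact absurd h' hXnJ
      · exact absurd (h'.trans hfr) hX1
    · rcases low (i' * j') (h.trans (map_mul f _ _).symm) (i' * j') (i' * r')
        (by show L.s * (L.i * L.j) * L.s = _; rw [sconj, hsi, hsj]; rfl)
        (by show L.s * (L.i * L.j * L.r) * L.s = L.i * L.r
            rw [sconj, sconj, hsi, hsj, hsr, mul_assoc, ← mul_assoc L.j, hjj, one_mul]) with
          h' | h' <;> rw [hfx] at h' <;> simp only [map_mul, hfr, mul_one] at h'
      · exact absurd h' hXnIJ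
      · exact absurd h' hXnI
    · refine huniq (a := a') (b := x') (h.trans hfx.symm) haR ?_
      rw [hxx, hx, show (π : G) * (L.i * L.r) * (π : G)⁻¹ * L.r = π * L.i * (π : G)⁻¹ by
        rw [conj_mul_of, hπr, mul_assoc, hrr, mul_one]]
      exact fun h => hiR ((L.isR_conj_iff _).1 h)
    · exfalso
      rcases hlift (b := x' * i') (h.trans (by rw [map_mul, hfx])) with h' | h'
      · -- `s (i j x) s = j x` is conjugate to `r`
        have h2 : L.s * x * L.s = x * L.i := h'
        refine hIJX (x' * (i' * j')) (by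
          rw [map_mul f x' (i' * j'), map_mul f i' j', hfx, ← mul_assoc, hXI, mul_assoc, hXJ, ← mul_assoc]) ?_
        have h3 := isR_s hxjR
        rw [sconj, hsj, h2] at h3
        show L.IsR (x * (L.i * L.j))
        rwa [← mul_assoc]
      · have h2 : L.s * x * L.s = x * L.i * L.r := h'
        have e2 : x = x * L.j := by
          conv_lhs => rw [← s_s x, h2, sconj, sconj, hsi, hsr, h2]
          calc x * L.i * L.r * L.i * (L.j * L.r) = x * (L.i * (L.r * L.i)) * (L.j * L.r) := by group
            _ = x * (L.r * L.j * L.r) := by rw [← hiC, ← mul_assoc L.i, hii, one_mul]; group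
            _ = x * L.j := by rw [← hjC, mul_assoc L.j, hrr, mul_one]
        exact hjne (left_eq_mul.1 e2)
    · exfalso
      rcases hlift (b := x' * j') (h.trans (by rw [map_mul, hfx])) with h' | h'
      · have h2 : L.s * x * L.s = x * L.j := h'
        refine hIJX (x' * (i' * j')) (by
          rw [map_mul f x' (i' * j'), map_mul f i' j', hfx, ← mul_assoc, hXI, mul_assoc, hXJ, ← mul_assoc]) ?_
        have h3 := isR_s hxiR
        rw [sconj, hsi, h2] at h3
        show L.IsR (x * (L.i * L.j))
        rwa [hij, ← mul_assoc]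
      · have h2 : L.s * x * L.s = x * L.j * L.r := h'
        have e2 : x = x * L.j := by
          conv_lhs => rw [← s_s x, h2, sconj, sconj, hsj, hsr, h2]
          calc x * L.j * L.r * L.j * (L.j * L.r) = x * L.j * L.r * (L.j * L.j) * L.r := by group
            _ = x * L.j := by rw [hjj, mul_one, mul_assoc, hrr, mul_one]
        exact hjne (left_eq_mul.1 e2)
    · exfalso
      have h' : f a' = f i' * f j' * X := by
        rw [h, ← mul_assoc, hXI, mul_assoc, hXJ, ← mul_assoc]
      exact hIJX a' h' haR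
  -- `I` is fused with `X * J`
  set g : G := L.s * π * L.s with hg
  have hginv : g⁻¹ = L.s * (π : G)⁻¹ * L.s := by
    rw [hg]; simp only [mul_inv_rev, hsinv, mul_assoc]
  have gconj : ∀ a : G, g * a * g⁻¹ = L.s * ((π : G) * (L.s * a * L.s) * (π : G)⁻¹) * L.s := fun a => by
    rw [hginv, hg]; simp only [mul_assoc]
  have hgr : g * L.r * g⁻¹ = L.r := by
    rw [gconj, hsr, hπj, sconj, hsj, hsr, ← mul_assoc, hjj, one_mul]
  have hgi : g * (L.i * L.r) * g⁻¹ = x * L.j := by
    rw [gconj, sconj L.i L.r, hsi, hsr, show L.i * (L.j * L.r) = L.i * L.r * L.j by rw [mul_assoc, hjC],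
      conj_mul_of, hπj0, ← hx, sconj, hsxs, hsj]
  refine hfus ⟨f ⟨g, mem_centralizer_singleton_iff.2 (mul_inv_eq_iff_eq_mul.1 hgr)⟩, ?_⟩
  have h := rel (a := ⟨g, mem_centralizer_singleton_iff.2 (mul_inv_eq_iff_eq_mul.1 hgr)⟩ * (i' * r') *
    ⟨g, mem_centralizer_singleton_iff.2 (mul_inv_eq_iff_eq_mul.1 hgr)⟩⁻¹) (b := x' * j') hgi
  simp only [map_mul, map_inv, hfr, mul_one, hfx] at h
  exact h

/-- In case Q the centralizer of `r` is the normalizer of `D`. -/
theorem cent_r_eq (hQ : L.CaseQ) :
    centralizer ({L.r} : Set G) = normalizer (L.D : Set G) :=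
  L.cent_r_cases.resolve_right fun ⟨e, he, hk⟩ => L.not_cent_r_sym_six hQ e he hk

end Datum

end CfsgLib.SymEightThreeLocal
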