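import Cfsg.Agent.Lib.SymEightThreeLocal.Fusion
import Cfsg.Agent.Lib.InvChar.Transfer
import Cfsg.Agent.Lib.Cores.GenFitting

/-!
Case Q of S3330: two transfers leave the product of two alternating groups, which is the
generalized Fitting subgroup.
-/

set_option autoImplicit false
set_option maxRecDepth 100000
set_option linter.unusedSectionVars false
set_option linter.unusedVariables false
set_option linter.style.haveILetI false

namespace CfsgLib.SymEightThreeLocal

open Equiv Subgroup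
open PairAlt (A5 av av' ac aV mem_aV)

universe u

theorem A5_le_of_index_two {K : Type*} [Group K] [Finite K] {H : Subgroup K} (hn : H.Normal)
    (h : H.index = 2) (i : A5 →* K) : ∀ a, i a ∈ H := by
  intro a
  refine (QuotientGroup.eq_one_iff _).1
    (PairAlt.ker_eq_top_of_not_injective ((QuotientGroup.mk' H).comp i) (fun hi => ?_) a)
  have h1 : Nat.card A5 ≤ Nat.card (K ⧸ H) := Nat.card_le_card_of_injective _ hi
  rw [PairAlt.card_A5] at h1
  rw [Subgroup.index] at h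
  omega

theorem rho_center : ∀ a : A5, a * rho ac = ac * a → a * rho av = av * a →
    a * rho av' = av' * a → False := by decide +kernel

theorem center_two : ∀ a : A5, a * ac = ac * a → a * av = av * a → a = 1 := by decide +kernel

theorem exists_not_comm {a : A5} (h : a ≠ 1) : ∃ x : A5, x * a * x⁻¹ * a⁻¹ ≠ 1 := by
  by_contra hc
  simp only [not_exists, not_not] at hc
  exact h (center_two a (mul_inv_eq_iff_eq_mul.1 (mul_inv_eq_one.1 (hc ac))).symm
    (mul_inv_eq_iff_eq_mul.1 (mul_inv_eq_one.1 (hc av))).symm)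

theorem mem_zpowers_invol {G : Type*} [Group G] {s x : G} (hs : s * s = 1)
    (hx : x ∈ zpowers s) : x = 1 ∨ x = s := by
  obtain ⟨n, rfl⟩ := mem_zpowers_iff.1 hx
  rcases Int.even_or_odd n with ⟨m, rfl⟩ | ⟨m, rfl⟩
  · left
    rw [zpow_add, ← (Commute.refl s).mul_zpow, hs, one_zpow]
  · right
    rw [zpow_add, two_mul, zpow_add, ← (Commute.refl s).mul_zpow, hs, one_zpow, zpow_one, one_mul]

theorem relIndex_eq_two {G : Type*} [Group G] [Finite G] {A B : Subgroup G} (hle : A ≤ B) {n : ℕ}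
    (hA : Nat.card A = n) (hB : Nat.card B = 2 * n) : A.relIndex B = 2 := by
  have h := (A.subgroupOf B).card_mul_index
  rw [Nat.card_congr (subgroupOfEquivOfLe hle).toEquiv, hA, hB, mul_comm 2 n] at h
  exact Nat.eq_of_mul_eq_mul_left (hA ▸ Nat.card_pos (α := A)) h

namespace Datum

variable {G : Type u} [Group G] (L : Datum G)
variable [Finite G] (hQ : L.CaseQ) (hcr : centralizer ({L.r} : Set G) = normalizer (L.D : Set G))
include hQ hcr

theorem card_E_zpowers {σ : G} (hσ : L.IsK σ) (h1 : σ ≠ 1) :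
    Nat.card (L.E hQ hcr ⊔ zpowers σ : Subgroup G) = 32 := by
  haveI : Fact (Nat.Prime 2) := ⟨Nat.prime_two⟩
  rw [card_E_sup L hQ hcr (by rw [zpowers_le]; exact hσ), Nat.card_zpowers,
    orderOf_eq_prime (p := 2) (by rw [pow_two]; exact L.isK_sq hσ) h1]

/-- The first transfer. -/
theorem exists_G1 :
    ∃ G1 : Subgroup G, G1.Normal ∧ G1.index = 2 ∧ L.r ∉ G1 ∧ L.N ≤ G1 := by
  haveI : Fact (Nat.Prime 2) := ⟨Nat.prime_two⟩
  let S : Sylow 2 G := (IsPGroup.of_card (n := 6) (by rw [card_S0 L hQ hcr]; rfl)).toSylow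
    (not_dvd_index_S0 L hQ hcr)
  have htK : L.IsK L.t := Or.inr (Or.inr (Or.inl rfl))
  have hle : L.E hQ hcr ⊔ zpowers L.t ≤ L.S0 hQ hcr :=
    sup_le_sup_left (by rw [zpowers_le]; exact htK) _
  have hM : (L.E hQ hcr ⊔ zpowers L.t).relIndex (S : Subgroup G) = 2 :=
    relIndex_eq_two hle (card_E_zpowers L hQ hcr htK (t_ne_one L hQ hcr)) (card_S0 L hQ hcr)
  have hrS : L.r ∈ (S : Subgroup G) :=
    mem_sup_right (show L.r ∈ L.K4 from Or.inr (Or.inl rfl))
  obtain ⟨G1, hn, hi, hr⟩ := CfsgLib.InvChar.exists_index_two_not_mem S _ hM 1 le_rfl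
    (fun y _ hy => by
      simp only [Nat.sub_self, pow_zero]
      have h1 : orderOf y ≠ 1 := fun h => hy (orderOf_eq_one_iff.1 h ▸ one_mem _)
      have := orderOf_pos y
      omega)
    L.r hrS (by rw [pow_one]; exact orderOf_eq_prime (by rw [pow_two]; exact L.r_sq) L.r_ne)
    (fun g hg => by
      obtain ⟨a, b, σ, -, -, hσ, e⟩ :=
        exists_rep_E L hQ hcr (by rw [zpowers_le]; exact htK) hg
      have hR : L.IsR (g * L.r * g⁻¹) := ⟨g, rfl⟩
      rw [e] at hR
      rcases mem_zpowers_invol L.t_sq hσ with rfl | rfl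
      · exact r_ne_one L hQ hcr (fusion L hQ hcr (Or.inl rfl) hR).1.symm
      · exact t_ne_r L hQ hcr (fusion L hQ hcr htK hR).1)
  refine ⟨G1, hn, hi, hr, ?_⟩
  rw [← L.ψ_range hQ hcr]
  rintro _ ⟨⟨a, b⟩, rfl⟩
  rw [ψ_mul L hQ hcr a b]
  exact mul_mem (A5_le_of_index_two hn hi ((L.ψ hQ hcr).comp (MonoidHom.inl A5 A5)) a)
    (A5_le_of_index_two hn hi ((L.ψ hQ hcr).comp (MonoidHom.inr A5 A5)) b)

/-- The swap outside `G1` sent to the inner coset. -/
theorem not_mem_conj_E {σ : G} (hr : Commute σ L.r) (hz : σ * L.z * σ⁻¹ = L.w)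
    (hy : Commute σ (L.z * L.w)) (h1 : σ ≠ 1) (g : G) : g * σ * g⁻¹ ∉ L.E hQ hcr := by
  intro h
  obtain ⟨a, b, ha, hb, e⟩ := PairAlt.mem_Emap.1 h
  have hc : IsConj σ (L.ψ hQ hcr (a, b)) := isConj_iff.2 ⟨g, e.symm⟩
  have hψ : ∀ (q : A5 × A5) (x y : G), L.ψ hQ hcr q * x * (L.ψ hQ hcr q)⁻¹ = y → IsConj x y :=
    fun q x y h => isConj_iff.2 ⟨_, h⟩
  by_cases ha1 : a = 1
  · subst ha1
    by_cases hb1 : b = 1
    · subst hb1
      refine h1 ?_
      rw [show ((1, 1) : A5 × A5) = 1 from rfl, map_one] at e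
      calc σ = g⁻¹ * (g * σ * g⁻¹) * g := by group
        _ = 1 := by rw [← e]; group
    · obtain ⟨q, hq⟩ := conj_left L hQ hcr (PairAlt.sq_of_mem hb) hb1
      have h2 : IsConj (L.ψ hQ hcr (av, 1)) (L.ψ hQ hcr (1, b)) :=
        (hψ _ _ _ hq).trans (isConj_iff.2 ⟨L.t, by rw [L.t_inv, t_conj]⟩)
      exact not_conj_left L hQ hcr hy (hc.trans h2.symm)
  · by_cases hb1 : b = 1
    · subst hb1
      obtain ⟨q, hq⟩ := conj_left L hQ hcr (PairAlt.sq_of_mem ha) ha1
      exact not_conj_left L hQ hcr hy (hc.trans (hψ _ _ _ hq).symm)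
    · obtain ⟨q, hq⟩ :=
        conj_double L hQ hcr (PairAlt.sq_of_mem ha) ha1 (PairAlt.sq_of_mem hb) hb1
      exact not_conj_swap_w0 L hQ hcr hr hz (hc.trans (hψ _ _ _ hq).symm)

/-- A subgroup of index four containing `N` and no other element of `⟨r, t⟩`. -/
theorem exists_K :
    ∃ K : Subgroup G, L.N ≤ K ∧ Nat.card G = 4 * Nat.card K ∧
      ∀ σ, L.IsK σ → σ ∈ K → σ = 1 := by
  haveI : Fact (Nat.Prime 2) := ⟨Nat.prime_two⟩
  obtain ⟨G1, hn1, hi1, hr1, hN1⟩ := exists_G1 L hQ hcr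
  obtain ⟨σ, hσK, hσ1, hσG, hz, hr, hy, hother⟩ : ∃ σ, L.IsK σ ∧ σ ≠ 1 ∧ σ ∈ G1 ∧
      σ * L.z * σ⁻¹ = L.w ∧ Commute σ L.r ∧ Commute σ (L.z * L.w) ∧
      ∀ τ, L.IsK τ → τ ∈ G1 → τ = 1 ∨ τ = σ := by
    have hrt : L.r * L.t ∈ G1 ↔ L.t ∉ G1 := by
      rw [Subgroup.mul_mem_iff_of_index_two hi1]
      simp [hr1]
    by_cases ht : L.t ∈ G1
    · refine ⟨L.t, Or.inr (Or.inr (Or.inl rfl)), t_ne_one L hQ hcr, ht, ?_, L.r_t.symm,
        t_commute_zw L hQ hcr, ?_⟩
      · rw [L.t_inv, L.t_z]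
      · rintro τ (rfl | rfl | rfl | rfl) hτ
        exacts [Or.inl rfl, absurd hτ hr1, Or.inr rfl, absurd ht (hrt.1 hτ)]
    · refine ⟨L.r * L.t, Or.inr (Or.inr (Or.inr rfl)), rt_ne_one L hQ hcr, hrt.2 ht, ?_, ?_,
        rt_commute_zw L hQ hcr, ?_⟩
      · rw [mul_inv_rev, show L.r * L.t * L.z * (L.t⁻¹ * L.r⁻¹)
          = L.r * (L.t * L.z * L.t⁻¹) * L.r⁻¹ by group, L.t_inv, L.t_z, L.r_w,
          mul_inv_cancel_right]
      · exact (Commute.refl L.r).mul_left L.r_t.symm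
      · rintro τ (rfl | rfl | rfl | rfl) hτ
        exacts [Or.inl rfl, absurd hτ hr1, absurd hτ ht, Or.inr rfl]
  have hle : zpowers σ ≤ L.K4 := by rw [zpowers_le]; exact hσK
  set S1 : Subgroup G := L.E hQ hcr ⊔ zpowers σ with hS1
  have hES : L.E hQ hcr ≤ S1 := le_sup_left
  have hEG : L.E hQ hcr ≤ G1 := (E_le_N L hQ hcr).trans hN1
  have hSG : S1 ≤ G1 := sup_le hEG (by rw [zpowers_le]; exact hσG)
  have hS1c : Nat.card (S1.subgroupOf G1) = 32 := by
    rw [Nat.card_congr (subgroupOfEquivOfLe hSG).toEquiv, card_E_zpowers L hQ hcr hσK hσ1]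
  have hEc : Nat.card ((L.E hQ hcr).subgroupOf G1) = 16 := by
    rw [Nat.card_congr (subgroupOfEquivOfLe hEG).toEquiv, card_E]
  have hi : ¬ 2 ∣ (S1.subgroupOf G1).index := by
    intro hd
    apply not_dvd_index_S0 L hQ hcr
    have e1 := (S1.subgroupOf G1).card_mul_index
    have e2 := G1.card_mul_index
    have e3 := (L.S0 hQ hcr).card_mul_index
    rw [hS1c] at e1
    rw [hi1] at e2
    rw [card_S0 L hQ hcr] at e3
    omega
  let S : Sylow 2 G1 := (IsPGroup.of_card (n := 5) (by rw [hS1c]; rfl)).toSylow hi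
  have hM : ((L.E hQ hcr).subgroupOf G1).relIndex (S : Subgroup G1) = 2 :=
    relIndex_eq_two (fun x hx => hES hx) hEc hS1c
  obtain ⟨G2, hn2, hi2, hσ2⟩ := CfsgLib.InvChar.exists_index_two_not_mem S _ hM 1 le_rfl
    (fun y _ hy => by
      simp only [Nat.sub_self, pow_zero]
      have h1 : orderOf y ≠ 1 := fun h => hy (orderOf_eq_one_iff.1 h ▸ one_mem _)
      have := orderOf_pos y
      omega)
    ⟨σ, hσG⟩ (mem_sup_right (mem_zpowers σ))
    (by rw [pow_one, Subgroup.orderOf_mk]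
        exact orderOf_eq_prime (by rw [pow_two]; exact L.isK_sq hσK) hσ1)
    (fun g hg => not_mem_conj_E L hQ hcr hr hz hy hσ1 (g : G) hg)
  refine ⟨G2.map G1.subtype, ?_, ?_, ?_⟩
  · rw [← L.ψ_range hQ hcr]
    rintro _ ⟨⟨a, b⟩, rfl⟩
    rw [ψ_mul L hQ hcr a b]
    let i1 : A5 →* G1 := ((L.ψ hQ hcr).comp (MonoidHom.inl A5 A5)).codRestrict G1
      fun p => hN1 (ψ_mem_N L hQ hcr _)
    let i2 : A5 →* G1 := ((L.ψ hQ hcr).comp (MonoidHom.inr A5 A5)).codRestrict G1
      fun p => hN1 (ψ_mem_N L hQ hcr _)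
    exact mul_mem ⟨i1 a, A5_le_of_index_two hn2 hi2 i1 a, rfl⟩
      ⟨i2 b, A5_le_of_index_two hn2 hi2 i2 b, rfl⟩
  · have e2 := G1.card_mul_index
    have e3 := G2.card_mul_index
    rw [hi1] at e2
    rw [hi2] at e3
    rw [card_map_of_injective G1.subtype_injective]
    omega
  · rintro τ hτ ⟨x, hx, hxe⟩
    have hτ1 : τ ∈ G1 := hxe ▸ x.2
    rcases hother τ hτ hτ1 with h | h
    · exact h
    · exfalso
      subst h
      have : x = ⟨τ, hσG⟩ := Subtype.ext hxe
      exact hσ2 (this ▸ hx)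

theorem rep_cent_z {x : G} (hx : x * L.z = L.z * x) :
    ∃ (b : A5) (m : ℕ), x = L.ψ hQ hcr (b, ac ^ m) ∨ x = L.ψ hQ hcr (b, ac ^ m) * L.r := by
  obtain ⟨⟨a, b⟩, hp, rfl⟩ := L.exists_of_commute_z hx
  have h3 : ∀ a : Perm (Fin 3), a * mz.1 = mz.1 * a → ∃ m : Fin 3, a = mz.1 ^ (m : ℕ) := by
    decide +kernel
  obtain ⟨m, hm⟩ := h3 a (congrArg Prod.fst hp)
  have e0 : ((a, b) : M) = mz ^ (m : ℕ) * (1, b) := by
    rw [Prod.pow_def]
    exact Prod.ext (by simp [hm]) (by simp [mz])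
  have hzm : ∀ c : A5, L.z ^ (m : ℕ) * L.φ (1, (c : Perm (Fin 5))) =
      L.ψ hQ hcr (c, ac ^ (m : ℕ)) := by
    intro c
    rw [← ψ_ac_right L hQ hcr, ← ψ_left L hQ hcr, ← map_pow, ← map_mul]
    simp
  rcases Int.units_eq_one_or (Perm.sign b) with hs | hs
  · refine ⟨⟨b, Perm.mem_alternatingGroup.2 hs⟩, m, Or.inl ?_⟩
    rw [← hzm, e0, map_mul, map_pow]
    rfl
  · have hs' : Perm.sign (b * swap 3 4) = 1 := by
      rw [map_mul, hs, Perm.sign_swap (by decide)]; rfl
    refine ⟨⟨b * swap 3 4, Perm.mem_alternatingGroup.2 hs'⟩, m, Or.inr ?_⟩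
    rw [← hzm, e0, map_mul, map_pow, mul_assoc, r, ← map_mul]
    show L.φ mz ^ (m : ℕ) * L.φ (1, b) = L.φ mz ^ (m : ℕ) * L.φ ((1, b * swap 3 4) * mr)
    congr 2
    exact Prod.ext (by simp [mr]) (by simp [mr, mul_assoc])

theorem card_G_eq : Nat.card G = 14400 := by
  haveI : Fact (Nat.Prime 2) := ⟨Nat.prime_two⟩
  obtain ⟨K, hNK, hKc, hK1⟩ := exists_K L hQ hcr
  let f : A5 × A5 →* K := (L.ψ hQ hcr).codRestrict K fun p => hNK (ψ_mem_N L hQ hcr p)
  have hinj : Function.Injective f := fun p q h =>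
    L.ψ_injective hQ hcr (congrArg Subtype.val h)
  have hval : ∀ p, (f p : G) = L.ψ hQ hcr p := fun p => rfl
  have hcard := card_G L hQ hcr
  have hIH := not_dvd_index_H L hQ hcr
  have hrK : L.r ∉ K := fun h => r_ne_one L hQ hcr (hK1 _ (Or.inr (Or.inl rfl)) h)
  have hmemK : ∀ p, L.ψ hQ hcr p ∈ K := fun p => hNK (ψ_mem_N L hQ hcr p)
  have hfree : ∀ (p : A5 × A5) (k : K), (k : G) ≠ L.ψ hQ hcr p * L.r := by
    intro p k h
    have : L.r = (L.ψ hQ hcr p)⁻¹ * k := by rw [h]; group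
    exact hrK (this ▸ K.mul_mem (K.inv_mem (hmemK p)) k.2)
  have hEc : Nat.card (PairAlt.Emap f) = 16 := by
    rw [PairAlt.Emap, card_map_of_injective hinj, Nat.card_congr (prodEquiv _ _).toEquiv,
      Nat.card_prod, card_aV_eq]
  have hDc : Nat.card (PairAlt.Dmap f) = 9 := by
    rw [PairAlt.Dmap, card_map_of_injective hinj, Nat.card_congr (prodEquiv _ _).toEquiv,
      Nat.card_prod, Nat.card_zpowers, PairAlt.orderOf_ac]
  have hE : ¬ 2 ∣ (PairAlt.Emap f).index := by
    have e := (PairAlt.Emap f).card_mul_index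
    rw [hEc] at e
    omega
  have hD : ¬ 3 ∣ (PairAlt.Dmap f).index := by
    have e := (PairAlt.Dmap f).card_mul_index
    rw [hDc] at e
    have e2 := L.D.card_mul_index
    rw [L.card_D] at e2
    have := L.not_dvd
    omega
  have hcz : ∀ k : K, Commute (k : G) L.z →
      ∃ (q : A5) (m : ℕ), k = f (q, ac ^ m) := by
    intro k hk
    obtain ⟨q, m, e | e⟩ := rep_cent_z L hQ hcr hk.eq
    · exact ⟨q, m, Subtype.ext e⟩
    · exact absurd e (hfree _ k)
  have h : PairAlt.Hyp f := by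
    refine ⟨hinj, hE, fun k hk => ?_, fun k hk => ?_, fun hc => ?_, fun hc => ?_⟩
    · have hk' : (k : G) * L.w = L.w * k := by
        have := congrArg Subtype.val hk.eq
        simpa [hval, ψ_ac_left] using this
      have hk2 : L.t * (k : G) * L.t * L.z = L.z * (L.t * (k : G) * L.t) := by
        rw [← L.t_w, L.conj_t_mul, L.conj_t_mul, hk']
      obtain ⟨q, m, e | e⟩ := rep_cent_z L hQ hcr hk2
      · refine ⟨m, q, Subtype.ext ?_⟩
        rw [hval, ← t_conj L hQ hcr q (ac ^ m), ← e, L.conj_t_conj]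
      · refine absurd ?_ (hfree (ac ^ m, q) k)
        rw [← t_conj L hQ hcr q (ac ^ m), ← L.conj_t_conj (k : G), e]
        simp only [mul_assoc]
        rw [L.r_t]
    · refine hcz k ?_
      have := congrArg Subtype.val hk.eq
      show (k : G) * L.z = L.z * (k : G)
      simpa [hval, ψ_ac_right] using this
    · exact not_conj_left_w0 L hQ hcr (K.subtype.map_isConj hc)
    · exact not_conj_right_w0 L hQ hcr (K.subtype.map_isConj hc)
  have hND : normalizer (PairAlt.Dmap f : Set K) ≤ f.range := by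
    intro k hk
    have hDle : ∀ x : K, x ∈ PairAlt.Dmap f → (x : G) ∈ L.D := by
      rintro _ ⟨⟨a, b⟩, hab, rfl⟩
      obtain ⟨i, rfl⟩ := mem_zpowers_iff.1 (mem_prod.1 hab).1
      obtain ⟨i', rfl⟩ := mem_zpowers_iff.1 (mem_prod.1 hab).2
      have e : (f (ac ^ i, ac ^ i') : G) = L.w ^ i * L.z ^ i' := by
        rw [hval, ← ψ_ac_left L hQ hcr, ← ψ_ac_right L hQ hcr, ← map_zpow, ← map_zpow, ← map_mul]
        simp
      exact e ▸ mul_mem (zpow_mem L.w_mem _) (zpow_mem L.z_mem _)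
    have hconj : ∀ p : A5 × A5, p ∈ (zpowers ac).prod (zpowers ac) →
        (k : G) * L.ψ hQ hcr p * (k : G)⁻¹ ∈ L.D := fun p hp =>
      hDle _ ((mem_normalizer_iff.1 hk (f p)).1 ⟨p, hp, rfl⟩)
    have hkD : (k : G) ∈ normalizer (L.D : Set G) := by
      refine mem_normalizer_fintype ?_
      have hle : L.D ≤ L.D.comap (MulAut.conj (k : G)).toMonoidHom := by
        conv_lhs => rw [L.D_eq]
        rw [closure_le]
        rintro y (rfl | rfl)
        · show (k : G) * L.z * (k : G)⁻¹ ∈ L.D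
          rw [← ψ_ac_right L hQ hcr]
          exact hconj _ (mem_prod.2 ⟨one_mem _, mem_zpowers _⟩)
        · show (k : G) * L.w * (k : G)⁻¹ ∈ L.D
          rw [← ψ_ac_left L hQ hcr]
          exact hconj _ (mem_prod.2 ⟨mem_zpowers _, one_mem _⟩)
      exact fun a ha => hle ha
    obtain ⟨p, σ, hσ, e⟩ := exists_rep L hQ hcr (L.norm_D_le_H hQ hkD)
    have hσK : σ ∈ K := by
      have : σ = (L.ψ hQ hcr p)⁻¹ * k := by rw [e]; group
      exact this ▸ K.mul_mem (K.inv_mem (hmemK p)) k.2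
    exact ⟨p, Subtype.ext (by rw [hval, e, hK1 σ hσ hσK, mul_one])⟩
  have htop := h.range_eq_top hD hND
  have hKN : Nat.card K = 3600 := by
    rw [← Subgroup.card_top (G := K), ← htop,
      Nat.card_congr (MonoidHom.ofInjective hinj).toEquiv.symm, Nat.card_prod, PairAlt.card_A5]
  rw [hKc, hKN]

theorem H_eq_top : L.H = ⊤ :=
  eq_top_of_card_eq _ (by rw [L.card_H hQ hcr, card_G_eq L hQ hcr])

theorem N_normal : L.N.Normal :=
  normalizer_eq_top_iff.1 (top_le_iff.1 (H_eq_top L hQ hcr ▸ L.H_le_normalizer hQ hcr))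

theorem N_index : L.N.index = 4 := by
  have h := L.N.card_mul_index
  rw [L.card_N hQ hcr, card_G_eq L hQ hcr] at h
  omega

theorem centralizer_N : centralizer (L.N : Set G) = ⊥ := by
  rw [eq_bot_iff]
  intro g hg
  have hgc : ∀ p, g * L.ψ hQ hcr p = L.ψ hQ hcr p * g := fun p =>
    (mem_centralizer_iff.1 hg _ (ψ_mem_N L hQ hcr p)).symm
  obtain ⟨p, σ, hσ, rfl⟩ := exists_rep L hQ hcr (h := g) (H_eq_top L hQ hcr ▸ mem_top g)
  obtain ⟨a, b⟩ := p
  have hinj := L.ψ_injective hQ hcr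
  -- the action on the first factor
  have key : ∀ q q' : A5 × A5, σ * L.ψ hQ hcr q * σ = L.ψ hQ hcr q' → (a, b) * q' = q * (a, b) := by
    intro q q' h
    apply hinj
    rw [map_mul, map_mul]
    have h2 : σ * L.ψ hQ hcr q = L.ψ hQ hcr q' * σ := by
      rw [← h, mul_assoc _ σ σ, L.isK_sq hσ, mul_one]
    have h3 := hgc q
    rw [mul_assoc, h2, ← mul_assoc, ← mul_assoc] at h3
    exact mul_right_cancel h3
  rcases hσ with rfl | rfl | rfl | rfl
  · have ha : ∀ x : A5, a * x = x * a := fun x => congrArg Prod.fst (key (x, 1) (x, 1) (by simp))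
    have hb : ∀ x : A5, b * x = x * b := fun x => congrArg Prod.snd (key (1, x) (1, x) (by simp))
    rw [mem_bot, center_two a (ha _) (ha _), center_two b (hb _) (hb _), mul_one]
    exact map_one _
  · exfalso
    have ha : ∀ x : A5, a * rho x = x * a := fun x =>
      congrArg Prod.fst (key (x, 1) (rho x, rho 1) (r_conj L hQ hcr x 1))
    exact rho_center a (ha _) (ha _) (ha _)
  · exfalso
    have h0 := congrArg Prod.fst (key (ac, 1) (1, ac) (t_conj L hQ hcr ac 1))
    exact PairAlt.ac_ne (by simpa using h0)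
  · exfalso
    have h0 := congrArg Prod.fst (key (ac, 1) (rho 1, rho ac) (rt_conj L hQ hcr ac 1))
    rw [show rho (1 : A5) = 1 by decide] at h0
    exact PairAlt.ac_ne (by simpa using h0)

theorem N_minimal (K : Subgroup G) (hK : K.Normal) (hle : K ≤ L.N) : K = ⊥ ∨ K = L.N := by
  let U : Subgroup (A5 × A5) := K.comap (L.ψ hQ hcr)
  have hU : U.Normal := hK.comap _
  have hswap : ∀ a b : A5, (a, b) ∈ U → (b, a) ∈ U := by
    intro a b h
    have := hK.conj_mem _ h L.t
    rw [L.t_inv, t_conj] at this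
    exact this
  by_cases hex : ∃ a b : A5, (a, b) ∈ U ∧ a ≠ 1
  · right
    refine le_antisymm hle ?_
    obtain ⟨a, b, hab, ha⟩ := hex
    obtain ⟨x, hx⟩ := exists_not_comm ha
    let V : Subgroup A5 := U.comap (MonoidHom.inl A5 A5)
    have hxV : x * a * x⁻¹ * a⁻¹ ∈ V := by
      show (x * a * x⁻¹ * a⁻¹, (1 : A5)) ∈ U
      have := U.mul_mem (hU.conj_mem _ hab (x, 1)) (U.inv_mem hab)
      simpa using this
    rcases (hU.comap (MonoidHom.inl A5 A5) : V.Normal).eq_bot_or_eq_top with e | e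
    · exact absurd (mem_bot.1 (e ▸ hxV)) hx
    · rw [← L.ψ_range hQ hcr]
      rintro _ ⟨⟨c, d⟩, rfl⟩
      rw [ψ_mul L hQ hcr c d]
      have hc : ∀ c, (c, (1 : A5)) ∈ U := fun c => by
        have : c ∈ V := by rw [show V = ⊤ from e]; exact mem_top c
        exact this
      exact K.mul_mem (hc c) (hswap d 1 (hc d))
  · left
    rw [eq_bot_iff]
    intro g hg
    have hgN := hle hg
    rw [← L.ψ_range hQ hcr] at hgN
    obtain ⟨⟨a, b⟩, rfl⟩ := hgN
    have ha : a = 1 := by_contra fun h => hex ⟨a, b, hg, h⟩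
    have hb : b = 1 := by_contra fun h => hex ⟨b, a, hswap a b hg, h⟩
    rw [mem_bot, ha, hb]
    exact map_one _

theorem component {i : A5 →* G} (hi : Function.Injective i) (hle : i.range ≤ L.N)
    (hn : L.N ≤ normalizer (i.range : Set G)) : Cfsg.IsComponent i.range := by
  refine ⟨Subgroup.IsSubnormal.step _ _ hle (N_normal L hQ hcr).isSubnormal
    ((normal_subgroupOf_iff_le_normalizer hle).2 hn), ?_⟩
  refine (CfsgLib.Cores.isQuasisimple_congr (MonoidHom.ofInjective hi)).1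
    (CfsgLib.Cores.isQuasisimple_of_isSimpleGroup fun hc => ?_)
  exact absurd (hc.is_comm.comm ac av) (by decide)

theorem genFitting_eq : Cfsg.generalizedFittingSubgroup G = L.N := by
  have hN := N_normal L hQ hcr
  have hcN := centralizer_N L hQ hcr
  apply le_antisymm
  · refine sup_le (CfsgLib.Cores.layer_le_iff.2 fun X hX => ?_)
      (CfsgLib.Cores.fittingSubgroup_le_iff.2 fun X hXn hXnil => ?_)
    · by_contra hXN
      have h := CfsgLib.Cores.le_centralizer_of_not_le hX hN.isSubnormal hXN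
      rw [hcN, le_bot_iff] at h
      exact CfsgLib.Cores.ne_bot_of_isComponent hX h
    · haveI := hN
      haveI := hXn
      rcases N_minimal L hQ hcr (X ⊓ L.N) inferInstance inf_le_right with h | h
      · have : X ≤ centralizer (L.N : Set G) := fun x hx => mem_centralizer_iff.2 fun y hy =>
          (commute_of_normal_of_disjoint X L.N hXn hN (disjoint_iff.2 h) x y hx hy).eq.symm
        rw [hcN] at this
        exact this.trans bot_le
      · exfalso
        have hNX : L.N ≤ X := h ▸ inf_le_left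
        haveI : Group.IsSolvable X := inferInstance
        haveI : Group.IsSolvable A5 := Group.isSolvable_of_isSolvable_injective
          (f := ((L.ψ hQ hcr).comp (MonoidHom.inl A5 A5)).codRestrict X
            fun p => hNX (ψ_mem_N L hQ hcr _))
          (fun p q hpq => congrArg Prod.fst (L.ψ_injective hQ hcr
            (congrArg Subtype.val hpq : L.ψ hQ hcr (p, 1) = L.ψ hQ hcr (q, 1))))
        refine CfsgLib.Cores.not_isSolvable_of_isQuasisimple
          (CfsgLib.Cores.isQuasisimple_of_isSimpleGroup (H := A5) fun hc => ?_) inferInstance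
        exact absurd (hc.is_comm.comm ac av) (by decide)
  · have hnB : L.N ≤ normalizer (L.B : Set G) := by
      refine sup_le le_normalizer (le_trans ?_ (centralizer_le_normalizer _))
      intro y hy
      exact mem_centralizer_iff.2 fun x hx => (L.commute_B hQ hcr x hx y hy).eq
    have hnB' : L.N ≤ normalizer (L.B' : Set G) := by
      refine sup_le (le_trans ?_ (centralizer_le_normalizer _)) le_normalizer
      intro y hy
      exact mem_centralizer_iff.2 fun x hx => (L.commute_B hQ hcr y hy x hx).eq.symm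
    refine le_trans ?_ (CfsgLib.Cores.layer_le_generalizedFittingSubgroup G)
    refine sup_le ?_ ?_
    · rw [← L.ψ₁_range]
      exact CfsgLib.Cores.le_layer (component L hQ hcr L.ψ₁_inj
        (L.ψ₁_range ▸ L.B_le_N) (L.ψ₁_range ▸ hnB))
    · rw [← L.ψ₂_range]
      exact CfsgLib.Cores.le_layer (component L hQ hcr
        ((MulAut.conj L.t).injective.comp L.ψ₁_inj)
        (L.ψ₂_range ▸ L.B'_le_N) (L.ψ₂_range ▸ hnB'))

/-- The exceptional conclusion of S3330. -/
theorem product_of_caseQ :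
    ∃ N : Subgroup G, N.Normal ∧ Cfsg.generalizedFittingSubgroup G = N ∧
      Nonempty (N ≃* alternatingGroup (Fin 5) × alternatingGroup (Fin 5)) ∧
      (∀ K : Subgroup G, K.Normal → K ≤ N → K = ⊥ ∨ K = N) ∧
      N.index = 4 ∧ ∀ g : G, g ^ 2 ∈ N :=
  ⟨L.N, N_normal L hQ hcr, genFitting_eq L hQ hcr, ⟨L.N_equiv hQ hcr⟩,
    N_minimal L hQ hcr, N_index L hQ hcr, fun g => by
      rw [pow_two]; exact L.sq_mem_N hQ hcr (H_eq_top L hQ hcr ▸ mem_top g)⟩

end Datum

end CfsgLib.SymEightThreeLocal
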