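import Cfsg.Agent.Lib.SymEightThreeLocal.Local

/-!
The data from the literal hypotheses of S3330.
-/

set_option autoImplicit false
set_option linter.unusedSectionVars false

namespace CfsgLib.SymEightThreeLocal

open Subgroup

universe u

variable {G : Type u} [Group G] [Finite G]

theorem exists_datum_of_hyps
    (P : Sylow 3 G) (D : Subgroup G) (hDP : D = P) (y z : G) (hgen : closure {y, z} = D)
    (hcomm : IsMulCommutative D) (hcard : Nat.card D = 9) (hexp : ∀ a ∈ D, a ^ 3 = 1)
    (hC : Nat.card (centralizer (D : Set G)) = 18)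
    (eN : normalizer (D : Set G) ⧸ D.subgroupOf (normalizer (D : Set G)) ≃*
      DihedralGroup 4 × Multiplicative (ZMod 2))
    [((centralizer (D : Set G)).subgroupOf (normalizer (D : Set G))).Normal]
    (eNC : normalizer (D : Set G) ⧸ (centralizer (D : Set G)).subgroupOf (normalizer (D : Set G)) ≃*
      DihedralGroup 4)
    (hyn : (D.subgroupOf (centralizer ({y} : Set G))).Normal)
    (hycard : Nat.card (centralizer ({y} : Set G)) = 36)
    (hysq : ∀ g ∈ centralizer ({y} : Set G), g ^ 2 ∈ D)
    (eC : centralizer ({z} : Set G) ≃* Multiplicative (ZMod 3) × Equiv.Perm (Fin 5))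
    (eL : normalizer (zpowers z : Set G) ≃* Equiv.Perm (Fin 3) × Equiv.Perm (Fin 5)) :
    ∃ L : Datum G, L.D = D ∧ L.z = z := by
  have hz1 : z ≠ 1 := by
    rintro rfl
    have hc : Nat.card (centralizer ({(1 : G)} : Set G)) = Nat.card G := by
      rw [show centralizer ({(1 : G)} : Set G) = ⊤ from
        eq_top_iff.mpr fun g _ => mem_centralizer_singleton_iff.mpr (by simp), card_top]
    have hn : Nat.card (normalizer (zpowers (1 : G) : Set G)) = Nat.card G := by
      rw [show normalizer (zpowers (1 : G) : Set G) = ⊤ by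
        rw [zpowers_one_eq_bot]; exact normalizer_eq_top_iff.mpr inferInstance, card_top]
    rw [Nat.card_congr eC.toEquiv] at hc
    rw [Nat.card_congr eL.toEquiv] at hn
    rw [← hc, Nat.card_prod, Nat.card_prod, Nat.card_perm, Nat.card_perm, Nat.card_fin, Nat.card_fin,
      show Nat.card (Multiplicative (ZMod 3)) = 3 from
        (Nat.card_congr Multiplicative.toAdd).trans (Nat.card_zmod 3),
      show Nat.factorial 3 = 6 from rfl] at hn
    have h5 : 0 < Nat.factorial 5 := Nat.factorial_pos 5
    omega
  have hN : Nat.card (normalizer (D : Set G)) = 144 := by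
    have h := (D.subgroupOf (normalizer (D : Set G))).card_mul_index
    rw [Nat.card_congr (subgroupOfEquivOfLe le_normalizer).toEquiv, hcard, index,
      Nat.card_congr eN.toEquiv, Nat.card_prod, Nat.card_congr Multiplicative.toAdd,
      Nat.card_zmod, DihedralGroup.nat_card] at h
    omega
  refine exists_datum P D hDP y z hgen hcomm hcard hexp hC hN
    ⟨eNC.toMonoidHom.comp (QuotientGroup.mk' _), eNC.surjective.comp (QuotientGroup.mk'_surjective _), ?_⟩
    hyn hycard hysq hz1 eL
  ext x
  rw [MonoidHom.mem_ker]
  show eNC (QuotientGroup.mk' _ x) = 1 ↔ _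
  rw [map_eq_one_iff _ eNC.injective]
  exact QuotientGroup.eq_one_iff x

end CfsgLib.SymEightThreeLocal
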