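import Mathlib

/-!
The 3-local data of a group of type `S₈` or `(A₅ × A₅).4` (S3330): models and named elements.
-/

set_option autoImplicit false
set_option maxRecDepth 100000

namespace CfsgLib.SymEightThreeLocal

open Equiv Subgroup

universe u

/-- The model of the normalizer of `⟨z⟩`. -/
abbrev M : Type := Perm (Fin 3) × Perm (Fin 5)

/-- The element `z` in the model. -/
def mz : M := (swap 0 1 * swap 1 2, 1)
/-- The element `w` in the model. -/
def mw : M := (1, swap 0 1 * swap 1 2)
/-- The involution of `C(D)` in the model. -/
def mr : M := (1, swap 3 4)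
/-- The involution inverting `z` and centralizing the second factor. -/
def mi : M := (swap 0 1, 1)
/-- An involution centralizing `z`, inverting `w`: the transposition. -/
def mjOdd : M := (1, swap 0 1)
/-- An involution centralizing `z`, inverting `w`: the double transposition. -/
def mjEven : M := (1, swap 0 1 * swap 3 4)
/-- A double transposition moving `r` to another transposition. -/
def ms : M := (1, swap 0 3 * swap 1 4)
/-- The alternating group of degree five in the second factor. -/
def mB : Subgroup M := (⊥ : Subgroup (Perm (Fin 3))).prod (alternatingGroup (Fin 5))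

/-- The data: a model `φ` of the normalizer of `⟨z⟩` and an involution `t` interchanging `z` and `w`
and centralizing `r`. -/
structure Datum (G : Type u) [Group G] where
  D : Subgroup G
  φ : M →* G
  t : G
  φ_inj : Function.Injective φ
  φ_range : φ.range = normalizer (zpowers (φ mz) : Set G)
  t_sq : t * t = 1
  tz : t * φ mz * t = φ mw
  tr : t * φ mr * t = φ mr
  D_eq : D = closure {φ mz, φ mw}
  card_D : Nat.card D = 9
  not_dvd : ¬ 3 ∣ D.index
  sylow : ∀ x : G, x ^ 3 = 1 → ∃ g : G, g * x * g⁻¹ ∈ D
  card_cent_D : Nat.card (centralizer (D : Set G)) = 18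
  card_norm_D : Nat.card (normalizer (D : Set G)) = 144
  card_zw : Nat.card (centralizer ({φ mz * φ mw} : Set G)) = 36
  card_zw' : Nat.card (centralizer ({φ mz * (φ mw)⁻¹} : Set G)) = 36
  zw_le : centralizer ({φ mz * φ mw} : Set G) ≤ normalizer (D : Set G)
  zw'_le : centralizer ({φ mz * (φ mw)⁻¹} : Set G) ≤ normalizer (D : Set G)
  dih : ∃ f : normalizer (D : Set G) →* DihedralGroup 4, Function.Surjective f ∧
    f.ker = (centralizer (D : Set G)).subgroupOf (normalizer (D : Set G))
  parity : t * φ mi * t = φ mjOdd ∨ t * φ mi * t = φ mjEven

namespace Datum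

variable {G : Type u} [Group G] (L : Datum G)

def z : G := L.φ mz
def w : G := L.φ mw
def r : G := L.φ mr
def i : G := L.φ mi
def j : G := L.t * L.φ mi * L.t
def s : G := L.φ ms
def q : G := L.t * L.φ ms * L.t
/-- The alternating group of degree five centralizing `z`. -/
def B : Subgroup G := mB.map L.φ
/-- The alternating group of degree five centralizing `w`. -/
def B' : Subgroup G := L.B.map (MulAut.conj L.t).toMonoidHom
/-- The case leading to the symmetric group of degree eight. -/
def CaseP : Prop := L.j = L.φ mjOdd
/-- The case leading to `(A₅ × A₅).4`. -/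
def CaseQ : Prop := L.j = L.φ mjEven
/-- The conjugates of `r`. -/
def IsR (x : G) : Prop := ∃ g : G, g * L.r * g⁻¹ = x

theorem caseP_or_caseQ : L.CaseP ∨ L.CaseQ := L.parity

end Datum

end CfsgLib.SymEightThreeLocal
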