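import Cfsg.Agent.Lib.SymEightThreeLocal.ExclSixFrame

/-!
The configuration in `S₆` when the image of `z` is a three-cycle.
-/

set_option autoImplicit false
set_option maxRecDepth 100000
set_option Elab.async false
set_option synthInstance.maxSize 4000
set_option synthInstance.maxHeartbeats 200000

namespace CfsgLib.SymEightThreeLocal.ExclSix

open Equiv

/-- Data for the normal forms. -/
def cent_za : List (Perm (Fin 6)) := [1, (swap 4 5), (swap 3 4), (swap 3 4 * swap 4 5), (swap 3 5 * swap 4 5), (swap 3 5), (swap 0 1 * swap 1 2), (swap 0 1 * swap 1 2 * swap 4 5), (swap 0 1 * swap 1 2 * swap 3 4), (swap 0 1 * swap 1 2 * swap 3 4 * swap 4 5), (swap 0 1 * swap 1 2 * swap 3 5 * swap 4 5), (swap 0 1 * swap 1 2 * swap 3 5), (swap 0 2 * swap 1 2), (swap 0 2 * swap 1 2 * swap 4 5), (swap 0 2 * swap 1 2 * swap 3 4), (swap 0 2 * swap 1 2 * swap 3 4 * swap 4 5), (swap 0 2 * swap 1 2 * swap 3 5 * swap 4 5), (swap 0 2 * swap 1 2 * swap 3 5)]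

/-- Data for the normal forms. -/
def inv_za : List (Perm (Fin 6)) := [(swap 1 2), (swap 1 2 * swap 4 5), (swap 1 2 * swap 3 4), (swap 1 2 * swap 3 5), (swap 0 1), (swap 0 1 * swap 4 5), (swap 0 1 * swap 3 4), (swap 0 1 * swap 3 5), (swap 0 2), (swap 0 2 * swap 4 5), (swap 0 2 * swap 3 4), (swap 0 2 * swap 3 5)]

/-- Data for the normal forms. -/
def w_za : Perm (Fin 6) := (swap 3 4 * swap 4 5)

/-- Data for the normal forms. -/
def i_za : Perm (Fin 6) := (swap 1 2)

/-- Data for the normal forms. -/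
def j_za : Perm (Fin 6) := (swap 4 5)

/-- Data for the normal forms. -/
def x_za : Perm (Fin 6) := (swap 0 3)

/-- Data for the normal forms. -/
def p_za : Perm (Fin 6) := (swap 0 1 * swap 2 3)

/-- Data for the normal forms. -/
def q_za : Perm (Fin 6) := (swap 0 4 * swap 3 5)

/-- Data for the normal forms. -/
def u_za : Perm (Fin 6) := (swap 2 4 * swap 3 4 * swap 4 5)

/-- Data for the normal forms. -/
def v_za : Perm (Fin 6) := (swap 2 4 * swap 3 4)

theorem cent_mem_za : ∀ p : Perm (Fin 6), p * za = za * p → p ∈ cent_za := by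
  decide +kernel

theorem inv_mem_za : ∀ p : Perm (Fin 6), p * p = 1 → p * za * p = za⁻¹ → p ∈ inv_za := by
  decide +kernel

theorem normal_za : ∀ W ∈ cent_za, W * W * W = 1 → W ≠ 1 → ∀ I ∈ inv_za, I * W = W * I →
    ∀ J ∈ cent_za, J * J = 1 → J * W * J = W⁻¹ → J * I = I * J →
    ∃ c ∈ cent_za, c * I * c⁻¹ = i_za ∧ c * J * c⁻¹ = j_za ∧
      (c * W * c⁻¹ = w_za ∨ c * W * c⁻¹ = w_za⁻¹) ∧ c * za = za * c := by
  decide +kernel

theorem centr_za : ∀ Y : Perm (Fin 6), Y * i_za = i_za * Y → Y * j_za = j_za * Y →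
    Y = 1 ∨ Y = i_za ∨ Y = j_za ∨ Y = i_za * j_za ∨ Y = x_za ∨ Y = x_za * i_za ∨
      Y = x_za * j_za ∨ Y = x_za * (i_za * j_za) := by
  decide +kernel

theorem not_fused_za : ∀ P : Perm (Fin 6), P * i_za * P⁻¹ ≠ x_za * j_za := by
  decide +kernel

theorem frame_za {W I J : Perm (Fin 6)} (hW3 : W * W * W = 1) (hW1 : W ≠ 1)
    (hWZ : W * za = za * W) (hI2 : I * I = 1) (hIZ : I * za * I = za⁻¹) (hIW : I * W = W * I)
    (hJ2 : J * J = 1) (hJZ : J * za = za * J) (hJW : J * W * J = W⁻¹) (hJI : J * I = I * J) :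
    Frame za W I J := by
  obtain ⟨c, _, hcI, hcJ, hcW, hcz⟩ := normal_za W (cent_mem_za W hWZ) hW3 hW1 I
    (inv_mem_za I hI2 hIZ) hIW J (cent_mem_za J hJZ) hJ2 hJW hJI
  have hZ : c * za * c⁻¹ = za := by rw [hcz, mul_inv_cancel_right]
  have h0 : Frame (c * za * c⁻¹) (c * W * c⁻¹) (c * I * c⁻¹) (c * J * c⁻¹) := by
    rw [hZ, hcI, hcJ]
    refine ⟨x_za, by decide, by decide, by decide, by decide, by decide, by decide, centr_za,
      ⟨p_za, by decide, by decide⟩, ⟨q_za, by decide, by decide⟩, ?_,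
      fun ⟨P, hP⟩ => not_fused_za P hP⟩
    rcases hcW with h | h <;> rw [h]
    · exact ⟨u_za, by decide⟩
    · exact ⟨v_za, by decide⟩
  have h1 := h0.map (MulAut.conj c⁻¹)
  simpa [MulAut.conj_apply, mul_assoc] using h1

end CfsgLib.SymEightThreeLocal.ExclSix
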