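import Mathlib

/-!
The configuration in `S₆` excluded in the case leading to `(A₅ × A₅).4`: definition.
-/

set_option autoImplicit false
set_option maxRecDepth 100000
set_option synthInstance.maxSize 4000
set_option synthInstance.maxHeartbeats 200000

namespace CfsgLib.SymEightThreeLocal.ExclSix

open Equiv

/-- A three-cycle. -/
def za : Perm (Fin 6) := swap 0 1 * swap 1 2
/-- A product of two three-cycles. -/
def zb : Perm (Fin 6) := swap 0 1 * swap 1 2 * (swap 3 4 * swap 4 5)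

/-- `I` is fused with `X * J`. -/
def Fused (I J X : Perm (Fin 6)) : Prop := ∃ P : Perm (Fin 6), P * I * P⁻¹ = X * J

/-- The centraliser of `I` and `J` is generated by `I`, `J`, `X`. -/
def Centr (I J X : Perm (Fin 6)) : Prop :=
  ∀ Y : Perm (Fin 6), Y * I = I * Y → Y * J = J * Y →
    Y = 1 ∨ Y = I ∨ Y = J ∨ Y = I * J ∨ Y = X ∨ Y = X * I ∨ Y = X * J ∨ Y = X * (I * J)

/-- Some element fixing `J` maps `I` to `X`. -/
def Moves (I J X : Perm (Fin 6)) : Prop :=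
  ∃ P : Perm (Fin 6), P * I * P⁻¹ = X ∧ P * J * P⁻¹ = J

/-- `C` commutes with a conjugate of `V`. -/
def Near (V C : Perm (Fin 6)) : Prop :=
  ∃ P : Perm (Fin 6), C * (P * V * P⁻¹) = P * V * P⁻¹ * C

/-- What is needed from the images of `z`, `w`, `i`, `j`. -/
def Frame (Z W I J : Perm (Fin 6)) : Prop :=
  ∃ X : Perm (Fin 6), X * I = I * X ∧ X * J = J * X ∧ X ≠ 1 ∧ X ≠ I ∧ X ≠ J ∧ X ≠ I * J ∧
    Centr I J X ∧ Moves I J X ∧ Moves J I X ∧ Near (Z * W) (I * J * X) ∧ ¬ Fused I J X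

theorem Frame.map {Z W I J : Perm (Fin 6)} (h : Frame Z W I J)
    (φ : Perm (Fin 6) ≃* Perm (Fin 6)) : Frame (φ Z) (φ W) (φ I) (φ J) := by
  obtain ⟨X, h1, h2, h3, h4, h5, h6, hc, ⟨P, hP, hP'⟩, ⟨Q, hQ, hQ'⟩, ⟨U, hU⟩, hf⟩ := h
  refine ⟨φ X, ?_, ?_, ?_, ?_, ?_, ?_, ?_, ⟨φ P, ?_, ?_⟩, ⟨φ Q, ?_, ?_⟩, ⟨φ U, ?_⟩, ?_⟩
  · rw [← map_mul, h1, map_mul]
  · rw [← map_mul, h2, map_mul]
  · simpa using h3
  · simpa using h4
  · simpa using h5
  · rw [← map_mul]; exact fun e => h6 (φ.injective e)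
  · intro Y hI hJ
    obtain ⟨Y, rfl⟩ := φ.surjective Y
    rw [← map_mul, ← map_mul] at hI hJ
    rcases hc Y (φ.injective hI) (φ.injective hJ) with e | e | e | e | e | e | e | e <;> simp [e]
  · rw [← map_mul, ← map_inv, ← map_mul, hP]
  · rw [← map_mul, ← map_inv, ← map_mul, hP']
  · rw [← map_mul, ← map_inv, ← map_mul, hQ]
  · rw [← map_mul, ← map_inv, ← map_mul, hQ']
  · simp only [← map_mul, ← map_inv, hU]
  · rintro ⟨R, hR⟩
    obtain ⟨R, rfl⟩ := φ.surjective R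
    rw [← map_mul, ← map_inv, ← map_mul, ← map_mul] at hR
    exact hf ⟨R, φ.injective hR⟩

end CfsgLib.SymEightThreeLocal.ExclSix
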