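import Mathlib
import Cfsg.Agent.S3331
import Cfsg.Agent.Lib.Involutions.Basic
import Cfsg.Agent.Lib.ClassicalLinear.Card

/-!
A finite group which has a copy of `A₅ × A₅` with odd index, Sylow 3-centralisers as in the
direct product and no fusion between mixed and unmixed involutions is equal to that copy.
-/

set_option autoImplicit false

namespace CfsgLib.SymEightThreeLocal.PairAlt

open Equiv Subgroup
open scoped commutatorElement

/-- The alternating group of degree five. -/
abbrev A5 : Type := alternatingGroup (Fin 5)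

/-- An involution. -/
def av : A5 := ⟨swap 0 1 * swap 3 4, Equiv.Perm.mem_alternatingGroup.2 (by decide)⟩
/-- An involution commuting with `av`. -/
def av' : A5 := ⟨swap 0 3 * swap 1 4, Equiv.Perm.mem_alternatingGroup.2 (by decide)⟩
/-- An element of order three. -/
def ac : A5 := ⟨swap 0 1 * swap 1 2, Equiv.Perm.mem_alternatingGroup.2 (by decide)⟩
/-- The four-group containing `av`. -/
def aV : Subgroup A5 := centralizer {av}

theorem mem_aV {p : A5} : p ∈ aV ↔ p * av = av * p := mem_centralizer_singleton_iff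

theorem av_mem : av ∈ aV := mem_aV.2 rfl

theorem aV_sq : ∀ p : A5, p * av = av * p → p * p = 1 := by decide +kernel

theorem sq_of_mem {p : A5} (hp : p ∈ aV) : p * p = 1 := aV_sq p (mem_aV.1 hp)

theorem inv_eq_of_mem {p : A5} (hp : p ∈ aV) : p⁻¹ = p := inv_eq_of_mul_eq_one_left (sq_of_mem hp)

theorem comm_of_mem {p q : A5} (hp : p ∈ aV) (hq : q ∈ aV) : p * q = q * p := by
  have := inv_eq_of_mem (mul_mem hp hq)
  rw [mul_inv_rev, inv_eq_of_mem hp, inv_eq_of_mem hq] at this
  exact this.symm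

theorem av_ne : av ≠ 1 := by decide
theorem av'_ne : av' ≠ 1 := by decide
theorem av'_mem : av' ∈ aV := mem_aV.2 (by decide)
theorem av_mul_av'_ne : av * av' ≠ 1 := by decide
theorem ac_cube : ac ^ 3 = 1 := by decide
theorem ac_ne : ac ≠ 1 := by decide

theorem orderOf_ac : orderOf ac = 3 :=
  haveI : Fact (Nat.Prime 3) := ⟨Nat.prime_three⟩
  orderOf_eq_prime ac_cube ac_ne

theorem invol_conj : ∀ p : A5, p * p = 1 → p = 1 ∨ ∃ g : A5, g * av * g⁻¹ = p := by
  decide +kernel

theorem two_others : ∀ a b : A5, a * av = av * a → b * av = av * b → a ≠ 1 → a ≠ av → b ≠ 1 →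
    b ≠ av → b = a ∨ b = a * av := by
  decide +kernel

theorem card_A5 : Nat.card A5 = 60 := by
  rw [nat_card_alternatingGroup, Nat.card_eq_fintype_card, Fintype.card_fin]
  rfl

theorem card_aV : Nat.card aV ≤ 4 := by
  have h : Nat.card {p : A5 // p * av = av * p} = 4 := by
    rw [Nat.card_eq_fintype_card]
    decide +kernel
  rw [← h]
  exact Nat.card_le_card_of_injective (fun p : aV => ⟨(p : A5), mem_aV.1 p.2⟩)
    fun a b hab => Subtype.ext (Subtype.mk.injEq _ _ _ _ ▸ hab)

theorem ker_eq_top_of_not_injective {Q : Type*} [Group Q] (h : A5 →* Q)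
    (hn : ¬ Function.Injective h) : ∀ p, h p = 1 := by
  intro p
  rcases (inferInstance : h.ker.Normal).eq_bot_or_eq_top with e | e
  · exact absurd ((MonoidHom.ker_eq_bot_iff h).1 e) hn
  · exact MonoidHom.mem_ker.1 (e ▸ mem_top p)

theorem hom_comm {Q : Type*} [Group Q] (hQ : ∀ a b : Q, a * b = b * a) (h : A5 →* Q) :
    ∀ p, h p = 1 :=
  ker_eq_top_of_not_injective h fun hi =>
    (by decide : ac * av ≠ av * ac) (hi (by rw [map_mul, map_mul, hQ]))

theorem closure_invol : closure {p : A5 | p * p = 1} = ⊤ := by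
  have hn : (closure {p : A5 | p * p = 1}).Normal := by
    refine ⟨fun n hn g => ?_⟩
    induction hn using closure_induction with
    | mem x hx => exact subset_closure (show g * x * g⁻¹ * (g * x * g⁻¹) = 1 by
        rw [show g * x * g⁻¹ * (g * x * g⁻¹) = g * (x * x) * g⁻¹ by group,
          show x * x = 1 from hx]; group)
    | one => simp
    | mul x y _ _ hx hy =>
        rw [show g * (x * y) * g⁻¹ = g * x * g⁻¹ * (g * y * g⁻¹) by group]
        exact mul_mem hx hy
    | inv x _ hx =>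
        rw [show g * x⁻¹ * g⁻¹ = (g * x * g⁻¹)⁻¹ by group]
        exact inv_mem hx
  rcases hn.eq_bot_or_eq_top with e | e
  · exact absurd (mem_bot.1 (e ▸ subset_closure (show av ∈ {p : A5 | p * p = 1} from
      sq_of_mem av_mem))) av_ne
  · exact e

variable {K : Type*} [Group K]

/-- The image of the product of the two four-groups. -/
def Emap (f : A5 × A5 →* K) : Subgroup K := (aV.prod aV).map f

/-- The image of the product of two groups of order three. -/
def Dmap (f : A5 × A5 →* K) : Subgroup K := ((zpowers ac).prod (zpowers ac)).map f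

/-- The hypotheses which are symmetrical in the two factors. -/
structure Hyp (f : A5 × A5 →* K) : Prop where
  inj : Function.Injective f
  hE : ¬ 2 ∣ (Emap f).index
  hc1 : ∀ k : K, Commute k (f (ac, 1)) → ∃ (m : ℕ) (q : A5), k = f (ac ^ m, q)
  hc2 : ∀ k : K, Commute k (f (1, ac)) → ∃ (q : A5) (m : ℕ), k = f (q, ac ^ m)
  mix1 : ¬ IsConj (f (av, 1)) (f (av, av))
  mix2 : ¬ IsConj (f (1, av)) (f (av, av))

/-- The two factors interchanged. -/
def flipHom (f : A5 × A5 →* K) : A5 × A5 →* K :=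
  f.comp ((MonoidHom.snd A5 A5).prod (MonoidHom.fst A5 A5))

theorem flipHom_apply (f : A5 × A5 →* K) (a b : A5) : flipHom f (a, b) = f (b, a) := rfl

variable {f : A5 × A5 →* K}

theorem mem_Emap {e : K} : e ∈ Emap f ↔ ∃ a b, a ∈ aV ∧ b ∈ aV ∧ f (a, b) = e := by
  constructor
  · rintro ⟨⟨a, b⟩, hab, rfl⟩
    exact ⟨a, b, (mem_prod.1 hab).1, (mem_prod.1 hab).2, rfl⟩
  · rintro ⟨a, b, ha, hb, rfl⟩
    exact ⟨(a, b), mem_prod.2 ⟨ha, hb⟩, rfl⟩

theorem Emap_sq {e : K} (he : e ∈ Emap f) : e * e = 1 := by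
  obtain ⟨a, b, ha, hb, rfl⟩ := mem_Emap.1 he
  rw [← map_mul, Prod.mk_mul_mk, sq_of_mem ha, sq_of_mem hb]
  exact map_one f

theorem Emap_comm {x y : K} (hx : x ∈ Emap f) (hy : y ∈ Emap f) : x * y = y * x := by
  obtain ⟨a, b, ha, hb, rfl⟩ := mem_Emap.1 hx
  obtain ⟨a', b', ha', hb', rfl⟩ := mem_Emap.1 hy
  rw [← map_mul, ← map_mul, Prod.mk_mul_mk, Prod.mk_mul_mk, comm_of_mem ha ha', comm_of_mem hb hb']

theorem isPGroup_Emap : IsPGroup 2 (Emap f) := by
  intro g
  refine ⟨1, Subtype.ext ?_⟩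
  rw [pow_one, pow_two]
  exact Emap_sq g.2

namespace Hyp

theorem flip (h : Hyp f) : Hyp (flipHom f) := by
  refine ⟨fun x y hxy => ?_, ?_, fun k hk => ?_, fun k hk => ?_, h.mix2, h.mix1⟩
  · exact Prod.ext (congrArg Prod.snd (h.inj hxy) : _) (congrArg Prod.fst (h.inj hxy) : _)
  · have : Emap (flipHom f) = Emap f := by
      ext e
      rw [mem_Emap, mem_Emap]
      exact ⟨fun ⟨a, b, ha, hb, he⟩ => ⟨b, a, hb, ha, he⟩,
        fun ⟨a, b, ha, hb, he⟩ => ⟨b, a, hb, ha, he⟩⟩
    rw [this]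
    exact h.hE
  · obtain ⟨q, m, e⟩ := h.hc2 k hk
    exact ⟨m, q, e⟩
  · obtain ⟨m, q, e⟩ := h.hc1 k hk
    exact ⟨q, m, e⟩

variable [Finite K]

/-- A 2-element normalising `Emap f` lies in it. -/
theorem mem_of_pow (h : Hyp f) {m : K} (hn : ∀ e ∈ Emap f, m * e * m⁻¹ ∈ Emap f) {k : ℕ}
    (hk : m ^ 2 ^ k ∈ Emap f) : m ∈ Emap f := by
  haveI : Fact (Nat.Prime 2) := ⟨Nat.prime_two⟩
  have hm : m ^ 2 ^ (k + 1) = 1 := by
    rw [pow_succ, pow_mul, pow_two]
    exact Emap_sq hk
  have hQ : IsPGroup 2 (zpowers m) := by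
    rintro ⟨g, hg⟩
    obtain ⟨i, rfl⟩ := mem_zpowers_iff.1 hg
    refine ⟨k + 1, Subtype.ext ?_⟩
    rw [SubgroupClass.coe_pow, OneMemClass.coe_one, ← zpow_natCast, ← zpow_mul, mul_comm,
      zpow_mul, zpow_natCast, hm, one_zpow]
  have hle : zpowers m ≤ normalizer (Emap f : Set K) := by
    rw [zpowers_le, mem_normalizer_iff]
    have hinj : Function.Injective (fun e : Emap f => (⟨m * e * m⁻¹, hn e e.2⟩ : Emap f)) := by
      intro a b hab
      have := congrArg Subtype.val hab
      exact Subtype.ext (mul_left_cancel (mul_right_cancel this))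
    intro x
    refine ⟨hn x, fun hx => ?_⟩
    obtain ⟨e, he⟩ := (Finite.injective_iff_surjective.1 hinj) ⟨m * x * m⁻¹, hx⟩
    have : (e : K) = x := mul_left_cancel (mul_right_cancel (congrArg Subtype.val he))
    exact this ▸ e.2
  have := (isPGroup_Emap.toSylow h.hE).is_maximal' (hQ.to_sup_of_normal_right' isPGroup_Emap hle)
    le_sup_right
  have e : zpowers m ⊔ Emap f = Emap f := this
  exact e ▸ mem_sup_left (mem_zpowers m)

theorem double (h : Hyp f) {a b : A5} (ha : a ∈ aV) (hb : b ∈ aV) (ha1 : a ≠ 1) (hb1 : b ≠ 1) :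
    IsConj (f (av, av)) (f (a, b)) := by
  obtain ⟨g, hg⟩ := (invol_conj a (sq_of_mem ha)).resolve_left ha1
  obtain ⟨g', hg'⟩ := (invol_conj b (sq_of_mem hb)).resolve_left hb1
  refine isConj_iff.2 ⟨f (g, g'), ?_⟩
  rw [← map_inv, ← map_mul, ← map_mul, Prod.inv_mk, Prod.mk_mul_mk, Prod.mk_mul_mk, hg, hg']

theorem single_left (h : Hyp f) {a : A5} (ha : a ∈ aV) (ha1 : a ≠ 1) :
    IsConj (f (av, 1)) (f (a, 1)) := by
  obtain ⟨g, hg⟩ := (invol_conj a (sq_of_mem ha)).resolve_left ha1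
  refine isConj_iff.2 ⟨f (g, 1), ?_⟩
  rw [← map_inv, ← map_mul, ← map_mul, Prod.inv_mk, Prod.mk_mul_mk, Prod.mk_mul_mk, hg]
  simp

theorem single_right (h : Hyp f) {a : A5} (ha : a ∈ aV) (ha1 : a ≠ 1) :
    IsConj (f (1, av)) (f (1, a)) := by
  have := h.flip.single_left ha ha1
  exact this

/-- The image of an unmixed element under fusion is unmixed. -/
theorem not_double (h : Hyp f) {m : K} {a b a' b' : A5} (ha : a ∈ aV) (hb : b ∈ aV)
    (ha' : a' ∈ aV) (hb' : b' ∈ aV) (hsing : a = 1 ∨ b = 1)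
    (e : m * f (a, b) * m⁻¹ = f (a', b')) : a' = 1 ∨ b' = 1 := by
  by_contra hc
  rw [not_or] at hc
  have hd : IsConj (f (a, b)) (f (a', b')) := isConj_iff.2 ⟨m, e⟩
  have h2 : IsConj (f (a, b)) (f (av, av)) := hd.trans (h.double ha' hb' hc.1 hc.2).symm
  rcases hsing with rfl | rfl
  · by_cases hb1 : b = 1
    · subst hb1
      rw [show ((1 : A5), (1 : A5)) = 1 from rfl, map_one] at e
      have : (a', b') = 1 := h.inj (by rw [map_one, ← e]; group)
      exact hc.1 (congrArg Prod.fst this)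
    · exact h.mix2 ((h.single_right hb hb1).trans h2)
  · by_cases ha1 : a = 1
    · subst ha1
      rw [show ((1 : A5), (1 : A5)) = 1 from rfl, map_one] at e
      have : (a', b') = 1 := h.inj (by rw [map_one, ← e]; group)
      exact hc.1 (congrArg Prod.fst this)
    · exact h.mix1 ((h.single_left ha ha1).trans h2)

/-- An element normalising the four-groups and centralising `f (av, 1)` fixes the first
coordinate. -/
theorem norm_cent (h : Hyp f) {m : K} (hn : ∀ e ∈ Emap f, m * e * m⁻¹ ∈ Emap f)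
    (hm : m * f (av, 1) * m⁻¹ = f (av, 1)) {a b : A5} (ha : a ∈ aV) (hb : b ∈ aV) :
    ∃ b' ∈ aV, m * f (a, b) * m⁻¹ = f (a, b') := by
  have hmul : ∀ x y : K, m * (x * y) * m⁻¹ = m * x * m⁻¹ * (m * y * m⁻¹) := fun x y => by group
  have hR : ∀ b : A5, b ∈ aV → ∃ b' ∈ aV, m * f (1, b) * m⁻¹ = f (1, b') := by
    intro b hb
    obtain ⟨a', b', ha', hb', e⟩ := mem_Emap.1 (hn _ (mem_Emap.2 ⟨1, b, one_mem _, hb, rfl⟩))
    refine ⟨b', hb', ?_⟩
    by_cases hb1 : b = 1
    · subst hb1
      rw [show ((1 : A5), (1 : A5)) = 1 from rfl, map_one, mul_one, mul_inv_cancel] at e ⊢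
      have : (a', b') = 1 := h.inj (by rw [map_one, e])
      rw [show b' = 1 from congrArg Prod.snd this]
      exact (map_one f).symm
    · rcases h.not_double (one_mem _) hb ha' hb' (Or.inl rfl) e.symm with rfl | rfl
      · exact e.symm
      · exfalso
        have e2 : m * f (av, b) * m⁻¹ = f (av * a', 1) := by
          rw [show ((av : A5), b) = (av, 1) * (1, b) by simp, map_mul, hmul, hm, ← e, ← map_mul]
          simp
        have e3 : m⁻¹ * f (av * a', 1) * m⁻¹⁻¹ = f (av, b) := by rw [← e2]; group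
        rcases h.not_double (mul_mem av_mem ha') (one_mem _) av_mem hb (Or.inr rfl) e3 with hh | hh
        · exact av_ne hh
        · exact hb1 hh
  have hL : ∀ a : A5, a ∈ aV → ∃ a' ∈ aV, m * f (a, 1) * m⁻¹ = f (a', 1) := by
    intro a ha
    obtain ⟨a', b', ha', hb', e⟩ := mem_Emap.1 (hn _ (mem_Emap.2 ⟨a, 1, ha, one_mem _, rfl⟩))
    refine ⟨a', ha', ?_⟩
    rcases h.not_double ha (one_mem _) ha' hb' (Or.inr rfl) e.symm with rfl | rfl
    · by_cases hb1 : b' = 1
      · subst hb1; exact e.symm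
      · exfalso
        have e2 : m * f (a * av, 1) * m⁻¹ = f (av, b') := by
          rw [show ((a * av : A5), (1 : A5)) = (a, 1) * (av, 1) by simp, map_mul, hmul, hm, ← e,
            ← map_mul]
          simp
        rcases h.not_double (mul_mem ha av_mem) (one_mem _) av_mem hb' (Or.inr rfl) e2 with hh | hh
        · exact av_ne hh
        · exact hb1 hh
    · exact e.symm
  have hfix : ∀ a : A5, a ∈ aV → m * f (a, 1) * m⁻¹ = f (a, 1) := by
    intro a ha
    obtain ⟨a', ha', e⟩ := hL a ha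
    by_cases h1 : a = 1
    · subst h1
      rw [show ((1 : A5), (1 : A5)) = 1 from rfl, map_one, mul_one, mul_inv_cancel]
    by_cases h2 : a = av
    · subst h2; exact hm
    have ne1 : a' ≠ 1 := by
      rintro rfl
      rw [show ((1 : A5), (1 : A5)) = 1 from rfl, map_one] at e
      have : f (a, 1) = 1 := by
        have h3 : f (a, 1) = m⁻¹ * (m * f (a, 1) * m⁻¹) * m := by group
        rw [h3, e]; group
      exact h1 (congrArg Prod.fst (h.inj (this.trans (map_one f).symm)))
    have ne2 : a' ≠ av := by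
      rintro rfl
      have h3 := mul_left_cancel (mul_right_cancel (e.trans hm.symm))
      exact h2 (congrArg Prod.fst (h.inj h3))
    rcases two_others a a' (mem_aV.1 ha) (mem_aV.1 ha') h1 h2 ne1 ne2 with rfl | rfl
    · exact e
    have e' : m * f (a * av, 1) * m⁻¹ = f (a, 1) := by
      rw [show ((a * av : A5), (1 : A5)) = (a, 1) * (av, 1) by simp, map_mul, hmul, e, hm,
        ← map_mul, Prod.mk_mul_mk, one_mul, mul_assoc, sq_of_mem av_mem, mul_one]
    have hsq : Commute (m ^ 2) (f (a, 1)) := by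
      show _ * _ = _ * _
      rw [pow_two, ← mul_inv_eq_iff_eq_mul]
      rw [show m * m * f (a, 1) * (m * m)⁻¹ = m * (m * f (a, 1) * m⁻¹) * m⁻¹ by group, e, e']
    obtain ⟨k, l, hl, hkl⟩ := Nat.exists_eq_pow_mul_and_not_dvd (orderOf_pos m).ne' 2 (by norm_num)
    have hml : m ^ l ∈ Emap f := by
      refine h.mem_of_pow (k := k) (fun x hx => ?_) ?_
      · clear hkl hl
        induction l with
        | zero => simpa using hx
        | succ l ih =>
            rw [show m ^ (l + 1) * x * (m ^ (l + 1))⁻¹ = m * (m ^ l * x * (m ^ l)⁻¹) * m⁻¹ by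
              rw [pow_succ']; group]
            exact hn _ ih
      · rw [← pow_mul, mul_comm, ← hkl, pow_orderOf_eq_one]
        exact one_mem _
    obtain ⟨i, rfl⟩ : ∃ i, l = 2 * i + 1 := ⟨l / 2, by omega⟩
    have hc : Commute (m ^ (2 * i + 1)) (f (a, 1)) :=
      Emap_comm hml (mem_Emap.2 ⟨a, 1, ha, one_mem _, rfl⟩)
    have hm1 : m = ((m ^ 2) ^ i)⁻¹ * m ^ (2 * i + 1) := by rw [← pow_mul, pow_succ]; group
    have : Commute m (f (a, 1)) := by
      rw [hm1]
      exact ((hsq.pow_left i).inv_left).mul_left hc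
    rw [this.eq]
    group
  obtain ⟨b', hb', e⟩ := hR b hb
  refine ⟨b', hb', ?_⟩
  rw [show ((a : A5), b) = (a, 1) * (1, b) by simp, map_mul, hmul, hfix a ha, e, ← map_mul]
  simp

/-- The centraliser of an unmixed involution of the first factor. -/
theorem cent_left (h : Hyp f) {k : K} (hk : Commute k (f (av, 1))) : k ∈ f.range := by
  haveI : Fact (Nat.Prime 2) := ⟨Nat.prime_two⟩
  set C : Subgroup K := centralizer {f (av, 1)} with hCdef
  have hmem : ∀ x : K, x ∈ C ↔ x * f (av, 1) = f (av, 1) * x :=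
    fun x => mem_centralizer_singleton_iff
  have hEC : Emap f ≤ C := fun x hx =>
    (hmem x).2 (Emap_comm hx (mem_Emap.2 ⟨av, 1, av_mem, one_mem _, rfl⟩))
  have hi : ¬ 2 ∣ ((Emap f).subgroupOf C).index := fun hd =>
    h.hE (hd.trans (relIndex_dvd_index_of_le hEC))
  have hp : IsPGroup 2 ((Emap f).subgroupOf C) := by
    intro g
    refine ⟨1, Subtype.ext (Subtype.ext ?_)⟩
    rw [pow_one, pow_two]
    exact Emap_sq (mem_subgroupOf.1 g.2)
  set P : Sylow 2 C := hp.toSylow hi with hPdef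
  have hP : ∀ x : C, x ∈ (P : Subgroup C) ↔ (x : K) ∈ Emap f := fun x => Iff.rfl
  haveI : IsMulCommutative (P : Subgroup C) :=
    IsMulCommutative.of_comm fun a b =>
      Subtype.ext (Subtype.ext (Emap_comm ((hP _).1 a.2) ((hP _).1 b.2)))
  let W : Subgroup C := (((⊥ : Subgroup A5).prod aV).map f).comap C.subtype
  have hfoc : (P : Subgroup C).focalSubgroup ≤ W := by
    rw [focalSubgroup_def, closure_le]
    rintro g ⟨hg, x, hx, u, rfl⟩
    have hu : u⁻¹⁻¹ * x⁻¹ * u⁻¹ ∈ (P : Subgroup C) := by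
      have : x⁻¹ * ⁅x, u⁆ ∈ (P : Subgroup C) := mul_mem (inv_mem hx) hg
      simpa [commutatorElement_def, mul_assoc] using this
    obtain ⟨n, hn, e⟩ := P.conj_eq_normalizer_conj_of_mem x⁻¹ u⁻¹ (inv_mem hx) hu
    have hnn : ∀ y ∈ Emap f, (n : K)⁻¹ * y * (n : K)⁻¹⁻¹ ∈ Emap f := by
      intro y hy
      have hy' : (⟨y, hEC hy⟩ : C) ∈ (P : Subgroup C) := hy
      have := ((mem_normalizer_iff.1 hn) (n⁻¹ * ⟨y, hEC hy⟩ * n)).2 (by
        simpa [mul_assoc] using hy')
      simpa using (hP _).1 this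
    have hnc : (n : K)⁻¹ * f (av, 1) * (n : K)⁻¹⁻¹ = f (av, 1) := by
      rw [inv_inv, mul_assoc, ← (hmem _).1 n.2, ← mul_assoc, inv_mul_cancel, one_mul]
    obtain ⟨a, b, ha, hb, hxe⟩ := mem_Emap.1 ((hP _).1 (inv_mem hx))
    obtain ⟨b', hb', e'⟩ := h.norm_cent hnn hnc ha hb
    refine mem_comap.2 ⟨(1, b⁻¹ * b'), mem_prod.2 ⟨mem_bot.2 rfl, mul_mem (inv_mem hb) hb'⟩, ?_⟩
    have e1 : ⁅x, u⁆ = x * (n⁻¹ * x⁻¹ * n) := by
      rw [← e, commutatorElement_def, inv_inv]; group
    rw [e1]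
    simp only [coe_subtype, coe_mul, coe_inv]
    have hxe' : f (a, b) = (x : K)⁻¹ := by simpa using hxe
    have : (x : K) = (f (a, b))⁻¹ := by rw [hxe', inv_inv]
    rw [this, inv_inv]
    rw [inv_inv] at e'
    rw [e', ← map_inv, ← map_mul, Prod.inv_mk, Prod.mk_mul_mk, inv_mul_cancel]
  haveI : Fact (Nat.Prime 3) := ⟨Nat.prime_three⟩
  set M0 : Subgroup C := (P : Subgroup C).transferFocal.ker with hM0
  have hM0P : ∀ y : C, y ∈ M0 → (y : K) ∈ Emap f → ∃ b ∈ aV, (y : K) = f (1, b) := by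
    intro y hy hyE
    have : y ∈ (P : Subgroup C).focalSubgroup := by
      rw [← Subgroup.ker_transferFocal_inf_eq_focalSubgroup]
      exact ⟨hy, hyE⟩
    obtain ⟨⟨a, b⟩, hab, e⟩ := mem_comap.1 (hfoc this)
    obtain ⟨ha, hb⟩ := mem_prod.1 hab
    rw [mem_bot] at ha
    exact ⟨b, hb, by rw [← show a = 1 from ha]; exact e.symm⟩
  let j : A5 →* C := (f.comp (MonoidHom.inr A5 A5)).codRestrict C fun p => (hmem _).2 (by
    show f (1, p) * _ = _ * f (1, p)
    rw [← map_mul, ← map_mul]; simp)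
  have hj : ∀ p, (j p : K) = f (1, p) := fun p => rfl
  have hjM : ∀ p, j p ∈ M0 := fun p => MonoidHom.mem_ker.2
    (hom_comm (fun a b => IsMulCommutative.is_comm.comm a b)
      ((P : Subgroup C).transferFocal.comp j) p)
  let jM : A5 →* M0 := j.codRestrict M0 hjM
  have jM_inj : Function.Injective jM := fun a b hab => by
    have : f (1, a) = f (1, b) := congrArg (fun y : M0 => ((y : C) : K)) hab
    exact congrArg Prod.snd (h.inj this)
  have h8 : ¬ 8 ∣ Nat.card M0 := by
    intro hd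
    obtain ⟨Q, hQ⟩ := Sylow.exists_subgroup_card_pow_prime 2 (n := 3) (G := M0) (by simpa using hd)
    have hQp : IsPGroup 2 (Q.map M0.subtype) := (IsPGroup.of_card hQ).map _
    obtain ⟨P', hP'⟩ := hQp.exists_le_sylow
    obtain ⟨g, hg⟩ := MulAction.exists_smul_eq C P' P
    have hin : ∀ y : Q, (g : C) * ((y : M0) : C) * g⁻¹ ∈ (P : Subgroup C) := fun y => by
      rw [← hg]
      exact smul_mem_pointwise_smul _ (MulAut.conj g) (P' : Subgroup C)
        (hP' (mem_map_of_mem _ y.2))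
    choose b hb hbe using fun y : Q =>
      hM0P _ ((inferInstance : M0.Normal).conj_mem _ (y : M0).2 g) ((hP _).1 (hin y))
    have hinj : Function.Injective (fun y : Q => (⟨b y, hb y⟩ : aV)) := by
      intro y y' hyy
      have hb' : b y = b y' := congrArg Subtype.val hyy
      have e : g * ((y : M0) : C) * g⁻¹ = g * ((y' : M0) : C) * g⁻¹ :=
        Subtype.ext (by rw [hbe y, hbe y', hb'])
      exact Subtype.ext (Subtype.ext (mul_left_cancel (mul_right_cancel e)))
    have := Nat.card_le_card_of_injective _ hinj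
    rw [hQ] at this
    have := card_aV
    omega
  have hord : orderOf (jM ac) = 3 := by rw [orderOf_injective jM jM_inj, orderOf_ac]
  have hX : Nat.card (zpowers (jM ac)) = 3 := by rw [Nat.card_zpowers, hord]
  have hcX : centralizer (zpowers (jM ac) : Set M0) = zpowers (jM ac) := by
    refine le_antisymm (fun y hy => ?_) (le_centralizer _)
    have hy' : Commute ((y : C) : K) (f (1, ac)) :=
      ((congrArg (fun z : M0 => ((z : C) : K))
        (mem_centralizer_iff.1 hy _ (mem_zpowers _)))).symm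
    obtain ⟨q, m, e⟩ := h.hc2 _ hy'
    have hq : q ∈ aV := by
      have h1 := (hmem _).1 (y : C).2
      rw [e, ← map_mul, ← map_mul] at h1
      exact mem_aV.2 (congrArg Prod.fst (h.inj h1))
    have e2 : (((y : C) * (j (ac ^ m))⁻¹ : C) : K) = f (q, 1) := by
      rw [coe_mul, coe_inv, hj, e, ← map_inv, ← map_mul]
      simp
    obtain ⟨b, hb, e3⟩ := hM0P _ (mul_mem y.2 (inv_mem (hjM _)))
      (e2 ▸ mem_Emap.2 ⟨q, 1, hq, one_mem _, rfl⟩)
    have hq1 : q = 1 := congrArg Prod.fst (h.inj (e2.symm.trans e3))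
    have hy1 : y = jM ac ^ m := by
      refine Subtype.ext (Subtype.ext ?_)
      rw [e, hq1, ← map_pow]
      rfl
    rw [hy1]
    exact pow_mem (mem_zpowers _) m
  have hM0range : ∀ y : C, y ∈ M0 → (y : K) ∈ f.range := by
    rcases Cfsg.Agent.S3331.result (zpowers (jM ac)) hX hcX with
      ⟨N, hN, -, hcop, hq⟩ | ⟨N, hN, -, hsq, heq⟩ | heq
    · exfalso
      have hle : Nat.card (M0 ⧸ N) ≤ 6 := by
        rcases hq with hq | hq
        · omega
        · obtain ⟨eq⟩ := hq
          rw [Nat.card_congr eq.toEquiv, Nat.card_perm, Nat.card_eq_fintype_card, Fintype.card_fin]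
          rfl
      have htr := ker_eq_top_of_not_injective ((QuotientGroup.mk' N).comp jM) fun hi => by
        have := Nat.card_le_card_of_injective _ hi
        rw [card_A5] at this
        omega
      have hN3 : jM ac ∈ N := (QuotientGroup.eq_one_iff _).1 (htr ac)
      have h3 : 3 ∣ Nat.card N := by
        rw [← hord, ← Subgroup.orderOf_mk _ hN3]
        exact orderOf_dvd_natCard _
      exact Nat.prime_three.one_lt.ne' (Nat.dvd_one.1 (hcop ▸ Nat.dvd_gcd h3 dvd_rfl))
    · obtain ⟨eq⟩ := heq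
      have hc : Nat.card M0 = 60 * Nat.card N := by
        rw [N.card_eq_card_quotient_mul_card_subgroup, Nat.card_congr eq.toEquiv, card_A5]
      have hN1 : Nat.card N = 1 := by
        by_contra hne
        haveI : Nontrivial N := (Finite.one_lt_card_iff_nontrivial).1
          (by have := Nat.card_pos (α := N); omega)
        obtain ⟨n, hn⟩ := exists_ne (1 : N)
        have h2 : 2 ∣ Nat.card N := by
          rw [← orderOf_eq_prime (x := n) (p := 2) (Subtype.ext (hsq n n.2)) hn]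
          exact orderOf_dvd_natCard n
        exact h8 (hc ▸ Dvd.dvd.trans (by norm_num : 8 ∣ 60 * 2) (Nat.mul_dvd_mul_left 60 h2))
      have hbij : Function.Bijective jM :=
        (Nat.bijective_iff_injective_and_card jM).2 ⟨jM_inj, by rw [card_A5, hc, hN1]⟩
      intro y hy
      obtain ⟨p, hp⟩ := hbij.2 ⟨y, hy⟩
      exact ⟨(1, p), congrArg (fun z : M0 => ((z : C) : K)) hp⟩
    · exfalso
      obtain ⟨eq⟩ := heq
      haveI : Fact (Nat.Prime 7) := ⟨by norm_num⟩
      have h7 := CfsgLib.ClassicalLinear.card_PSL_two_of_odd (F := ZMod 7) (ZMod.card 7)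
        (by decide)
      rw [Nat.card_congr eq.toEquiv] at h8
      omega
  obtain ⟨y, hy⟩ := Subgroup.focalSubgroupOf.pow_index_surjective P
    ((P : Subgroup C).transferFocal ⟨k, (hmem k).2 hk⟩)
  obtain ⟨x, rfl⟩ := QuotientGroup.mk'_surjective _ y
  have hkx : (⟨k, (hmem k).2 hk⟩ : C) * (x : C)⁻¹ ∈ M0 := by
    rw [hM0, MonoidHom.mem_ker, map_mul, map_inv, Subgroup.transferFocal_eq_pow]
    simp only at hy
    rw [← hy]
    exact mul_inv_cancel _
  obtain ⟨p, hp⟩ := hM0range _ hkx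
  obtain ⟨a, b, -, -, hxe⟩ := mem_Emap.1 ((hP _).1 x.2)
  refine ⟨p * (a, b), ?_⟩
  rw [map_mul, hp, hxe]
  simp

theorem cent_right (h : Hyp f) {k : K} (hk : Commute k (f (1, av))) : k ∈ f.range := by
  obtain ⟨⟨a, b⟩, e⟩ := h.flip.cent_left hk
  exact ⟨(b, a), e⟩

theorem cent_single (h : Hyp f) {k : K} {a : A5} (ha : a ∈ aV) (ha1 : a ≠ 1)
    (hk : Commute k (f (a, 1))) : k ∈ f.range := by
  obtain ⟨c, hc⟩ := isConj_iff.1 (h.single_left ha ha1)
  have hg : ∃ g, f (g, 1) * f (av, 1) * (f (g, 1))⁻¹ = f (a, 1) := by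
    obtain ⟨g, hg⟩ := (invol_conj a (sq_of_mem ha)).resolve_left ha1
    exact ⟨g, by rw [← map_inv, ← map_mul, ← map_mul]; simp [hg]⟩
  obtain ⟨g, hg⟩ := hg
  have : (f (g, 1))⁻¹ * k * f (g, 1) ∈ f.range := by
    apply h.cent_left
    show _ * _ = _ * _
    have e : f (av, 1) = (f (g, 1))⁻¹ * f (a, 1) * f (g, 1) := by rw [← hg]; group
    rw [e, show (f (g, 1))⁻¹ * k * f (g, 1) * ((f (g, 1))⁻¹ * f (a, 1) * f (g, 1))
      = (f (g, 1))⁻¹ * (k * f (a, 1)) * f (g, 1) by group, hk.eq]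
    group
  have h2 := mul_mem (mul_mem (show f (g, 1) ∈ f.range from ⟨_, rfl⟩) this)
    (inv_mem (show f (g, 1) ∈ f.range from ⟨_, rfl⟩))
  simpa [mul_assoc] using h2

/-- The centraliser of a mixed involution. -/
theorem cent_double (h : Hyp f) {k : K} (hk : Commute k (f (av, av))) : k ∈ f.range := by
  haveI : Fact (Nat.Prime 2) := ⟨Nat.prime_two⟩
  set C : Subgroup K := centralizer {f (av, av)} with hCdef
  have hmem : ∀ x : K, x ∈ C ↔ x * f (av, av) = f (av, av) * x :=
    fun x => mem_centralizer_singleton_iff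
  have hEC : Emap f ≤ C := fun x hx =>
    (hmem x).2 (Emap_comm hx (mem_Emap.2 ⟨av, av, av_mem, av_mem, rfl⟩))
  have hi : ¬ 2 ∣ ((Emap f).subgroupOf C).index := fun hd =>
    h.hE (hd.trans (relIndex_dvd_index_of_le hEC))
  have hp : IsPGroup 2 ((Emap f).subgroupOf C) := by
    intro g
    refine ⟨1, Subtype.ext (Subtype.ext ?_)⟩
    rw [pow_one, pow_two]
    exact Emap_sq (mem_subgroupOf.1 g.2)
  set P : Sylow 2 C := hp.toSylow hi with hPdef
  have hP : ∀ x : C, x ∈ (P : Subgroup C) ↔ (x : K) ∈ Emap f := fun x => Iff.rfl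
  have hcentE : ∀ (d : K) (a : A5), a ∈ aV → a ≠ 1 → Commute d (f (a, 1)) →
      Commute d (f (av, av)) → d ∈ Emap f := by
    intro d a ha ha1 hd hd2
    obtain ⟨⟨p, q⟩, rfl⟩ := h.cent_single ha ha1 hd
    have h1 : f (p, q) * f (av, av) = f (av, av) * f (p, q) := hd2
    rw [← map_mul, ← map_mul] at h1
    exact mem_Emap.2 ⟨p, q, mem_aV.2 (congrArg Prod.fst (h.inj h1)),
      mem_aV.2 (congrArg Prod.snd (h.inj h1)), rfl⟩
  have hnorm : normalizer ((P : Subgroup C) : Set C) ≤ centralizer ((P : Subgroup C) : Set C) := by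
    intro n hn
    have hnn : ∀ y ∈ Emap f, (n : K) * y * (n : K)⁻¹ ∈ Emap f := fun y hy => by
      simpa using (hP _).1 (((mem_normalizer_iff.1 hn) ⟨y, hEC hy⟩).1 hy)
    have hnw : Commute (n : K) (f (av, av)) := (hmem _).1 n.2
    have hnE : (n : K) ∈ Emap f := by
      obtain ⟨a1, b1, ha1, hb1, e1⟩ :=
        mem_Emap.1 (hnn _ (mem_Emap.2 ⟨av, 1, av_mem, one_mem _, rfl⟩))
      have hs := h.not_double av_mem (one_mem _) ha1 hb1 (Or.inr rfl) e1.symm
      have e2 : (n : K) * f (1, av) * (n : K)⁻¹ = f (a1⁻¹ * av, b1⁻¹ * av) := by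
        have : f (1, av) = (f (av, 1))⁻¹ * f (av, av) := by
          rw [← map_inv, ← map_mul]; simp
        rw [this, show (n : K) * ((f (av, 1))⁻¹ * f (av, av)) * (n : K)⁻¹
          = ((n : K) * f (av, 1) * (n : K)⁻¹)⁻¹ * ((n : K) * f (av, av) * (n : K)⁻¹) by group,
          ← e1, hnw.eq, ← map_inv, show f (av, av) * (n : K) * (n : K)⁻¹ = f (av, av) by group,
          ← map_mul]
        simp
      have hs2 := h.not_double (one_mem _) av_mem (mul_mem (inv_mem ha1) av_mem)
        (mul_mem (inv_mem hb1) av_mem) (Or.inl rfl) e2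
      rcases hs with rfl | rfl
      · rcases hs2 with hh | hh
        · simp at hh; exact absurd hh av_ne
        · have hb : b1 = av := inv_mul_eq_one.1 hh
          subst hb
          -- the two unmixed involutions are interchanged
          have e3 : (n : K) * f (1, av) * (n : K)⁻¹ = f (av, 1) := by simpa using e2
          have hsq : Commute ((n : K) ^ 2) (f (av, 1)) := by
            show _ * _ = _ * _
            rw [pow_two, ← mul_inv_eq_iff_eq_mul]
            rw [show (n : K) * n * f (av, 1) * ((n : K) * n)⁻¹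
              = (n : K) * ((n : K) * f (av, 1) * (n : K)⁻¹) * (n : K)⁻¹ by group, ← e1, e3]
          refine h.mem_of_pow hnn (k := 1) ?_
          rw [pow_one]
          exact hcentE _ av av_mem av_ne hsq (hnw.pow_left 2)
      · have ha : a1 = av := by
          rcases hs2 with hh | hh
          · exact inv_mul_eq_one.1 hh
          · simp at hh; exact absurd hh av_ne
        subst ha
        refine hcentE _ av av_mem av_ne ?_ hnw
        show _ * _ = _ * _
        rw [← mul_inv_eq_iff_eq_mul, ← e1]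
    refine mem_centralizer_iff.2 fun y hy => Subtype.ext ?_
    exact Emap_comm ((hP y).1 hy) hnE
  have hcompl := MonoidHom.ker_transferSylow_isComplement' P hnorm
  set O : Subgroup C := (MonoidHom.transferSylow P hnorm).ker with hO
  have hOodd : ¬ 2 ∣ Nat.card O := MonoidHom.not_dvd_card_ker_transferSylow P hnorm
  have hinv : ∀ a : A5, a ∈ aV → a ≠ 1 → ∀ y : C, y ∈ O →
      f (a, 1) * (y : K) * (f (a, 1))⁻¹ = (y : K)⁻¹ := by
    intro a ha ha1
    let σ : C := ⟨f (a, 1), hEC (mem_Emap.2 ⟨a, 1, ha, one_mem _, rfl⟩)⟩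
    have hσ : σ⁻¹ = σ := inv_eq_of_mul_eq_one_left
      (Subtype.ext (Emap_sq (mem_Emap.2 ⟨a, 1, ha, one_mem _, rfl⟩)))
    have hNO : O.Normal := MonoidHom.normal_ker _
    let ι : O → O := fun o =>
      ⟨(o : C)⁻¹ * (σ * o * σ⁻¹), mul_mem (inv_mem o.2) (hNO.conj_mem _ o.2 σ)⟩
    have hι : Function.Injective ι := by
      intro o p hop
      have e : (o : C)⁻¹ * (σ * o * σ⁻¹) = (p : C)⁻¹ * (σ * p * σ⁻¹) := congrArg Subtype.val hop
      have hd : ((p : C) * (o : C)⁻¹) * σ = σ * ((p : C) * (o : C)⁻¹) := by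
        calc ((p : C) * (o : C)⁻¹) * σ
            = (p : C) * ((o : C)⁻¹ * (σ * o * σ⁻¹)) * σ * (o : C)⁻¹ := by group
          _ = (p : C) * ((p : C)⁻¹ * (σ * p * σ⁻¹)) * σ * (o : C)⁻¹ := by rw [e]
          _ = σ * ((p : C) * (o : C)⁻¹) := by group
      have hdE : (p : C) * (o : C)⁻¹ ∈ (P : Subgroup C) := (hP _).2
        (hcentE _ a ha ha1 (congrArg Subtype.val hd) ((hmem _).1 ((p : C) * (o : C)⁻¹).2))
      have h1 := Subgroup.disjoint_def.1 hcompl.disjoint (mul_mem p.2 (inv_mem o.2)) hdE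
      exact Subtype.ext (mul_inv_eq_one.1 h1).symm
    intro y hy
    obtain ⟨o, ho⟩ := Finite.injective_iff_surjective.1 hι ⟨y, hy⟩
    have e : (o : C)⁻¹ * (σ * o * σ⁻¹) = y := congrArg Subtype.val ho
    have : σ * y * σ⁻¹ = y⁻¹ := by
      rw [← e]
      simp only [mul_inv_rev, inv_inv, hσ]
      rw [show σ * ((o : C)⁻¹ * (σ * o * σ)) * σ = σ * (o : C)⁻¹ * σ * o * (σ * σ) by group]
      rw [show σ * σ = 1 from by rw [mul_eq_one_iff_eq_inv, hσ]]
      group
    exact congrArg Subtype.val this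
  have hObot : O = ⊥ := by
    rw [eq_bot_iff]
    intro y hy
    have h1 := hinv av av_mem av_ne y hy
    have h2 := hinv av' av'_mem av'_ne y hy
    have h3 := hinv (av * av') (mul_mem av_mem av'_mem) av_mul_av'_ne y hy
    have e : f (av * av', 1) = f (av, 1) * f (av', 1) := by rw [← map_mul]; simp
    rw [e] at h3
    have h4 : (y : K) = (y : K)⁻¹ := by
      rw [← h3, mul_inv_rev, show f (av, 1) * f (av', 1) * (y : K) * ((f (av', 1))⁻¹ * (f (av, 1))⁻¹)
        = f (av, 1) * (f (av', 1) * (y : K) * (f (av', 1))⁻¹) * (f (av, 1))⁻¹ by group, h2,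
        show f (av, 1) * (y : K)⁻¹ * (f (av, 1))⁻¹
        = (f (av, 1) * (y : K) * (f (av, 1))⁻¹)⁻¹ by group, h1, inv_inv]
    rw [mem_bot]
    by_contra hy1
    have hy2 : orderOf (⟨y, hy⟩ : O) = 2 := by
      refine orderOf_eq_prime ?_ fun he => hy1 (congrArg Subtype.val he)
      refine Subtype.ext (Subtype.ext ?_)
      rw [pow_two]
      show (y : K) * (y : K) = 1
      exact mul_eq_one_iff_eq_inv.2 h4
    exact hOodd (hy2 ▸ orderOf_dvd_natCard _)
  have htop : (P : Subgroup C) = ⊤ := by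
    have := hcompl.sup_eq_top
    rwa [hObot, bot_sup_eq] at this
  obtain ⟨a, b, -, -, e⟩ := mem_Emap.1 ((hP ⟨k, (hmem k).2 hk⟩).1 (htop ▸ mem_top _))
  exact ⟨(a, b), e⟩

/-- Involutions in the range have their centraliser in the range. -/
theorem cent_invol (h : Hyp f) {u k : K} (hu : u ∈ f.range) (hu2 : u * u = 1) (hu1 : u ≠ 1)
    (hk : Commute k u) : k ∈ f.range := by
  obtain ⟨⟨p, q⟩, rfl⟩ := hu
  have hpq : (p * p, q * q) = 1 := h.inj (by rw [map_one, ← hu2, ← map_mul]; rfl)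
  have key : ∀ g : A5 × A5, ∀ e, g * e * g⁻¹ = (p, q) →
      (∀ k', Commute k' (f e) → k' ∈ f.range) → k ∈ f.range := by
    intro g e hge hcl
    have : (f g)⁻¹ * k * f g ∈ f.range := by
      apply hcl
      show _ * _ = _ * _
      have e1 : f e = (f g)⁻¹ * f (p, q) * f g := by
        rw [← hge, map_mul, map_mul, map_inv]; group
      rw [e1, show (f g)⁻¹ * k * f g * ((f g)⁻¹ * f (p, q) * f g)
        = (f g)⁻¹ * (k * f (p, q)) * f g by group, hk.eq]
      group
    have h2 := mul_mem (mul_mem (show f g ∈ f.range from ⟨_, rfl⟩) this)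
      (inv_mem (show f g ∈ f.range from ⟨_, rfl⟩))
    simpa [mul_assoc] using h2
  rcases invol_conj p (congrArg Prod.fst hpq) with rfl | ⟨g, hg⟩ <;>
    rcases invol_conj q (congrArg Prod.snd hpq) with rfl | ⟨g', hg'⟩
  · exact absurd (map_one f) hu1
  · exact key (1, g') (1, av) (by simp [hg']) fun k' hk' => h.cent_right hk'
  · exact key (g, 1) (av, 1) (by simp [hg]) fun k' hk' => h.cent_left hk'
  · exact key (g, g') (av, av) (by simp [hg, hg']) fun k' hk' => h.cent_double hk'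

theorem invol_mem (h : Hyp f) {x : K} (hx : x * x = 1) : x ∈ f.range := by
  by_cases hx1 : x = 1
  · exact hx1 ▸ one_mem _
  haveI : Fact (Nat.Prime 2) := ⟨Nat.prime_two⟩
  have hox : orderOf x = 2 := orderOf_eq_prime (by rw [pow_two, hx]) hx1
  have hy : ∀ e : A5 × A5, e * e = 1 → e ≠ 1 → ¬ IsConj x (f e) → x ∈ f.range := by
    intro e he he1 hnc
    have hoy : orderOf (f e) = 2 := by
      rw [orderOf_injective f h.inj]
      exact orderOf_eq_prime (by rw [pow_two, he]) he1
    obtain ⟨u, hu, hux, huy, -⟩ := CfsgLib.Involutions.exists_commuting_involution hox hoy hnc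
    have hue : u ∈ f.range :=
      h.cent_invol ⟨e, rfl⟩ (by rw [← map_mul, he, map_one])
        (fun he' => he1 (h.inj (he'.trans (map_one f).symm))) huy
    exact h.cent_invol hue (by rw [← pow_two, ← hu, pow_orderOf_eq_one])
      (fun hu' => by rw [hu', orderOf_one] at hu; omega) hux.symm
  by_cases hc : IsConj x (f (av, 1))
  · refine hy (av, av) (by simp [sq_of_mem av_mem]) (fun he => av_ne (congrArg Prod.fst he))
      fun hc2 => h.mix1 (hc.symm.trans hc2)
  · exact hy (av, 1) (by simp [sq_of_mem av_mem]) (fun he => av_ne (congrArg Prod.fst he)) hc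

theorem range_eq_closure (h : Hyp f) : f.range = closure {x : K | x * x = 1} := by
  refine le_antisymm ?_ ((closure_le _).2 fun x hx => h.invol_mem hx)
  have key : ∀ i : A5 →* K, i.range ≤ closure {x : K | x * x = 1} := by
    intro i
    rw [MonoidHom.range_eq_map, ← closure_invol, MonoidHom.map_closure]
    apply Subgroup.closure_mono
    rintro _ ⟨p, hp, rfl⟩
    show i p * i p = 1
    rw [← map_mul, show p * p = 1 from hp, map_one]
  rintro _ ⟨⟨a, b⟩, rfl⟩
  rw [show ((a : A5), b) = (a, 1) * (1, b) by simp, map_mul]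
  exact mul_mem (key (f.comp (MonoidHom.inl A5 A5)) ⟨a, rfl⟩)
    (key (f.comp (MonoidHom.inr A5 A5)) ⟨b, rfl⟩)

/-- The main result. -/
theorem range_eq_top (h : Hyp f) (hD : ¬ 3 ∣ (Dmap f).index)
    (hND : normalizer (Dmap f : Set K) ≤ f.range) : f.range = ⊤ := by
  haveI : Fact (Nat.Prime 3) := ⟨Nat.prime_three⟩
  haveI hn : f.range.Normal := by
    refine ⟨fun x hx g => ?_⟩
    rw [h.range_eq_closure] at hx ⊢
    induction hx using closure_induction with
    | mem y hy => exact subset_closure (show g * y * g⁻¹ * (g * y * g⁻¹) = 1 by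
        rw [show g * y * g⁻¹ * (g * y * g⁻¹) = g * (y * y) * g⁻¹ by group,
          show y * y = 1 from hy]; group)
    | one => simp
    | mul a b _ _ ha hb =>
        rw [show g * (a * b) * g⁻¹ = g * a * g⁻¹ * (g * b * g⁻¹) by group]
        exact mul_mem ha hb
    | inv a _ ha =>
        rw [show g * a⁻¹ * g⁻¹ = (g * a * g⁻¹)⁻¹ by group]
        exact inv_mem ha
  have hp : IsPGroup 3 (Dmap f) := by
    rintro ⟨x, ⟨a, b⟩, hab, rfl⟩
    obtain ⟨i, rfl⟩ := mem_zpowers_iff.1 (mem_prod.1 hab).1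
    obtain ⟨i', rfl⟩ := mem_zpowers_iff.1 (mem_prod.1 hab).2
    refine ⟨1, Subtype.ext ?_⟩
    have e : ∀ i : ℤ, (ac ^ i) ^ 3 = 1 := fun i => by
      rw [← zpow_natCast, ← zpow_mul, mul_comm, zpow_mul, zpow_natCast, ac_cube, one_zpow]
    rw [pow_one, SubgroupClass.coe_pow, ← map_pow]
    simp [Prod.pow_mk, e]
    exact map_one f
  have hle : Dmap f ≤ f.range := by
    rintro _ ⟨x, -, rfl⟩
    exact ⟨x, rfl⟩
  have := Sylow.normalizer_sup_eq_top' (hp.toSylow hD) hle
  change normalizer (Dmap f : Set K) ⊔ f.range = ⊤ at this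
  rwa [sup_eq_right.2 hND] at this

end Hyp

end CfsgLib.SymEightThreeLocal.PairAlt
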