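import Cfsg.Agent.Lib.SymEightThreeLocal.Defs

/-!
Case Q of S3330: the two alternating groups of degree five commute, and generate a subgroup `N`
with `N ⊔ ⟨r, t⟩` containing the normalizer of `D`.
-/

set_option autoImplicit false
set_option maxRecDepth 100000
set_option maxHeartbeats 4000000
set_option linter.style.haveILetI false
set_option linter.unusedVariables false
set_option linter.unusedSimpArgs false
set_option linter.unnecessarySeqFocus false

namespace CfsgLib.SymEightThreeLocal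

open Equiv Subgroup

universe u

/-- Two generators of the alternating group of degree five. -/
def genA5 : Fin 2 → Perm (Fin 5) :=
  ![swap 0 1 * swap 1 2, swap 0 3 * swap 1 4 * (swap 0 1 * swap 1 2) * (swap 0 3 * swap 1 4)]

/-- The three-cycles as words in the generators. -/
def wordsA5 : List (List (Fin 2)) :=
  [[0], [1], [0, 0], [1, 1], [0, 0, 1, 0], [0, 1, 0, 0], [1, 0, 1, 1], [1, 1, 0, 1],
    [0, 0, 1, 1, 0], [0, 1, 1, 0, 0], [1, 0, 0, 1, 1], [1, 1, 0, 0, 1], [0, 0, 1, 0, 1, 1],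
    [0, 0, 1, 1, 0, 1], [0, 1, 0, 0, 1, 1], [0, 1, 1, 0, 0, 1], [1, 0, 0, 1, 1, 0],
    [1, 0, 1, 1, 0, 0], [1, 1, 0, 0, 1, 0], [1, 1, 0, 1, 0, 0]]

theorem threeCycle_word : ∀ g : Perm (Fin 5),
    g.support.card = 3 → g ∈ wordsA5.map fun l => (l.map genA5).prod := by decide +kernel

theorem alternating_le {K : Subgroup (Perm (Fin 5))} (h0 : genA5 0 ∈ K) (h1 : genA5 1 ∈ K) :
    alternatingGroup (Fin 5) ≤ K := by
  rw [← Perm.closure_three_cycles_eq_alternating, closure_le]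
  intro g hg
  obtain ⟨l, -, rfl⟩ := List.mem_map.1 (threeCycle_word g (Perm.IsThreeCycle.card_support hg))
  refine K.list_prod_mem fun x hx => ?_
  obtain ⟨k, -, rfl⟩ := List.mem_map.1 hx
  fin_cases k <;> assumption

theorem mem_mB {p : M} : p ∈ mB ↔ p.1 = 1 ∧ Perm.sign p.2 = 1 := by
  rw [mB, Subgroup.mem_prod, Subgroup.mem_bot, Perm.mem_alternatingGroup]

theorem mB_le {K : Subgroup M} (h0 : mw ∈ K) (h1 : ms * mw * ms ∈ K) : mB ≤ K := by
  intro p hp
  obtain ⟨hp1, hp2⟩ := mem_mB.1 hp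
  have h : alternatingGroup (Fin 5) ≤ K.comap (MonoidHom.inr (Perm (Fin 3)) (Perm (Fin 5))) := by
    refine alternating_le ?_ ?_
    · exact h0
    · rw [mem_comap]
      convert h1 using 1
      decide +kernel
  have := h (show p.2 ∈ alternatingGroup (Fin 5) from hp2)
  rw [mem_comap] at this
  convert this using 1
  exact Prod.ext hp1 rfl

/-- The centralizer of `mr`, `mi` and `mjEven` in the model is the group they generate. -/
theorem eight_le : ∀ p : M, p * mr = mr * p → p * mi = mi * p → p * mjEven = mjEven * p →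
    p ∈ ([1, mr, mi, mjEven, mr * mi, mr * mjEven, mi * mjEven, mr * mi * mjEven] : List M) := by
  decide +kernel

theorem mem_range_of_commute {G : Type u} [Group G] (L : Datum G) {x : G}
    (hD : x ∈ normalizer (L.D : Set G)) (hi : Commute x L.i) : x ∈ L.φ.range := by
  have hz : L.z ∈ L.D := by rw [L.D_eq]; exact subset_closure (by simp [Datum.z])
  -- `D` is the product of `⟨z⟩` and `⟨w⟩`
  have hzw : Commute L.z L.w := by
    show L.φ mz * L.φ mw = L.φ mw * L.φ mz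
    rw [← map_mul, ← map_mul]; congr 1
  have hmem : ∀ y ∈ L.D, ∃ a b : ℤ, y = L.z ^ a * L.w ^ b := by
    intro y hy
    rw [L.D_eq] at hy
    induction hy using closure_induction with
    | mem y hy =>
      rcases hy with rfl | rfl
      · exact ⟨1, 0, by simp [Datum.z]⟩
      · exact ⟨0, 1, by simp [Datum.w]⟩
    | one => exact ⟨0, 0, by simp⟩
    | mul y y' _ _ h h' =>
      obtain ⟨a, b, rfl⟩ := h
      obtain ⟨a', b', rfl⟩ := h'
      refine ⟨a + a', b + b', ?_⟩
      rw [zpow_add, zpow_add, mul_assoc, ← mul_assoc (L.w ^ b),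
        ((hzw.zpow_zpow a' b).symm).eq, mul_assoc, mul_assoc]
    | inv y _ h =>
      obtain ⟨a, b, rfl⟩ := h
      refine ⟨-a, -b, ?_⟩
      rw [mul_inv_rev, ← zpow_neg, ← zpow_neg]
      exact ((hzw.zpow_zpow (-a) (-b)).symm).eq
  have hiz : L.i * L.z * L.i = L.z⁻¹ := by
    show L.φ mi * L.φ mz * L.φ mi = (L.φ mz)⁻¹
    rw [← map_mul, ← map_mul, ← map_inv]; congr 1; decide +kernel
  have hiw : L.i * L.w * L.i = L.w := by
    show L.φ mi * L.φ mw * L.φ mi = L.φ mw
    rw [← map_mul, ← map_mul]; congr 1; decide +kernel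
  have hii : L.i⁻¹ = L.i := by
    show (L.φ mi)⁻¹ = L.φ mi
    rw [← map_inv]; congr 1
  obtain ⟨a, b, e⟩ := hmem _ ((mem_normalizer_iff.1 hD L.z).1 hz)
  -- `i` inverts `x z x⁻¹`, so its `w`-part is trivial
  have h1 : L.i * (x * L.z * x⁻¹) * L.i = (x * L.z * x⁻¹)⁻¹ := by
    have hxi : L.i * x = x * L.i := hi.eq.symm
    have hxi' : x⁻¹ * L.i = L.i * x⁻¹ := hi.inv_left.eq
    calc L.i * (x * L.z * x⁻¹) * L.i = L.i * x * L.z * (x⁻¹ * L.i) := by group
      _ = x * (L.i * L.z * L.i) * x⁻¹ := by rw [hxi, hxi']; group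
      _ = _ := by rw [hiz]; group
  have hiza : ∀ n : ℤ, L.i * L.z ^ n * L.i = (L.z ^ n)⁻¹ := by
    intro n
    have := (conj_zpow (a := L.i) (b := L.z) (i := n))
    rw [hii, hiz, inv_zpow] at this
    exact this.symm
  have hiwb : ∀ n : ℤ, L.i * L.w ^ n * L.i = L.w ^ n := by
    intro n
    have := (conj_zpow (a := L.i) (b := L.w) (i := n))
    rw [hii, hiw] at this
    exact this.symm
  have hsq : L.w ^ b * L.w ^ b = 1 := by
    rw [e] at h1
    have e2 : L.i * (L.z ^ a * L.w ^ b) * L.i =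
        (L.i * L.z ^ a * L.i) * (L.i * L.w ^ b * L.i) := by
      have hiI : L.i * L.i = 1 := by
        have := mul_inv_cancel L.i
        rwa [hii] at this
      simp only [mul_assoc]
      rw [← mul_assoc L.i L.i, hiI, one_mul]
    rw [e2, hiza, hiwb, mul_inv_rev, ((hzw.zpow_zpow a b).inv_inv).eq.symm] at h1
    calc L.w ^ b * L.w ^ b = (L.z ^ a)⁻¹⁻¹ * ((L.z ^ a)⁻¹ * L.w ^ b) * L.w ^ b := by group
      _ = (L.z ^ a)⁻¹⁻¹ * ((L.z ^ a)⁻¹ * (L.w ^ b)⁻¹) * L.w ^ b := by rw [h1]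
      _ = 1 := by group
  have hw3 : L.w ^ 3 = 1 := by
    show (L.φ mw) ^ 3 = 1
    rw [← map_pow, show mw ^ 3 = 1 by decide +kernel, map_one]
  have hwb : L.w ^ b = 1 := by
    have h3 : (L.w ^ b) ^ 3 = 1 := by
      rw [← zpow_natCast, ← zpow_mul, mul_comm, zpow_mul, zpow_natCast, hw3, one_zpow]
    rw [pow_succ, pow_two, hsq, one_mul] at h3
    exact h3
  rw [hwb, mul_one] at e
  rw [L.φ_range]
  have hz3 : L.z ^ 3 = 1 := by
    show (L.φ mz) ^ 3 = 1
    rw [← map_pow, show mz ^ 3 = 1 by decide +kernel, map_one]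
  have hle : (zpowers L.z).map (MulAut.conj x).toMonoidHom ≤ zpowers L.z := by
    rw [map_le_iff_le_comap, zpowers_le, mem_comap]
    show x * L.z * x⁻¹ ∈ zpowers L.z
    rw [e]
    exact zpow_mem (mem_zpowers _) _
  haveI : Finite (zpowers L.z) := by
    refine (isOfFinOrder_iff_pow_eq_one.2 ⟨3, by norm_num, hz3⟩).finite_zpowers
  have heq : (zpowers L.z).map (MulAut.conj x).toMonoidHom = zpowers L.z :=
    eq_of_le_of_card_ge hle (card_map_of_injective (MulAut.conj x).injective).ge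
  rw [mem_normalizer_iff]
  intro y
  refine ⟨fun hy => hle ⟨y, hy, rfl⟩, fun hy => ?_⟩
  change x * y * x⁻¹ ∈ zpowers L.z at hy
  obtain ⟨y', hy', e'⟩ := heq.ge hy
  simp only [MulEquiv.coe_toMonoidHom, MulAut.conj_apply, mul_left_inj, mul_right_inj] at e'
  exact e' ▸ hy'

namespace Datum

variable {G : Type u} [Group G] (L : Datum G)

theorem t_inv' : L.t⁻¹ = L.t := inv_eq_of_mul_eq_one_left L.t_sq

theorem t_mul_t_mul (x : G) : L.t * (L.t * x) = x := by rw [← mul_assoc, L.t_sq, one_mul]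

theorem conj_t_mul (x y : G) : L.t * x * L.t * (L.t * y * L.t) = L.t * (x * y) * L.t := by
  simp only [mul_assoc, t_mul_t_mul]

theorem mem_B' {x : G} : x ∈ L.B' ↔ L.t * x * L.t ∈ L.B := by
  rw [B', mem_map_equiv, MulAut.conj_symm_apply, t_inv']

theorem conj_t_conj (x : G) : L.t * (L.t * x * L.t) * L.t = x := by
  simp only [mul_assoc, t_mul_t_mul, L.t_sq, mul_one]

theorem w_eq : L.t * L.z * L.t = L.w := L.tz

theorem z_eq : L.t * L.w * L.t = L.z := by rw [← w_eq, conj_t_conj]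

theorem t_conj_r : L.t * L.r * L.t = L.r := L.tr

theorem t_conj_j : L.t * L.j * L.t = L.i := L.conj_t_conj _

theorem s_conj_r (hQ : L.CaseQ) : L.s * L.r * L.s = L.j * L.r := by
  have hj : L.j = L.φ mjEven := hQ
  rw [hj, s, r, ← map_mul, ← map_mul, ← map_mul]
  congr 1
  decide +kernel

theorem s_conj_i : L.s * L.i * L.s = L.i := by
  rw [s, i, ← map_mul, ← map_mul]
  congr 1
  decide +kernel

theorem s_conj_j (hQ : L.CaseQ) : L.s * L.j * L.s = L.j := by
  have hj : L.j = L.φ mjEven := hQ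
  rw [hj, s, ← map_mul, ← map_mul]
  congr 1
  decide +kernel

theorem s_sq : L.s * L.s = 1 := by
  rw [s, ← map_mul, show ms * ms = 1 by decide +kernel, map_one]

theorem q_sq : L.q * L.q = 1 := by
  show L.t * L.s * L.t * (L.t * L.s * L.t) = 1
  rw [conj_t_mul, s_sq, mul_one, L.t_sq]

theorem q_conj_r (hQ : L.CaseQ) : L.q * L.r * L.q = L.i * L.r := by
  show L.t * L.s * L.t * L.r * (L.t * L.s * L.t) = L.i * L.r
  conv_lhs => rw [← t_conj_r]
  rw [conj_t_mul, conj_t_mul, s_conj_r L hQ, ← conj_t_mul, t_conj_j, t_conj_r]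

theorem q_conj_i (hQ : L.CaseQ) : L.q * L.i * L.q = L.i := by
  show L.t * L.s * L.t * L.i * (L.t * L.s * L.t) = L.i
  conv_lhs => rw [← t_conj_j]
  rw [conj_t_mul, conj_t_mul, s_conj_j L hQ, t_conj_j]

theorem q_conj_j : L.q * L.j * L.q = L.j := by
  show L.t * L.s * L.t * (L.t * L.i * L.t) * (L.t * L.s * L.t) = L.j
  rw [conj_t_mul, conj_t_mul, s_conj_i]
  rfl

/-- `(s q) ^ 2` lies in the model. -/
theorem sq_mem_range (hQ : L.CaseQ)
    (hcr : centralizer ({L.r} : Set G) = normalizer (L.D : Set G)) :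
    L.s * L.q * (L.s * L.q) ∈ L.φ.range := by
  set u := L.s * L.q * (L.s * L.q) with hu
  have hri : L.r * L.i = L.i * L.r := by
    show L.φ mr * L.φ mi = L.φ mi * L.φ mr
    rw [← map_mul, ← map_mul]; congr 1
  have hrj : L.r * L.j = L.j * L.r := by
    have hj : L.j = L.φ mjEven := hQ
    rw [hj]
    show L.φ mr * L.φ mjEven = L.φ mjEven * L.φ mr
    rw [← map_mul, ← map_mul]; congr 1; decide +kernel
  have hii : L.i * L.i = 1 := by
    show L.φ mi * L.φ mi = 1
    rw [← map_mul, show mi * mi = 1 by decide +kernel, map_one]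
  have hjj : L.j * L.j = 1 := by
    show L.t * L.i * L.t * (L.t * L.i * L.t) = 1
    rw [conj_t_mul, hii, mul_one, L.t_sq]
  -- action of `s` and `q` by conjugation
  let cs : G →* G := (MulAut.conj L.s).toMonoidHom
  let cq : G →* G := (MulAut.conj L.q).toMonoidHom
  have hsi : L.s⁻¹ = L.s := inv_eq_of_mul_eq_one_left L.s_sq
  have hqi : L.q⁻¹ = L.q := inv_eq_of_mul_eq_one_left L.q_sq
  have csr : cs L.r = L.j * L.r := by simp [cs, hsi, s_conj_r L hQ]
  have csi : cs L.i = L.i := by simp [cs, hsi, s_conj_i]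
  have csj : cs L.j = L.j := by simp [cs, hsi, s_conj_j L hQ]
  have cqr : cq L.r = L.i * L.r := by simp [cq, hqi, q_conj_r L hQ]
  have cqi : cq L.i = L.i := by simp [cq, hqi, q_conj_i L hQ]
  have cqj : cq L.j = L.j := by simp [cq, hqi, q_conj_j]
  have hu' : ∀ x, u * x * u⁻¹ = cs (cq (cs (cq x))) := fun x => by
    simp [cs, cq, hu, mul_assoc]
  have hur : u * L.r * u⁻¹ = L.r := by
    have hij : L.i * L.j = L.j * L.i := by
      have hj : L.j = L.φ mjEven := hQ
      rw [hj]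
      show L.φ mi * L.φ mjEven = L.φ mjEven * L.φ mi
      rw [← map_mul, ← map_mul]; congr 1
    rw [hu', cqr]
    simp only [map_mul, csi, csr, csj, cqi, cqj, cqr]
    rw [show L.i * (L.j * (L.i * (L.j * L.r))) = L.i * L.j * (L.i * L.j) * L.r by group,
      show L.i * L.j * (L.i * L.j) = L.i * (L.j * L.i) * L.j by group, ← hij, ← mul_assoc, hii,
      one_mul, hjj, one_mul]
  have hui : Commute u L.i := by
    have := hu' L.i
    rw [cqi, csi, cqi, csi] at this
    exact mul_inv_eq_iff_eq_mul.1 this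
  refine mem_range_of_commute L ?_ hui
  rw [← hcr, mem_centralizer_singleton_iff]
  exact mul_inv_eq_iff_eq_mul.1 hur

/-- The two alternating groups commute. -/
theorem commute_B (hQ : L.CaseQ)
    (hcr : centralizer ({L.r} : Set G) = normalizer (L.D : Set G)) :
    ∀ x ∈ L.B, ∀ y ∈ L.B', Commute x y := by
  have hu := sq_mem_range L hQ hcr
  set n := normalizer (zpowers L.z : Set G)
  have hs : L.s ∈ n := by
    have : L.s ∈ L.φ.range := ⟨ms, rfl⟩
    rwa [L.φ_range] at this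
  have hqsq : L.q * L.s * L.q ∈ n := by
    rw [L.φ_range] at hu
    have := n.mul_mem hs hu
    rwa [show L.s * (L.s * L.q * (L.s * L.q)) = (L.s * L.s) * (L.q * L.s * L.q) by group, s_sq,
      one_mul] at this
  set z1 := L.q * L.z * L.q with hz1
  have hsw : Commute L.z (L.s * L.w * L.s) := by
    show L.φ mz * (L.φ ms * L.φ mw * L.φ ms) = L.φ ms * L.φ mw * L.φ ms * L.φ mz
    simp only [← map_mul]
    congr 1
  have hz1w : Commute z1 L.w := by
    have e : z1 = L.t * (L.s * L.w * L.s) * L.t := by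
      show L.t * L.s * L.t * L.z * (L.t * L.s * L.t) = _
      conv_lhs => rw [← z_eq]
      rw [conj_t_mul, conj_t_mul]
    rw [e]
    have h3 := (Commute.conj_iff L.t).2 hsw.symm
    rwa [t_inv', w_eq] at h3
  -- `s` normalizes `⟨z1⟩`
  obtain ⟨k, hk⟩ : ∃ k : ℤ, L.s * z1 * L.s = z1 ^ k := by
    have h1 := (mem_normalizer_iff.1 hqsq L.z).1 (mem_zpowers _)
    obtain ⟨k, hk⟩ := mem_zpowers_iff.1 h1
    refine ⟨k, ?_⟩
    have hqi : L.q⁻¹ = L.q := inv_eq_of_mul_eq_one_left L.q_sq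
    have hsi : L.s⁻¹ = L.s := inv_eq_of_mul_eq_one_left L.s_sq
    have e2 : z1 ^ k = L.q * L.z ^ k * L.q := by
      have := conj_zpow (a := L.q) (b := L.z) (i := k)
      rwa [hqi] at this
    rw [e2, hk, mul_inv_rev, mul_inv_rev, hsi, hqi, hz1]
    simp only [← mul_assoc]
    rw [L.q_sq, one_mul]
    simp only [mul_assoc]
    rw [L.q_sq, mul_one]
  have hz1sw : Commute z1 (L.s * L.w * L.s) := by
    have hk' : z1 = L.s * z1 ^ k * L.s := by
      rw [← hk]
      simp only [← mul_assoc, s_sq, one_mul]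
      rw [mul_assoc, s_sq, mul_one]
    have h2 : Commute (L.s * z1 ^ k * L.s⁻¹) (L.s * L.w * L.s⁻¹) :=
      (Commute.conj_iff L.s).2 (hz1w.zpow_left k)
    rwa [inv_eq_of_mul_eq_one_left L.s_sq, ← hk'] at h2
  have hB : L.B ≤ centralizer {L.z, z1} := by
    rw [B, map_le_iff_le_comap]
    refine mB_le ?_ ?_ <;> rw [mem_comap, mem_centralizer_iff]
    · rintro y (rfl | rfl)
      · show L.φ mz * L.φ mw = L.φ mw * L.φ mz
        rw [← map_mul, ← map_mul]; congr 1
      · exact hz1w.eq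
    · rw [map_mul, map_mul]
      rintro y (rfl | rfl)
      · exact hsw.eq
      · exact hz1sw.eq
  intro x hx y hy
  rw [mem_B'] at hy
  -- `B'` is generated by `z` and `z1`
  have hle : L.B ≤ (centralizer ({x} : Set G)).comap (MulAut.conj L.t).toMonoidHom := by
    rw [B, map_le_iff_le_comap]
    refine mB_le ?_ ?_ <;>
      rw [mem_comap, mem_comap, mem_centralizer_singleton_iff, MulEquiv.coe_toMonoidHom,
        MulAut.conj_apply, t_inv']
    · rw [show L.t * L.φ mw * L.t = L.z from z_eq L]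
      exact mem_centralizer_iff.1 (hB hx) _ (by simp)
    · rw [map_mul, map_mul]
      have e : L.t * (L.φ ms * L.φ mw * L.φ ms) * L.t = z1 := by
        show _ = L.t * L.s * L.t * L.z * (L.t * L.s * L.t)
        conv_rhs => rw [← z_eq]
        rw [conj_t_mul, conj_t_mul]
        rfl
      rw [e]
      exact mem_centralizer_iff.1 (hB hx) _ (by simp)
  have h3 := hle hy
  rw [mem_comap, MulEquiv.coe_toMonoidHom, MulAut.conj_apply, t_inv', conj_t_conj,
    mem_centralizer_singleton_iff] at h3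
  exact h3.symm

/-! ### The product -/

/-- The subgroup `B B'`. -/
def N : Subgroup G := L.B ⊔ L.B'

/-- The group `(B B')⟨r, t⟩`. -/
def H : Subgroup G := L.N ⊔ closure {L.r, L.t}

theorem B_le_N : L.B ≤ L.N := le_sup_left

theorem B'_le_N : L.B' ≤ L.N := le_sup_right

theorem N_le_H : L.N ≤ L.H := le_sup_left

theorem r_mem_H : L.r ∈ L.H := mem_sup_right (subset_closure (by simp))

theorem t_mem_H : L.t ∈ L.H := mem_sup_right (subset_closure (by simp))

theorem conj_t_mem_B {x : G} (hx : x ∈ L.B) : L.t * x * L.t ∈ L.B' :=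
  (L.mem_B').2 (by rwa [conj_t_conj])

theorem mem_B_iff {x : G} : x ∈ L.B ↔ ∃ a : alternatingGroup (Fin 5), L.φ (1, (a : Perm (Fin 5))) = x := by
  rw [B, mem_map]
  constructor
  · rintro ⟨p, hp, rfl⟩
    obtain ⟨h1, h2⟩ := mem_mB.1 hp
    exact ⟨⟨p.2, Perm.mem_alternatingGroup.2 h2⟩, congrArg L.φ (Prod.ext h1.symm rfl)⟩
  · rintro ⟨a, rfl⟩
    exact ⟨_, mem_mB.2 ⟨rfl, Perm.mem_alternatingGroup.1 a.2⟩, rfl⟩

/-- The embedding of `A₅` onto `B`. -/
def ψ₁ : alternatingGroup (Fin 5) →* G :=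
  L.φ.comp ((MonoidHom.inr (Perm (Fin 3)) (Perm (Fin 5))).comp (alternatingGroup (Fin 5)).subtype)

/-- The embedding of `A₅` onto `B'`. -/
def ψ₂ : alternatingGroup (Fin 5) →* G := (MulAut.conj L.t).toMonoidHom.comp L.ψ₁

theorem ψ₁_range : L.ψ₁.range = L.B := by
  ext x
  rw [mem_B_iff]
  rfl

theorem ψ₂_range : L.ψ₂.range = L.B' := by
  rw [ψ₂, MonoidHom.range_comp, ψ₁_range, B']

theorem ψ₁_inj : Function.Injective L.ψ₁ := fun a b h =>
  Subtype.ext (congrArg Prod.snd (L.φ_inj h))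

theorem center_aux : ∀ g : Perm (Fin 5), Perm.sign g = 1 →
    g * genA5 0 = genA5 0 * g → g * genA5 1 = genA5 1 * g → g = 1 := by decide +kernel

theorem center_aux' : ∀ g : Perm (Fin 5),
    g * genA5 0 = genA5 0 * g → g * genA5 1 = genA5 1 * g → g = 1 := by decide +kernel

variable (hQ : L.CaseQ) (hcr : centralizer ({L.r} : Set G) = normalizer (L.D : Set G))

/-- The homomorphism `A₅ × A₅ → G`. -/
noncomputable def ψ : alternatingGroup (Fin 5) × alternatingGroup (Fin 5) →* G :=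
  L.ψ₁.noncommCoprod L.ψ₂ fun _a _b =>
    L.commute_B hQ hcr _ (L.ψ₁_range ▸ ⟨_a, rfl⟩) _ (L.ψ₂_range ▸ ⟨_b, rfl⟩)

include hQ hcr

theorem ψ_range : (L.ψ hQ hcr).range = L.N := by
  rw [ψ, MonoidHom.noncommCoprod_range, ψ₁_range, ψ₂_range, N]

theorem inf_eq_bot : L.B ⊓ L.B' = ⊥ := by
  rw [eq_bot_iff]
  intro x hx
  obtain ⟨a, rfl⟩ := (L.mem_B_iff).1 hx.1
  have hc : ∀ g : Perm (Fin 5), g ∈ alternatingGroup (Fin 5) →
      (a : Perm (Fin 5)) * g = g * a := fun g hg => by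
    have h := L.commute_B hQ hcr _ ((L.mem_B_iff).2 ⟨⟨g, hg⟩, rfl⟩) _ hx.2
    have h' := h.eq.symm
    rw [← map_mul, ← map_mul] at h'
    exact congrArg Prod.snd (L.φ_inj h')
  have ha : (a : Perm (Fin 5)) = 1 :=
    center_aux _ (Perm.mem_alternatingGroup.1 a.2) (hc _ (Perm.mem_alternatingGroup.2 (by decide +kernel))) (hc _ (Perm.mem_alternatingGroup.2 (by decide +kernel)))
  rw [mem_bot, ha, show ((1, 1) : M) = 1 from rfl, map_one]

theorem ψ_injective : Function.Injective (L.ψ hQ hcr) := by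
  rw [injective_iff_map_eq_one]
  rintro ⟨a, b⟩ h
  rw [ψ, MonoidHom.noncommCoprod_apply] at h
  have hmem : L.ψ₁ a ∈ L.B ⊓ L.B' := ⟨L.ψ₁_range ▸ ⟨a, rfl⟩, by
    rw [eq_inv_of_mul_eq_one_left h]
    exact L.B'.inv_mem (L.ψ₂_range ▸ ⟨b, rfl⟩)⟩
  rw [inf_eq_bot L hQ hcr, mem_bot] at hmem
  have ha : a = 1 := L.ψ₁_inj (by rw [hmem, map_one])
  have hb : L.ψ₂ b = 1 := by simpa [hmem] using h
  have hb' : b = 1 := L.ψ₁_inj (by
    rw [map_one]
    exact (MulAut.conj L.t).injective (by rw [map_one]; exact hb))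
  rw [ha, hb']
  rfl

/-- `N` is isomorphic to `A₅ × A₅`. -/
noncomputable def N_equiv : L.N ≃* alternatingGroup (Fin 5) × alternatingGroup (Fin 5) :=
  ((MulEquiv.subgroupCongr (L.ψ_range hQ hcr)).symm).trans
    (MonoidHom.ofInjective (L.ψ_injective hQ hcr)).symm

theorem card_N : Nat.card L.N = 3600 := by
  rw [Nat.card_congr (L.N_equiv hQ hcr).toEquiv, Nat.card_prod, nat_card_alternatingGroup,
    Nat.card_fin, show Nat.factorial 5 / 2 = 60 by rfl]

omit hQ hcr in
theorem i_mem_N (hQ : L.CaseQ) : L.i ∈ L.N := by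
  refine L.B'_le_N ((L.mem_B').2 ?_)
  rw [show L.t * L.i * L.t = L.j from rfl, show L.j = L.φ mjEven from hQ]
  exact ⟨_, mem_mB.2 ⟨rfl, by decide +kernel⟩, rfl⟩

omit hQ hcr in
theorem z_mem_B' : L.z ∈ L.B' := by
  rw [mem_B', w_eq]
  exact ⟨_, mem_mB.2 ⟨rfl, by decide +kernel⟩, rfl⟩

omit hQ hcr in
theorem j_mem_N (hQ : L.CaseQ) : L.j ∈ L.N :=
  L.B_le_N ⟨mjEven, mem_mB.2 ⟨rfl, by decide +kernel⟩, hQ.symm⟩

omit hQ hcr in
theorem z_mem_N : L.z ∈ L.N := L.B'_le_N L.z_mem_B'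

omit hQ hcr in
theorem w_mem_N : L.w ∈ L.N := L.B_le_N ⟨mw, mem_mB.2 ⟨rfl, by decide +kernel⟩, rfl⟩

omit hcr in
theorem range_le_H : L.φ.range ≤ L.H := by
  rintro _ ⟨⟨a, b⟩, rfl⟩
  rw [show ((a, b) : M) = (a, 1) * (1, b) by simp, map_mul]
  refine L.H.mul_mem ?_ ?_
  · have h3 : ∀ a : Perm (Fin 3), ((a, 1) : M) ∈
        ([1, mz, mz * mz, mi, mz * mi, mz * mz * mi] : List M) := by decide +kernel
    have h := h3 a
    have hz : L.φ mz ∈ L.H := L.N_le_H (L.B'_le_N L.z_mem_B')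
    have hi : L.φ mi ∈ L.H := L.N_le_H (L.i_mem_N hQ)
    simp only [List.mem_cons, List.not_mem_nil, or_false] at h
    rcases h with h | h | h | h | h | h <;> rw [h] <;> (try simp only [map_one, map_mul]) <;>
      (first
        | exact one_mem _
        | exact hz
        | exact hi
        | exact L.H.mul_mem hz hz
        | exact L.H.mul_mem hz hi
        | exact L.H.mul_mem (L.H.mul_mem hz hz) hi)
  · rcases Int.units_eq_one_or (Perm.sign b) with h | h
    · exact L.N_le_H (L.B_le_N ⟨_, mem_mB.2 ⟨rfl, h⟩, rfl⟩)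
    · rw [show ((1, b) : M) = (1, b * swap 3 4) * mr by simp [mr, mul_assoc], map_mul]
      refine L.H.mul_mem (L.N_le_H (L.B_le_N ⟨_, mem_mB.2 ⟨rfl, ?_⟩, rfl⟩)) L.r_mem_H
      show Perm.sign (b * swap 3 4) = 1
      rw [map_mul, h, Perm.sign_swap (by decide)]
      rfl

omit hcr in
theorem norm_D_le_H : normalizer (L.D : Set G) ≤ L.H := by
  set P := normalizer (L.D : Set G)
  haveI : Finite P := Nat.finite_of_card_ne_zero (by rw [L.card_norm_D]; norm_num)
  set X := P ⊓ L.H with hX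
  haveI : Finite X := Finite.of_injective _ (inclusion_injective (inf_le_left : X ≤ P))
  let M0 : Subgroup M := (⊤ : Subgroup (Perm (Fin 3))).prod (centralizer {swap 3 4})
  let X0 := M0.map L.φ
  have hconj : ∀ b : Perm (Fin 5), b * swap 3 4 = swap 3 4 * b →
      b * (swap 0 1 * swap 1 2) * b⁻¹ = swap 0 1 * swap 1 2 ∨
        b * (swap 0 1 * swap 1 2) * b⁻¹ = (swap 0 1 * swap 1 2)⁻¹ := by decide +kernel
  have hconj3 : ∀ a : Perm (Fin 3), a * (swap 0 1 * swap 1 2) * a⁻¹ = swap 0 1 * swap 1 2 ∨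
        a * (swap 0 1 * swap 1 2) * a⁻¹ = (swap 0 1 * swap 1 2)⁻¹ := by decide +kernel
  have hzD : L.φ mz ∈ L.D := L.D_eq ▸ subset_closure (by simp)
  have hwD : L.φ mw ∈ L.D := L.D_eq ▸ subset_closure (by simp)
  haveI : Finite L.D := Nat.finite_of_card_ne_zero (by rw [L.card_D]; norm_num)
  have hnorm : ∀ x : G, x * L.φ mz * x⁻¹ ∈ L.D → x * L.φ mw * x⁻¹ ∈ L.D → x ∈ P := by
    intro x h1 h2
    have hle : L.D.map (MulAut.conj x).toMonoidHom ≤ L.D := by
      conv_lhs => rw [L.D_eq]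
      rw [map_le_iff_le_comap, closure_le]
      rintro y (rfl | rfl) <;> assumption
    have heq : L.D.map (MulAut.conj x).toMonoidHom = L.D :=
      eq_of_le_of_card_ge hle (card_map_of_injective (MulAut.conj x).injective).ge
    rw [mem_normalizer_iff]
    refine fun y => ⟨fun hy => hle ⟨y, hy, rfl⟩, fun hy => ?_⟩
    change x * y * x⁻¹ ∈ L.D at hy
    obtain ⟨y', hy', e'⟩ := heq.ge hy
    simp only [MulEquiv.coe_toMonoidHom, MulAut.conj_apply, mul_left_inj, mul_right_inj] at e'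
    exact e' ▸ hy'
  have hX0 : X0 ≤ X := by
    rintro _ ⟨⟨a, b⟩, hp, rfl⟩
    refine ⟨hnorm _ ?_ ?_, range_le_H L hQ ⟨_, rfl⟩⟩
    · rw [← map_inv, ← map_mul, ← map_mul]
      rcases hconj3 a with h | h
      · rw [show ((a, b) : M) * mz * (a, b)⁻¹ = mz by simp [mz, h]]
        exact hzD
      · rw [show ((a, b) : M) * mz * (a, b)⁻¹ = mz⁻¹ by simp [mz, h], map_inv]
        exact inv_mem hzD
    · rw [← map_inv, ← map_mul, ← map_mul]
      have hb : b * swap 3 4 = swap 3 4 * b := mem_centralizer_singleton_iff.1 hp.2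
      rcases hconj b hb with h | h
      · rw [show ((a, b) : M) * mw * (a, b)⁻¹ = mw by simp [mw, h]]
        exact hwD
      · rw [show ((a, b) : M) * mw * (a, b)⁻¹ = mw⁻¹ by simp [mw, h], map_inv]
        exact inv_mem hwD
  have hM0 : Nat.card X0 = 72 := by
    rw [card_map_of_injective L.φ_inj, Nat.card_congr (prodEquiv _ _).toEquiv, Nat.card_prod,
      card_top, Nat.card_congr (Equiv.subtypeEquivRight fun b : Perm (Fin 5) =>
        (mem_centralizer_singleton_iff : b ∈ centralizer {swap 3 4} ↔ _)),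
      Nat.card_eq_fintype_card, Nat.card_eq_fintype_card]
    decide +kernel
  have htP : L.t ∈ P := by
    refine hnorm _ ?_ ?_
    · rw [L.t_inv', L.tz]; exact hwD
    · rw [L.t_inv', show L.t * L.φ mw * L.t = L.z from z_eq L]; exact hzD
  have htX : L.t ∈ X := ⟨htP, L.t_mem_H⟩
  have htX0 : L.t ∉ X0 := by
    rintro ⟨p, -, hp⟩
    have h : L.t ∈ L.φ.range := ⟨p, hp⟩
    rw [L.φ_range] at h
    have h1 := (mem_normalizer_iff.1 h (L.φ mz)).1 (mem_zpowers _)
    rw [L.t_inv', L.tz] at h1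
    obtain ⟨k, hk⟩ := mem_zpowers_iff.1 h1
    rw [← map_zpow] at hk
    have := congrArg Prod.snd (L.φ_inj hk)
    simp [mz, mw] at this
    exact absurd this (by decide +kernel)
  have hdvd : 72 ∣ Nat.card X := hM0 ▸ card_dvd_of_le hX0
  have hne : Nat.card X ≠ 72 := fun h =>
    htX0 (eq_of_le_of_card_ge hX0 (by rw [h, hM0]) ▸ htX)
  have hXP : X = P := by
    refine eq_of_le_of_card_ge inf_le_left ?_
    rw [L.card_norm_D]
    obtain ⟨m, hm⟩ := hdvd
    rcases m with _ | _ | m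
    · exact absurd hm (Nat.card_pos (α := X)).ne'
    · exact absurd hm hne
    · omega
  exact inf_eq_left.1 hXP

theorem H_le_normalizer : L.H ≤ normalizer (L.N : Set G) := by
  haveI : Finite L.N := Nat.finite_of_card_ne_zero (by rw [L.card_N hQ hcr]; norm_num)
  have key : ∀ x : G, L.N.map (MulAut.conj x).toMonoidHom = L.N → x ∈ normalizer (L.N : Set G) := by
    intro x heq
    rw [mem_normalizer_iff]
    refine fun y => ⟨fun hy => heq.le ⟨y, hy, rfl⟩, fun hy => ?_⟩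
    change x * y * x⁻¹ ∈ L.N at hy
    obtain ⟨y', hy', e'⟩ := heq.ge hy
    simp only [MulEquiv.coe_toMonoidHom, MulAut.conj_apply, mul_left_inj, mul_right_inj] at e'
    exact e' ▸ hy'
  have ht : L.t ∈ normalizer (L.N : Set G) := key _ (by
    have e : (MulAut.conj L.t).toMonoidHom.comp (MulAut.conj L.t).toMonoidHom = MonoidHom.id G :=
      MonoidHom.ext fun x => by simp [t_inv', conj_t_conj]
    rw [N, Subgroup.map_sup, B', map_map, e, map_id, sup_comm])
  have hrB : L.B.map (MulAut.conj L.r).toMonoidHom ≤ L.B := by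
    rintro _ ⟨_, ⟨p, hp, rfl⟩, rfl⟩
    refine ⟨mr * p * mr⁻¹, ?_, by simp [r, map_mul]⟩
    obtain ⟨h1, h2⟩ := mem_mB.1 hp
    exact mem_mB.2 ⟨by simp [mr, h1], by simp [mr, h2]⟩
  have hr : L.r ∈ normalizer (L.N : Set G) := key _ (by
    refine eq_of_le_of_card_ge ?_ (card_map_of_injective (MulAut.conj L.r).injective).ge
    rw [N, Subgroup.map_sup]
    refine sup_le_sup hrB ?_
    rw [B', map_map]
    have e : (MulAut.conj L.r).toMonoidHom.comp (MulAut.conj L.t).toMonoidHom =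
        (MulAut.conj L.t).toMonoidHom.comp (MulAut.conj L.r).toMonoidHom := MonoidHom.ext fun x => by
      have e2 : L.r * L.t = L.t * L.r := by
        calc L.r * L.t = L.t * L.r * L.t * L.t := by rw [t_conj_r]
          _ = L.t * L.r := by rw [mul_assoc, L.t_sq, mul_one]
      show L.r * (L.t * x * L.t⁻¹) * L.r⁻¹ = L.t * (L.r * x * L.r⁻¹) * L.t⁻¹
      calc L.r * (L.t * x * L.t⁻¹) * L.r⁻¹ = L.r * L.t * x * (L.r * L.t)⁻¹ := by group
        _ = _ := by rw [e2]; group
    rw [e, ← map_map]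
    exact map_mono hrB)
  rw [H]
  refine sup_le le_normalizer ((closure_le _).2 ?_)
  rintro y (rfl | rfl) <;> assumption

/-- Every element of `H` is in one of the four cosets of `N`. -/
theorem mem_H_cases {h : G} (hh : h ∈ L.H) :
    ∃ n ∈ L.N, h = n ∨ h = n * L.r ∨ h = n * L.t ∨ h = n * (L.r * L.t) := by
  have hrr : L.r * L.r = 1 := by
    rw [r, ← map_mul, show mr * mr = 1 by decide +kernel, map_one]
  have htr : L.t * L.r = L.r * L.t := by
    calc L.t * L.r = L.t * L.r * L.t * L.t := by rw [mul_assoc _ L.t L.t, L.t_sq, mul_one]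
      _ = _ := by rw [t_conj_r]
  have e1 : ∀ x : G, L.r * (L.r * x) = x := fun x => by rw [← mul_assoc, hrr, one_mul]
  have e3 : ∀ x : G, L.t * (L.r * x) = L.r * (L.t * x) := fun x => by
    rw [← mul_assoc, htr, mul_assoc]
  have hn : closure {L.r, L.t} ≤ normalizer (L.N : Set G) :=
    le_sup_right.trans (L.H_le_normalizer hQ hcr)
  rw [H, ← SetLike.mem_coe, coe_mul_of_right_le_normalizer_left L.N _ hn] at hh
  obtain ⟨n, hnN, u, hu, rfl⟩ := hh
  refine ⟨n, hnN, ?_⟩
  suffices hc : u = 1 ∨ u = L.r ∨ u = L.t ∨ u = L.r * L.t by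
    rcases hc with rfl | rfl | rfl | rfl <;> simp
  induction hu using closure_induction with
  | mem x hx => rcases hx with rfl | rfl <;> simp
  | one => simp
  | mul x y _ _ hx hy =>
    rcases hx with rfl | rfl | rfl | rfl <;> rcases hy with rfl | rfl | rfl | rfl <;>
      simp [mul_assoc, hrr, L.t_sq, htr, e1, e3]
  | inv x _ hx =>
    rcases hx with rfl | rfl | rfl | rfl <;>
      simp [L.t_inv', inv_eq_of_mul_eq_one_left hrr, htr]

theorem r_not_mem_N : L.r ∉ L.N := by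
  intro h
  rw [← L.ψ_range hQ hcr] at h
  obtain ⟨⟨a, b⟩, e⟩ := h
  rw [ψ, MonoidHom.noncommCoprod_apply] at e
  -- conjugation by `r` on `B` is conjugation by `a`
  have key : ∀ g : Perm (Fin 5), g ∈ alternatingGroup (Fin 5) →
      (swap 3 4 * g * swap 3 4 : Perm (Fin 5)) = (a : Perm (Fin 5)) * g * (a : Perm (Fin 5))⁻¹ := by
    intro g hg
    have hc : Commute (L.ψ₂ b) (L.φ (1, g)) :=
      (L.commute_B hQ hcr _ ((L.mem_B_iff).2 ⟨⟨g, hg⟩, rfl⟩) _ (L.ψ₂_range ▸ ⟨b, rfl⟩)).symm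
    have h1 : L.r * L.φ (1, g) * L.r⁻¹ = L.φ (1, (a : Perm (Fin 5))) * L.φ (1, g) *
        (L.φ (1, (a : Perm (Fin 5))))⁻¹ := by
      rw [← e, show L.ψ₁ a * L.ψ₂ b * L.φ (1, g) * (L.ψ₁ a * L.ψ₂ b)⁻¹ =
        L.ψ₁ a * (L.ψ₂ b * L.φ (1, g) * (L.ψ₂ b)⁻¹) * (L.ψ₁ a)⁻¹ by group, hc.eq,
        mul_inv_cancel_right]
      rfl
    rw [r, ← map_inv, ← map_inv, ← map_mul, ← map_mul, ← map_mul, ← map_mul] at h1
    have h2 := congrArg Prod.snd (L.φ_inj h1)
    simpa [mr] using h2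
  have hc : ∀ g : Perm (Fin 5), g ∈ alternatingGroup (Fin 5) →
      (swap 3 4 * (a : Perm (Fin 5))) * g = g * (swap 3 4 * (a : Perm (Fin 5))) := by
    intro g hg
    have hss : (swap 3 4 : Perm (Fin 5)) * swap 3 4 = 1 := swap_mul_self _ _
    have := key g hg
    calc swap 3 4 * (a : Perm (Fin 5)) * g
        = swap 3 4 * ((a : Perm (Fin 5)) * g * (a : Perm (Fin 5))⁻¹) * (a : Perm (Fin 5)) := by group
      _ = swap 3 4 * swap 3 4 * g * (swap 3 4 * (a : Perm (Fin 5))) := by rw [← this]; group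
      _ = g * (swap 3 4 * (a : Perm (Fin 5))) := by rw [hss, one_mul]
  have h1 := center_aux' _ (hc _ (Perm.mem_alternatingGroup.2 (by decide +kernel))) (hc _ (Perm.mem_alternatingGroup.2 (by decide +kernel)))
  have h2 := congrArg Perm.sign h1
  rw [map_mul, Perm.mem_alternatingGroup.1 a.2, Perm.sign_swap (by decide)] at h2
  simp at h2

theorem not_mem_N_of_swap {u : G} (hu : L.B.map (MulAut.conj u).toMonoidHom = L.B') : u ∉ L.N := by
  intro h
  have hle : L.N ≤ normalizer (L.B : Set G) := by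
    rw [N]
    refine sup_le le_normalizer ?_
    refine le_trans ?_ (centralizer_le_normalizer _)
    intro y hy
    exact mem_centralizer_iff.2 fun x hx => (L.commute_B hQ hcr x hx y hy).eq
  have heq : L.B = L.B' := by
    rw [← hu]
    ext x
    rw [mem_map_equiv, MulAut.conj_symm_apply]
    exact (mem_normalizer_iff''.1 (hle h) x)
  have h0 := L.inf_eq_bot hQ hcr
  rw [← heq, inf_idem] at h0
  have hw : L.φ mw ∈ L.B := ⟨_, mem_mB.2 ⟨rfl, by decide +kernel⟩, rfl⟩
  rw [h0, mem_bot, ← map_one L.φ] at hw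
  exact absurd (L.φ_inj hw) (by decide +kernel)

theorem t_not_mem_N : L.t ∉ L.N := L.not_mem_N_of_swap hQ hcr rfl

theorem rt_not_mem_N : L.r * L.t ∉ L.N := by
  refine L.not_mem_N_of_swap hQ hcr ?_
  have e : (MulAut.conj (L.r * L.t)).toMonoidHom =
      (MulAut.conj L.t).toMonoidHom.comp (MulAut.conj L.r).toMonoidHom := MonoidHom.ext fun x => by
    have e2 : L.r * L.t = L.t * L.r := by
      calc L.r * L.t = L.t * L.r * L.t * L.t := by rw [t_conj_r]
        _ = L.t * L.r := by rw [mul_assoc, L.t_sq, mul_one]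
    show L.r * L.t * x * (L.r * L.t)⁻¹ = L.t * (L.r * x * L.r⁻¹) * L.t⁻¹
    rw [e2]
    group
  rw [e, ← map_map, B']
  congr 1
  haveI : Finite L.B := by rw [← ψ₁_range]; exact (Set.finite_range L.ψ₁).to_subtype
  refine eq_of_le_of_card_ge ?_ (card_map_of_injective (MulAut.conj L.r).injective).ge
  rintro _ ⟨_, ⟨p, hp, rfl⟩, rfl⟩
  refine ⟨mr * p * mr⁻¹, ?_, by simp [r, map_mul]⟩
  obtain ⟨h1, h2⟩ := mem_mB.1 hp
  exact mem_mB.2 ⟨by simp [mr, h1], by simp [mr, h2]⟩

theorem sq_mem_N {h : G} (hh : h ∈ L.H) : h * h ∈ L.N := by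
  have hn := L.H_le_normalizer hQ hcr
  have hrr : L.r * L.r = 1 := by
    rw [r, ← map_mul, show mr * mr = 1 by decide +kernel, map_one]
  have key : ∀ n ∈ L.N, ∀ u ∈ L.H, u * u = 1 → n * u * (n * u) ∈ L.N := by
    intro n hnN u hu huu
    have := L.N.mul_mem hnN ((mem_normalizer_iff.1 (hn hu) n).1 hnN)
    rwa [inv_eq_of_mul_eq_one_left huu, ← mul_assoc, ← mul_assoc, mul_assoc (n * u)] at this
  obtain ⟨n, hnN, rfl | rfl | rfl | rfl⟩ := L.mem_H_cases hQ hcr hh
  · exact L.N.mul_mem hnN hnN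
  · exact key n hnN _ L.r_mem_H hrr
  · exact key n hnN _ L.t_mem_H L.t_sq
  · refine key n hnN _ (L.H.mul_mem L.r_mem_H L.t_mem_H) ?_
    rw [show L.r * L.t * (L.r * L.t) = L.r * (L.t * L.r * L.t) by group, t_conj_r, hrr]

theorem card_H : Nat.card L.H = 14400 := by
  haveI : Finite L.N := Nat.finite_of_card_ne_zero (by rw [L.card_N hQ hcr]; norm_num)
  have hrr : L.r * L.r = 1 := by
    rw [r, ← map_mul, show mr * mr = 1 by decide +kernel, map_one]
  have htr : L.t * L.r = L.r * L.t := by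
    calc L.t * L.r = L.t * L.r * L.t * L.t := by rw [mul_assoc _ L.t L.t, L.t_sq, mul_one]
      _ = _ := by rw [t_conj_r]
  let g : Fin 4 → G := ![1, L.r, L.t, L.r * L.t]
  have hg : ∀ a b : Fin 4, g a * (g b)⁻¹ ∈ L.N → a = b := by
    have hri : L.r⁻¹ = L.r := inv_eq_of_mul_eq_one_left hrr
    have h1 := L.r_not_mem_N hQ hcr
    have h2 := L.t_not_mem_N hQ hcr
    have h3 := L.rt_not_mem_N hQ hcr
    have e1 : ∀ x : G, L.r * (L.r * x) = x := fun x => by rw [← mul_assoc, hrr, one_mul]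
    have e3 : ∀ x : G, L.t * (L.r * x) = L.r * (L.t * x) := fun x => by
      rw [← mul_assoc, htr, mul_assoc]
    intro a b h
    fin_cases a <;> fin_cases b <;> first | rfl | (exfalso; revert h) <;>
      simp [g, hri, L.t_inv', mul_assoc, hrr, L.t_sq, htr, e1, e3, h1, h2, h3]
  have hgH : ∀ a, g a ∈ L.H := by
    intro a
    fin_cases a <;> simp [g, L.r_mem_H, L.t_mem_H, one_mem, L.H.mul_mem L.r_mem_H L.t_mem_H]
  let f : L.N × Fin 4 → L.H := fun p =>
    ⟨p.1 * g p.2, L.H.mul_mem (L.N_le_H p.1.2) (hgH p.2)⟩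
  have hf : Function.Bijective f := by
    constructor
    · rintro ⟨n, a⟩ ⟨m, b⟩ e
      have e' : (n : G) * g a = m * g b := congrArg Subtype.val e
      have hab : a = b := hg a b (by
        rw [show g a * (g b)⁻¹ = (n : G)⁻¹ * m by
          rw [eq_inv_mul_iff_mul_eq, ← mul_assoc, e', mul_inv_cancel_right]]
        exact L.N.mul_mem (inv_mem n.2) m.2)
      subst hab
      exact Prod.ext (Subtype.ext (mul_right_cancel e')) rfl
    · rintro ⟨h, hh⟩
      obtain ⟨n, hn, rfl | rfl | rfl | rfl⟩ := L.mem_H_cases hQ hcr hh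
      · exact ⟨⟨⟨_, hn⟩, 0⟩, Subtype.ext (by simp [f, g])⟩
      · exact ⟨⟨⟨_, hn⟩, 1⟩, Subtype.ext (by simp [f, g])⟩
      · exact ⟨⟨⟨_, hn⟩, 2⟩, Subtype.ext (by simp [f, g])⟩
      · exact ⟨⟨⟨_, hn⟩, 3⟩, Subtype.ext (by simp [f, g])⟩
  rw [← Nat.card_congr (Equiv.ofBijective f hf), Nat.card_prod, L.card_N hQ hcr, Nat.card_fin]

end Datum

end CfsgLib.SymEightThreeLocal
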