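import Cfsg.Agent.Lib.SymEightThreeLocal.Lemmas
import Cfsg.Agent.Lib.SymEightThreeLocal.Product
import Cfsg.Agent.Lib.SymEightThreeLocal.PairAlt

/-!
Case Q of S3330: fusion of the involutions of `H = (B B')⟨r, t⟩` and the Sylow 2-subgroup.
-/

set_option autoImplicit false
set_option maxRecDepth 100000
set_option linter.unusedSectionVars false
set_option linter.unusedVariables false
set_option linter.style.haveILetI false

namespace CfsgLib.SymEightThreeLocal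

open Equiv Subgroup
open PairAlt (A5 av av' ac aV mem_aV)

universe u

/-- Conjugation by a transposition on the alternating group of degree five. -/
def rho (a : A5) : A5 :=
  ⟨swap 3 4 * (a : Perm (Fin 5)) * swap 3 4, Perm.mem_alternatingGroup.2 (by
    rw [map_mul, map_mul, Perm.mem_alternatingGroup.1 a.2, Perm.sign_swap (by decide)]; rfl)⟩

theorem rho_av : rho av = av := by decide
theorem rho_ac : rho ac = ac := by decide
theorem rho_rho : ∀ a : A5, rho (rho a) = a := by decide +kernel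
theorem rho_mul (a b : A5) : rho (a * b) = rho a * rho b := by
  apply Subtype.ext
  show swap 3 4 * ((a : Perm (Fin 5)) * (b : Perm (Fin 5))) * swap 3 4 =
    swap 3 4 * (a : Perm (Fin 5)) * swap 3 4 * (swap 3 4 * (b : Perm (Fin 5)) * swap 3 4)
  rw [show swap 3 4 * (a : Perm (Fin 5)) * swap 3 4 * (swap 3 4 * (b : Perm (Fin 5)) * swap 3 4) =
    swap 3 4 * (a : Perm (Fin 5)) * (swap 3 4 * swap 3 4) * (b : Perm (Fin 5)) * swap 3 4 by group, swap_mul_self]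
  group

theorem rho_inv (a : A5) : rho a⁻¹ = (rho a)⁻¹ :=
  eq_inv_of_mul_eq_one_left (by rw [← rho_mul, inv_mul_cancel]; decide)

theorem rho_aV : ∀ a : A5, a * av = av * a → rho a * av = av * rho a := by decide +kernel
theorem rho_fixed_conj : ∀ a : A5, a * rho a = 1 → ∃ g : A5, g * rho g⁻¹ = a := by decide +kernel
theorem rho_fixed_conj_aV : ∀ a : A5, a * av = av * a → a * rho a = 1 →
    ∃ g : A5, g * av = av * g ∧ g * rho g⁻¹ = a := by decide +kernel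
theorem card_aV_eq : Nat.card aV = 4 := by
  have h : Nat.card {p : A5 // p * av = av * p} = 4 := by
    rw [Nat.card_eq_fintype_card]
    decide +kernel
  rw [← h]
  exact Nat.card_congr (Equiv.subtypeEquivRight fun p => mem_aV)

/-- Orders multiply in a product of a subgroup and a subgroup normalising it trivially meeting it. -/
theorem card_sup_of_normalizes {G : Type*} [Group G] [Finite G] {A K : Subgroup G}
    (hn : K ≤ normalizer (A : Set G)) (hd : ∀ x ∈ A, x ∈ K → x = 1) :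
    Nat.card (A ⊔ K : Subgroup G) = Nat.card A * Nat.card K := by
  rw [← Nat.card_prod]
  refine (Nat.card_congr (Equiv.ofBijective
    (fun x : A × K => (⟨x.1 * x.2, mul_mem (mem_sup_left x.1.2) (mem_sup_right x.2.2)⟩ :
      (A ⊔ K : Subgroup G))) ⟨?_, ?_⟩)).symm
  · rintro ⟨a, k⟩ ⟨a', k'⟩ h
    have h' : (a : G) * k = a' * k' := congrArg Subtype.val h
    have h1 : (a' : G)⁻¹ * a = (k' : G) * (k : G)⁻¹ := by
      rw [eq_mul_inv_iff_mul_eq, mul_assoc, h']; group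
    have h2 := hd _ (mul_mem (inv_mem a'.2) a.2) (h1 ▸ mul_mem k'.2 (inv_mem k.2))
    have ha : a = a' := (Subtype.ext (inv_mul_eq_one.1 h2)).symm
    subst ha
    exact Prod.ext rfl (Subtype.ext (mul_left_cancel h'))
  · rintro ⟨x, hx⟩
    rw [← SetLike.mem_coe, coe_mul_of_right_le_normalizer_left A K hn] at hx
    obtain ⟨a, ha, k, hk, rfl⟩ := hx
    exact ⟨⟨⟨a, ha⟩, ⟨k, hk⟩⟩, rfl⟩

theorem mem_sup_of_normalizes {G : Type*} [Group G] {A K : Subgroup G}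
    (hn : K ≤ normalizer (A : Set G)) {x : G} (hx : x ∈ A ⊔ K) :
    ∃ a ∈ A, ∃ k ∈ K, x = a * k := by
  rw [← SetLike.mem_coe, coe_mul_of_right_le_normalizer_left A K hn] at hx
  obtain ⟨a, ha, k, hk, rfl⟩ := hx
  exact ⟨a, ha, k, hk, rfl⟩

theorem le_normalizer_of_forall {G : Type*} [Group G] [Finite G] {A K : Subgroup G}
    (h : ∀ k ∈ K, ∀ a ∈ A, k * a * k⁻¹ ∈ A) : K ≤ normalizer (A : Set G) := by
  intro k hk
  exact mem_normalizer_fintype (h k hk)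

namespace Datum

variable {G : Type u} [Group G] (L : Datum G)

/-- The four elements `1, r, t, rt`. -/
def IsK (σ : G) : Prop := σ = 1 ∨ σ = L.r ∨ σ = L.t ∨ σ = L.r * L.t

theorem r_t : L.r * L.t = L.t * L.r := by
  calc L.r * L.t = L.t * L.r * L.t * L.t := by rw [L.t_r]
    _ = L.t * L.r := by rw [mul_assoc, L.t_sq, mul_one]

theorem rt_sq : L.r * L.t * (L.r * L.t) = 1 := by
  rw [show L.r * L.t * (L.r * L.t) = L.r * (L.t * L.r * L.t) by group, L.t_r, L.r_sq]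

theorem isK_sq {σ : G} (h : L.IsK σ) : σ * σ = 1 := by
  rcases h with rfl | rfl | rfl | rfl
  exacts [one_mul 1, L.r_sq, L.t_sq, L.rt_sq]

theorem isK_mul {σ τ : G} (h : L.IsK σ) (h' : L.IsK τ) : L.IsK (σ * τ) := by
  have e1 : ∀ x : G, L.r * (L.r * x) = x := fun x => by rw [← mul_assoc, L.r_sq, one_mul]
  have e2 : ∀ x : G, L.t * (L.t * x) = x := fun x => by rw [← mul_assoc, L.t_sq, one_mul]
  have e3 : ∀ x : G, L.t * (L.r * x) = L.r * (L.t * x) := fun x => by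
    rw [← mul_assoc, ← L.r_t, mul_assoc]
  rcases h with rfl | rfl | rfl | rfl <;> rcases h' with rfl | rfl | rfl | rfl <;>
    simp [IsK, mul_assoc, L.r_sq, L.t_sq, L.r_t.symm, e1, e2, e3]

theorem isK_inv {σ : G} (h : L.IsK σ) : L.IsK σ⁻¹ := by
  rwa [inv_eq_of_mul_eq_one_left (L.isK_sq h)]

/-- The four-group `⟨r, t⟩`. -/
def K4 : Subgroup G where
  carrier := {σ | L.IsK σ}
  mul_mem' h h' := L.isK_mul h h'
  one_mem' := Or.inl rfl
  inv_mem' h := L.isK_inv h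

variable [Finite G] (hQ : L.CaseQ) (hcr : centralizer ({L.r} : Set G) = normalizer (L.D : Set G))
include hQ hcr

theorem ψ_apply (a b : A5) :
    L.ψ hQ hcr (a, b) = L.φ (1, (a : Perm (Fin 5))) * (L.t * L.φ (1, (b : Perm (Fin 5))) * L.t) := by
  rw [ψ, MonoidHom.noncommCoprod_apply]
  show L.φ (1, _) * (L.t * L.φ (1, _) * L.t⁻¹) = _
  rw [L.t_inv]
  rfl

theorem ψ_left (a : A5) : L.ψ hQ hcr (a, 1) = L.φ (1, (a : Perm (Fin 5))) := by
  rw [ψ_apply, OneMemClass.coe_one, show ((1, 1) : M) = 1 from rfl, map_one, mul_one, L.t_sq,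
    mul_one]

theorem ψ_right (b : A5) : L.ψ hQ hcr (1, b) = L.t * L.φ (1, (b : Perm (Fin 5))) * L.t := by
  rw [ψ_apply, OneMemClass.coe_one, show ((1, 1) : M) = 1 from rfl, map_one, one_mul]

theorem ψ_ac_left : L.ψ hQ hcr (ac, 1) = L.w := by rw [ψ_left]; rfl

theorem ψ_ac_right : L.ψ hQ hcr (1, ac) = L.z := by
  rw [ψ_right]
  exact L.t_w

theorem ψ_av_left : L.ψ hQ hcr (av, 1) = L.φ mjEven := by rw [ψ_left]; rfl

theorem ψ_mul (a b : A5) : L.ψ hQ hcr (a, b) = L.ψ hQ hcr (a, 1) * L.ψ hQ hcr (1, b) := by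
  rw [← map_mul]; simp

theorem t_conj (a b : A5) : L.t * L.ψ hQ hcr (a, b) * L.t = L.ψ hQ hcr (b, a) := by
  have e1 : ∀ a : A5, L.t * L.ψ hQ hcr (a, 1) * L.t = L.ψ hQ hcr (1, a) := fun a => by
    rw [ψ_left, ψ_right]
  have e2 : ∀ b : A5, L.t * L.ψ hQ hcr (1, b) * L.t = L.ψ hQ hcr (b, 1) := fun b => by
    rw [ψ_left, ψ_right, L.conj_t_conj]
  rw [ψ_mul L hQ hcr a b, ← L.conj_t_mul, e1, e2, ← map_mul]
  simp

theorem r_conj (a b : A5) :
    L.r * L.ψ hQ hcr (a, b) * L.r = L.ψ hQ hcr (rho a, rho b) := by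
  have e1 : ∀ a : A5, L.r * L.ψ hQ hcr (a, 1) * L.r = L.ψ hQ hcr (rho a, 1) := fun a => by
    rw [ψ_left, ψ_left, r, ← map_mul, ← map_mul]
    exact congrArg L.φ (Prod.ext rfl rfl)
  have e2 : ∀ b : A5, L.r * L.ψ hQ hcr (1, b) * L.r = L.ψ hQ hcr (1, rho b) := fun b => by
    rw [← t_conj L hQ hcr (rho b) 1, ← e1 b, ← t_conj L hQ hcr b 1]
    simp only [← mul_assoc]
    rw [L.r_t]
    simp only [mul_assoc]
    rw [L.r_t]
  have hrr : ∀ x y : G, L.r * (x * y) * L.r = L.r * x * L.r * (L.r * y * L.r) := fun x y => by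
    rw [show L.r * x * L.r * (L.r * y * L.r) = L.r * x * (L.r * L.r) * y * L.r by group, L.r_sq]
    group
  rw [ψ_mul L hQ hcr a b, hrr, e1, e2, ← map_mul]
  simp

theorem rt_conj (a b : A5) :
    L.r * L.t * L.ψ hQ hcr (a, b) * (L.r * L.t) = L.ψ hQ hcr (rho b, rho a) := by
  rw [← r_conj L hQ hcr b a, ← t_conj L hQ hcr a b]
  simp only [mul_assoc]
  rw [L.r_t]

theorem K_conj {σ : G} (h : L.IsK σ) (p : A5 × A5) :
    ∃ p' : A5 × A5, σ * L.ψ hQ hcr p * σ⁻¹ = L.ψ hQ hcr p' := by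
  rw [inv_eq_of_mul_eq_one_left (L.isK_sq h)]
  obtain ⟨a, b⟩ := p
  rcases h with rfl | rfl | rfl | rfl
  exacts [⟨(a, b), by simp⟩, ⟨_, r_conj L hQ hcr a b⟩, ⟨_, t_conj L hQ hcr a b⟩,
    ⟨_, rt_conj L hQ hcr a b⟩]

theorem exists_rep {h : G} (hh : h ∈ L.H) :
    ∃ (p : A5 × A5) (σ : G), L.IsK σ ∧ h = L.ψ hQ hcr p * σ := by
  obtain ⟨n, hn, hc⟩ := L.mem_H_cases hQ hcr hh
  rw [← L.ψ_range hQ hcr] at hn
  obtain ⟨p, rfl⟩ := hn
  rcases hc with rfl | rfl | rfl | rfl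
  exacts [⟨p, 1, Or.inl rfl, (mul_one _).symm⟩, ⟨p, _, Or.inr (Or.inl rfl), rfl⟩,
    ⟨p, _, Or.inr (Or.inr (Or.inl rfl)), rfl⟩, ⟨p, _, Or.inr (Or.inr (Or.inr rfl)), rfl⟩]

theorem ψ_mem_N (p : A5 × A5) : L.ψ hQ hcr p ∈ L.N := L.ψ_range hQ hcr ▸ ⟨p, rfl⟩

theorem eq_one_of_K_mem_N {σ : G} (h : L.IsK σ) (hN : σ ∈ L.N) : σ = 1 := by
  rcases h with rfl | rfl | rfl | rfl
  exacts [rfl, absurd hN (L.r_not_mem_N hQ hcr), absurd hN (L.t_not_mem_N hQ hcr),
    absurd hN (L.rt_not_mem_N hQ hcr)]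

theorem t_ne_r : L.t ≠ L.r := fun h =>
  L.rt_not_mem_N hQ hcr (by rw [h, L.r_sq]; exact one_mem _)

theorem rt_ne_r : L.r * L.t ≠ L.r := fun h =>
  L.t_not_mem_N hQ hcr (by rw [mul_eq_left.1 h]; exact one_mem _)

theorem r_ne_one : L.r ≠ 1 := L.r_ne

theorem t_ne_one : L.t ≠ 1 := fun h => L.t_not_mem_N hQ hcr (h ▸ one_mem _)

theorem rt_ne_one : L.r * L.t ≠ 1 := fun h => L.rt_not_mem_N hQ hcr (h ▸ one_mem _)

theorem rt_ne_t : L.r * L.t ≠ L.t := fun h => L.r_ne (mul_eq_right.1 h)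

/-- The mixed involution. -/
noncomputable def w0 : G := L.ψ hQ hcr (av, av)

/-- The elementary abelian group of order sixteen. -/
noncomputable def E : Subgroup G := PairAlt.Emap (L.ψ hQ hcr)

theorem card_E : Nat.card (L.E hQ hcr) = 16 := by
  rw [E, PairAlt.Emap, card_map_of_injective (L.ψ_injective hQ hcr),
    Nat.card_congr (prodEquiv _ _).toEquiv, Nat.card_prod, card_aV_eq]

theorem card_K4 : Nat.card L.K4 = 4 := by
  have e : (L.K4 : Set G) = {1, L.r, L.t, L.r * L.t} := rfl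
  rw [← SetLike.coe_sort_coe, Nat.card_coe_set_eq, e]
  rw [Set.ncard_insert_of_notMem, Set.ncard_insert_of_notMem, Set.ncard_pair]
  · exact (rt_ne_t L hQ hcr).symm
  · simp only [Set.mem_insert_iff, Set.mem_singleton_iff]
    exact not_or.2 ⟨(t_ne_r L hQ hcr).symm, (rt_ne_r L hQ hcr).symm⟩
  · simp only [Set.mem_insert_iff, Set.mem_singleton_iff]
    exact not_or.2 ⟨(r_ne_one L hQ hcr).symm,
      not_or.2 ⟨(t_ne_one L hQ hcr).symm, (rt_ne_one L hQ hcr).symm⟩⟩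

theorem K4_le_normalizer_E : L.K4 ≤ normalizer (L.E hQ hcr : Set G) := by
  refine le_normalizer_of_forall fun σ hσ e he => ?_
  obtain ⟨a, b, ha, hb, rfl⟩ := PairAlt.mem_Emap.1 he
  rw [inv_eq_of_mul_eq_one_left (L.isK_sq hσ)]
  have hr : ∀ a ∈ aV, rho a ∈ aV := fun a ha => mem_aV.2 (rho_aV a (mem_aV.1 ha))
  rcases hσ with rfl | rfl | rfl | rfl
  · rw [one_mul, mul_one]; exact he
  · rw [r_conj]; exact PairAlt.mem_Emap.2 ⟨_, _, hr a ha, hr b hb, rfl⟩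
  · rw [t_conj]; exact PairAlt.mem_Emap.2 ⟨_, _, hb, ha, rfl⟩
  · rw [rt_conj]; exact PairAlt.mem_Emap.2 ⟨_, _, hr b hb, hr a ha, rfl⟩

theorem E_le_N : L.E hQ hcr ≤ L.N := by
  intro e he
  obtain ⟨a, b, -, -, rfl⟩ := PairAlt.mem_Emap.1 he
  exact ψ_mem_N L hQ hcr _

/-- A subgroup of `⟨r, t⟩` extends `E`. -/
theorem card_E_sup {K : Subgroup G} (hK : K ≤ L.K4) :
    Nat.card (L.E hQ hcr ⊔ K : Subgroup G) = 16 * Nat.card K := by
  rw [card_sup_of_normalizes (hK.trans (K4_le_normalizer_E L hQ hcr)) fun x hx hxK =>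
    eq_one_of_K_mem_N L hQ hcr (hK hxK) (E_le_N L hQ hcr hx), card_E]

theorem exists_rep_E {K : Subgroup G} (hK : K ≤ L.K4) {x : G} (hx : x ∈ L.E hQ hcr ⊔ K) :
    ∃ (a b : A5) (σ : G), a ∈ aV ∧ b ∈ aV ∧ σ ∈ K ∧ x = L.ψ hQ hcr (a, b) * σ := by
  obtain ⟨e, he, σ, hσ, rfl⟩ :=
    mem_sup_of_normalizes (hK.trans (K4_le_normalizer_E L hQ hcr)) hx
  obtain ⟨a, b, ha, hb, rfl⟩ := PairAlt.mem_Emap.1 he
  exact ⟨a, b, σ, ha, hb, hσ, rfl⟩

/-- The Sylow 2-subgroup. -/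
noncomputable def S0 : Subgroup G := L.E hQ hcr ⊔ L.K4

theorem card_S0 : Nat.card (L.S0 hQ hcr) = 64 := by
  rw [S0, card_E_sup L hQ hcr le_rfl, card_K4 L hQ hcr]

theorem S0_le_cent : L.S0 hQ hcr ≤ centralizer ({L.w0 hQ hcr} : Set G) := by
  refine sup_le (fun e he => ?_) (fun σ hσ => ?_)
  · obtain ⟨a, b, ha, hb, rfl⟩ := PairAlt.mem_Emap.1 he
    rw [mem_centralizer_singleton_iff, w0, ← map_mul, ← map_mul, Prod.mk_mul_mk, Prod.mk_mul_mk,
      PairAlt.comm_of_mem ha PairAlt.av_mem, PairAlt.comm_of_mem hb PairAlt.av_mem]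
  · have : σ * L.w0 hQ hcr * σ = L.w0 hQ hcr := by
      rcases hσ with rfl | rfl | rfl | rfl
      · simp
      · rw [w0, r_conj, rho_av]
      · rw [w0, t_conj]
      · rw [w0, rt_conj, rho_av]
    rw [mem_centralizer_singleton_iff]
    calc σ * L.w0 hQ hcr = σ * L.w0 hQ hcr * (σ * σ) := by rw [L.isK_sq hσ, mul_one]
      _ = _ := by rw [← mul_assoc, this]

theorem card_cent_r : Nat.card (centralizer ({L.r} : Set G)) = 144 := by
  rw [hcr]; exact L.card_norm_D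

theorem not_isR_w0 : ¬ L.IsR (L.w0 hQ hcr) := by
  rintro ⟨g, hg⟩
  have h := card_dvd_of_le (S0_le_cent L hQ hcr)
  rw [card_S0, ← hg, L.card_centralizer_conj, card_cent_r L hQ hcr] at h
  norm_num at h

theorem conj_left {a : A5} (h2 : a * a = 1) (h1 : a ≠ 1) :
    ∃ g : A5, L.ψ hQ hcr (g, 1) * L.ψ hQ hcr (av, 1) * (L.ψ hQ hcr (g, 1))⁻¹ =
      L.ψ hQ hcr (a, 1) := by
  obtain ⟨g, hg⟩ := (PairAlt.invol_conj a h2).resolve_left h1
  exact ⟨g, by rw [← map_inv, ← map_mul, ← map_mul]; simp [hg]⟩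

theorem conj_double {a b : A5} (ha : a * a = 1) (ha1 : a ≠ 1) (hb : b * b = 1) (hb1 : b ≠ 1) :
    ∃ p : A5 × A5, L.ψ hQ hcr p * L.w0 hQ hcr * (L.ψ hQ hcr p)⁻¹ = L.ψ hQ hcr (a, b) := by
  obtain ⟨g, hg⟩ := (PairAlt.invol_conj a ha).resolve_left ha1
  obtain ⟨g', hg'⟩ := (PairAlt.invol_conj b hb).resolve_left hb1
  exact ⟨(g, g'), by rw [w0, ← map_inv, ← map_mul, ← map_mul]; simp [hg, hg']⟩

theorem t_commute_zw : Commute L.t (L.z * L.w) := by
  show _ = _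
  have : L.t * (L.z * L.w) * L.t = L.z * L.w := by
    rw [← L.conj_t_mul, L.t_z, L.t_w, L.zw_comm]
  calc L.t * (L.z * L.w) = L.t * (L.z * L.w) * (L.t * L.t) := by rw [L.t_sq, mul_one]
    _ = _ := by rw [← mul_assoc, this]

theorem rt_commute_zw : Commute (L.r * L.t) (L.z * L.w) :=
  ((show Commute L.r L.z from L.r_z).mul_right L.r_w).mul_left (t_commute_zw L hQ hcr)

/-- The conjugates of `r` in `H` lie in the coset of `r` and are conjugate to it there. -/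
theorem fusion {p : A5 × A5} {σ : G} (hσ : L.IsK σ) (hx : L.IsR (L.ψ hQ hcr p * σ)) :
    σ = L.r ∧ ∃ g, L.ψ hQ hcr g * L.r * (L.ψ hQ hcr g)⁻¹ = L.ψ hQ hcr p * σ := by
  obtain ⟨a, b⟩ := p
  have hsq := L.isR_sq hx
  rw [show L.ψ hQ hcr (a, b) * σ * (L.ψ hQ hcr (a, b) * σ) =
    L.ψ hQ hcr (a, b) * (σ * L.ψ hQ hcr (a, b) * σ) by group] at hsq
  have hinj := L.ψ_injective hQ hcr
  rcases hσ with rfl | rfl | rfl | rfl
  · exfalso
    rw [mul_one] at hx
    rw [one_mul, mul_one, ← map_mul] at hsq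
    have h2 : (a * a, b * b) = 1 := hinj (by rw [map_one, ← hsq]; rfl)
    have key : ∀ a : A5, a ≠ 1 → ¬ L.IsR (L.ψ hQ hcr (a, 1)) := by
      intro a ha hR
      rw [ψ_left] at hR
      obtain ⟨i, j, hij, e⟩ := (L.isR_phi (p := (1, (a : Perm (Fin 5))))
        (Prod.ext (by simp [mz]) (by simp [mz]))).1 hR
      have := Perm.mem_alternatingGroup.1 a.2
      rw [show (a : Perm (Fin 5)) = swap i j from congrArg Prod.snd e, Perm.sign_swap hij] at this
      exact absurd this (by decide)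
    by_cases ha : a = 1
    · subst ha
      by_cases hb : b = 1
      · subst hb; exact L.isR_ne hx (map_one _)
      · rw [← t_conj L hQ hcr b 1, L.isR_t_iff] at hx
        exact key b hb hx
    · by_cases hb : b = 1
      · subst hb; exact key a ha hx
      · obtain ⟨q, hq⟩ := conj_double L hQ hcr (congrArg Prod.fst h2) ha (congrArg Prod.snd h2) hb
        rw [← hq, L.isR_conj_iff] at hx
        exact not_isR_w0 L hQ hcr hx
  · refine ⟨rfl, ?_⟩
    rw [r_conj, ← map_mul] at hsq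
    have h2 : (a * rho a, b * rho b) = 1 := hinj (by rw [map_one, ← hsq]; rfl)
    obtain ⟨g, hg⟩ := rho_fixed_conj a (congrArg Prod.fst h2)
    obtain ⟨g', hg'⟩ := rho_fixed_conj b (congrArg Prod.snd h2)
    refine ⟨(g, g'), ?_⟩
    have e : L.r * (L.ψ hQ hcr (g, g'))⁻¹ = L.ψ hQ hcr (rho g⁻¹, rho g'⁻¹) * L.r := by
      rw [← r_conj L hQ hcr g⁻¹ g'⁻¹, mul_assoc, L.r_sq, mul_one, ← map_inv]
      rfl
    rw [mul_assoc, e, ← mul_assoc, ← map_mul, Prod.mk_mul_mk, hg, hg']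
  · exfalso
    rw [t_conj, ← map_mul] at hsq
    have h2 : a * b = 1 := congrArg Prod.fst (show (a * b, b * a) = 1 from
      hinj (by rw [map_one, ← hsq]; rfl))
    have hb : b = a⁻¹ := eq_inv_of_mul_eq_one_right h2
    have e : L.ψ hQ hcr (a, b) * L.t = L.ψ hQ hcr (a, 1) * L.t * (L.ψ hQ hcr (a, 1))⁻¹ := by
      rw [hb, ← map_inv, show ((a, 1) : A5 × A5)⁻¹ = (a⁻¹, 1) by simp,
        ψ_mul L hQ hcr a a⁻¹, ← t_conj L hQ hcr a⁻¹ 1]
      rw [show L.ψ hQ hcr (a, 1) * (L.t * L.ψ hQ hcr (a⁻¹, 1) * L.t) * L.t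
        = L.ψ hQ hcr (a, 1) * L.t * L.ψ hQ hcr (a⁻¹, 1) * (L.t * L.t) by group, L.t_sq, mul_one]
    rw [e, L.isR_conj_iff] at hx
    exact t_ne_r L hQ hcr (L.eq_r_of_commute_zw hx (t_commute_zw L hQ hcr))
  · exfalso
    rw [rt_conj, ← map_mul] at hsq
    have h2 : a * rho b = 1 := congrArg Prod.fst (show (a * rho b, b * rho a) = 1 from
      hinj (by rw [map_one, ← hsq]; rfl))
    have hb : b = rho a⁻¹ := by
      rw [← rho_rho b, eq_inv_of_mul_eq_one_right h2]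
    have e : L.ψ hQ hcr (a, b) * (L.r * L.t) =
        L.ψ hQ hcr (a, 1) * (L.r * L.t) * (L.ψ hQ hcr (a, 1))⁻¹ := by
      rw [hb, ← map_inv, show ((a, 1) : A5 × A5)⁻¹ = (a⁻¹, 1) by simp,
        ψ_mul L hQ hcr a (rho a⁻¹)]
      have h3 := rt_conj L hQ hcr a⁻¹ 1
      rw [show rho (1 : A5) = 1 by decide] at h3
      rw [← h3, show L.ψ hQ hcr (a, 1) * (L.r * L.t * L.ψ hQ hcr (a⁻¹, 1) * (L.r * L.t)) *
          (L.r * L.t)
        = L.ψ hQ hcr (a, 1) * (L.r * L.t) * L.ψ hQ hcr (a⁻¹, 1) * (L.r * L.t * (L.r * L.t)) by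
          group, L.rt_sq, mul_one]
    rw [e, L.isR_conj_iff] at hx
    exact rt_ne_r L hQ hcr (L.eq_r_of_commute_zw hx (rt_commute_zw L hQ hcr))

theorem not_dvd_index_H : ¬ 2 ∣ L.H.index := by
  haveI : Fact (Nat.Prime 2) := ⟨Nat.prime_two⟩
  have hp : IsPGroup 2 (zpowers L.r) := IsPGroup.of_card (n := 1) (by
    rw [Nat.card_zpowers, pow_one]
    exact orderOf_eq_prime (by rw [pow_two]; exact L.r_sq) L.r_ne)
  have hfix : MulAction.fixedPoints (zpowers L.r) (G ⧸ L.H) = {((1 : G) : G ⧸ L.H)} := by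
    ext q
    obtain ⟨g, rfl⟩ := QuotientGroup.mk_surjective q
    rw [Set.mem_singleton_iff, MulAction.mem_fixedPoints, QuotientGroup.eq, mul_one, inv_mem_iff]
    constructor
    · intro h
      have h1 : ((L.r * g : G) : G ⧸ L.H) = (g : G ⧸ L.H) := h ⟨L.r, mem_zpowers _⟩
      rw [QuotientGroup.eq] at h1
      have h2 : g⁻¹ * L.r * g ∈ L.H := by
        have := L.H.inv_mem h1
        simpa [mul_assoc] using this
      obtain ⟨p, σ, hσ, e⟩ := exists_rep L hQ hcr h2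
      have hxR : L.IsR (g⁻¹ * L.r * g) := ⟨g⁻¹, by group⟩
      rw [e] at hxR
      obtain ⟨-, q, hq⟩ := fusion L hQ hcr hσ hxR
      rw [← e] at hq
      have hc : (L.ψ hQ hcr q)⁻¹ * g⁻¹ ∈ centralizer ({L.r} : Set G) := by
        rw [mem_centralizer_singleton_iff]
        calc (L.ψ hQ hcr q)⁻¹ * g⁻¹ * L.r
            = (L.ψ hQ hcr q)⁻¹ * (g⁻¹ * L.r * g) * g⁻¹ := by group
          _ = _ := by rw [← hq]; group
      rw [hcr] at hc
      have := L.H.mul_mem (L.N_le_H (ψ_mem_N L hQ hcr q)) (L.norm_D_le_H hQ hc)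
      rw [mul_inv_cancel_left, inv_mem_iff] at this
      exact this
    · rintro h ⟨k, hk⟩
      obtain ⟨n, rfl⟩ := mem_zpowers_iff.1 hk
      show ((L.r ^ n * g : G) : G ⧸ L.H) = _
      rw [QuotientGroup.eq]
      exact mul_mem (inv_mem (mul_mem (zpow_mem L.r_mem_H n) h)) h
  have h := hp.card_modEq_card_fixedPoints (G ⧸ L.H)
  rw [hfix, Nat.card_coe_set_eq, Set.ncard_singleton] at h
  intro hd
  rw [Subgroup.index] at hd
  have := (Nat.modEq_zero_iff_dvd.2 hd).symm.trans h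
  exact absurd this (by decide)

theorem card_G : Nat.card G = 14400 * L.H.index := by
  rw [← L.H.card_mul_index, L.card_H hQ hcr]

theorem not_dvd_index_S0 : ¬ 2 ∣ (L.S0 hQ hcr).index := by
  intro hd
  apply not_dvd_index_H L hQ hcr
  have h := (L.S0 hQ hcr).card_mul_index
  rw [card_S0, card_G L hQ hcr] at h
  omega

theorem orbit_z {k : G} (hk : k ∈ normalizer (L.D : Set G)) :
    k * L.z * k⁻¹ = L.z ∨ k * L.z * k⁻¹ = L.z⁻¹ ∨ k * L.z * k⁻¹ = L.w ∨
      k * L.z * k⁻¹ = L.w⁻¹ := by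
  obtain ⟨a, b, e⟩ := L.exists_pow_of_mem_D ((mem_normalizer_iff.1 hk L.z).1 L.z_mem)
  have hne : k * L.z * k⁻¹ ≠ 1 := fun h => L.z_ne (by
    calc L.z = k⁻¹ * (k * L.z * k⁻¹) * k := by group
      _ = 1 := by rw [h]; group)
  have h36 : ∀ x : G, Nat.card (centralizer ({x} : Set G)) = 36 → k * L.z * k⁻¹ ≠ x ∧
      k * L.z * k⁻¹ ≠ x⁻¹ := by
    intro x hx
    have hinv : (centralizer ({x⁻¹} : Set G)) = centralizer ({x} : Set G) := by
      ext y
      simp only [mem_centralizer_singleton_iff]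
      exact ⟨fun h => by simpa using (show Commute y x⁻¹ from h).inv_right.eq,
        fun h => (show Commute y x from h).inv_right.eq⟩
    have h5 := L.five_dvd_cent_z
    rw [← L.card_centralizer_conj k] at h5
    constructor <;> intro h <;> rw [h] at h5 <;> [skip; rw [hinv] at h5] <;> rw [hx] at h5 <;>
      norm_num at h5
  have hz2 : L.z ^ 2 = L.z⁻¹ := eq_inv_of_mul_eq_one_left (by rw [← pow_succ]; exact L.z_cube)
  have hw2 : L.w ^ 2 = L.w⁻¹ := eq_inv_of_mul_eq_one_left (by rw [← pow_succ]; exact L.w_cube)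
  have hc : Commute L.z L.w := L.zw_comm
  fin_cases a <;> fin_cases b <;> simp only [pow_zero, one_mul, mul_one, pow_one] at e
  · exact absurd e.symm hne
  · exact Or.inr (Or.inr (Or.inl e.symm))
  · exact Or.inr (Or.inr (Or.inr (e.symm.trans hw2)))
  · exact Or.inl e.symm
  · exact absurd e.symm (h36 _ L.card_zw).1
  · exact absurd (by rw [← e, hw2]; rfl) (h36 _ L.card_zw').1
  · exact Or.inr (Or.inl (e.symm.trans hz2))
  · refine absurd ?_ (h36 _ L.card_zw').2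
    rw [← e, hz2]
    show L.z⁻¹ * L.w = (L.z * L.w⁻¹)⁻¹
    rw [mul_inv_rev, inv_inv, hc.inv_left.eq]
  · refine absurd ?_ (h36 _ L.card_zw).2
    rw [← e, hz2, hw2]
    show L.z⁻¹ * L.w⁻¹ = (L.z * L.w)⁻¹
    rw [mul_inv_rev, hc.inv_inv.eq]

/-- An element of `C(r)` conjugate to the mixed involution is conjugate to it in `N(D)`. -/
theorem conj_w0 {x : G} (hxr : Commute x L.r) (hx : IsConj x (L.w0 hQ hcr)) :
    ∃ k ∈ normalizer (L.D : Set G), k * x * k⁻¹ = L.w0 hQ hcr := by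
  haveI : Fact (Nat.Prime 2) := ⟨Nat.prime_two⟩
  obtain ⟨g, hg⟩ := isConj_iff.1 hx
  set C := centralizer ({x} : Set G) with hC
  set S' := (L.S0 hQ hcr).map (MulAut.conj g⁻¹).toMonoidHom with hS'
  have hS'C : S' ≤ C := by
    rintro _ ⟨s, hs, rfl⟩
    rw [hC, mem_centralizer_singleton_iff]
    have h := mem_centralizer_singleton_iff.1 (S0_le_cent L hQ hcr hs)
    show g⁻¹ * s * g⁻¹⁻¹ * x = x * (g⁻¹ * s * g⁻¹⁻¹)
    calc g⁻¹ * s * g⁻¹⁻¹ * x = g⁻¹ * (s * (g * x * g⁻¹)) * g := by group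
      _ = g⁻¹ * (g * x * g⁻¹ * s) * g := by rw [hg, h]
      _ = _ := by group
  have hcard : Nat.card S' = 64 := by
    rw [hS', card_map_of_injective (MulAut.conj g⁻¹).injective, card_S0]
  have hi : ¬ 2 ∣ (S'.subgroupOf C).index := by
    intro hd
    have h1 : 2 ∣ S'.index := hd.trans (relIndex_dvd_index_of_le hS'C)
    have e1 := S'.card_mul_index
    have e2 := (L.S0 hQ hcr).card_mul_index
    rw [hcard] at e1; rw [card_S0] at e2
    exact not_dvd_index_S0 L hQ hcr (by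
      rwa [show (L.S0 hQ hcr).index = S'.index by omega])
  have hp : IsPGroup 2 (S'.subgroupOf C) := IsPGroup.of_card (n := 6) (by
    rw [Nat.card_congr (subgroupOfEquivOfLe hS'C).toEquiv, hcard]; rfl)
  have hrC : L.r ∈ C := mem_centralizer_singleton_iff.2 hxr.eq.symm
  have hp1 : IsPGroup 2 (zpowers (⟨L.r, hrC⟩ : C)) := IsPGroup.of_card (n := 1) (by
    rw [Nat.card_zpowers, pow_one, Subgroup.orderOf_mk]
    exact orderOf_eq_prime (by rw [pow_two]; exact L.r_sq) L.r_ne)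
  obtain ⟨P, hP⟩ := hp1.exists_le_sylow
  obtain ⟨c, hc⟩ := MulAction.exists_smul_eq C P (hp.toSylow hi)
  have h1 : c * ⟨L.r, hrC⟩ * c⁻¹ ∈ S'.subgroupOf C := by
    show _ ∈ ((hp.toSylow hi : Sylow 2 C) : Subgroup C)
    rw [← hc]
    exact smul_mem_pointwise_smul _ (MulAut.conj c) (P : Subgroup C) (hP (mem_zpowers _))
  obtain ⟨s, hs, hse⟩ := mem_subgroupOf.1 h1
  have hse' : g⁻¹ * s * g⁻¹⁻¹ = (c : G) * L.r * (c : G)⁻¹ := hse
  obtain ⟨a, b, σ, ha, hb, hσ, e⟩ := exists_rep_E L hQ hcr le_rfl hs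
  have hR : L.IsR s := ⟨g * c, by
    rw [show s = g * (g⁻¹ * s * g⁻¹⁻¹) * g⁻¹ by group, hse']; group⟩
  obtain ⟨hσr, -⟩ := fusion L hQ hcr hσ (e ▸ hR)
  subst hσr
  have hsq := L.isR_sq hR
  rw [e, show L.ψ hQ hcr (a, b) * L.r * (L.ψ hQ hcr (a, b) * L.r) =
    L.ψ hQ hcr (a, b) * (L.r * L.ψ hQ hcr (a, b) * L.r) by group, r_conj, ← map_mul] at hsq
  have h2 : (a * rho a, b * rho b) = 1 := L.ψ_injective hQ hcr (by rw [map_one, ← hsq]; rfl)
  obtain ⟨u, hu, hue⟩ := rho_fixed_conj_aV a (mem_aV.1 ha) (congrArg Prod.fst h2)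
  obtain ⟨u', hu', hue'⟩ := rho_fixed_conj_aV b (mem_aV.1 hb) (congrArg Prod.snd h2)
  set v := L.ψ hQ hcr (u, u') with hv
  have hsv : v * L.r * v⁻¹ = s := by
    have e2 : L.r * (L.ψ hQ hcr (u, u'))⁻¹ = L.ψ hQ hcr (rho u⁻¹, rho u'⁻¹) * L.r := by
      rw [← r_conj L hQ hcr u⁻¹ u'⁻¹, mul_assoc, L.r_sq, mul_one, ← map_inv]
      rfl
    rw [e, hv, mul_assoc, e2, ← mul_assoc, ← map_mul, Prod.mk_mul_mk, hue, hue']
  have hvw : v * L.w0 hQ hcr = L.w0 hQ hcr * v := by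
    rw [hv, w0, ← map_mul, ← map_mul, Prod.mk_mul_mk, Prod.mk_mul_mk, hu, hu']
  refine ⟨v⁻¹ * g * c, ?_, ?_⟩
  · rw [← hcr, mem_centralizer_singleton_iff]
    calc v⁻¹ * g * c * L.r = v⁻¹ * (g * (c * L.r * (c : G)⁻¹) * g⁻¹) * g * c := by group
      _ = v⁻¹ * s * g * c := by rw [← hse']; group
      _ = _ := by rw [← hsv]; group
  · have hcx : (c : G) * x * (c : G)⁻¹ = x := by
      rw [mem_centralizer_singleton_iff.1 c.2, mul_inv_cancel_right]
    calc v⁻¹ * g * c * x * (v⁻¹ * g * c)⁻¹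
        = v⁻¹ * (g * ((c : G) * x * (c : G)⁻¹) * g⁻¹) * v := by group
      _ = v⁻¹ * L.w0 hQ hcr * v := by rw [hcx, hg]
      _ = _ := by rw [mul_assoc, ← hvw, inv_mul_cancel_left]

theorem not_commute_w0_z : ¬ Commute (L.w0 hQ hcr) L.z := by
  intro h
  have h' : L.w0 hQ hcr * L.z = L.z * L.w0 hQ hcr := h
  rw [w0, ← ψ_ac_right L hQ hcr, ← map_mul, ← map_mul] at h'
  exact absurd (congrArg Prod.snd (L.ψ_injective hQ hcr h')) (by decide)

theorem not_commute_w0_w : ¬ Commute (L.w0 hQ hcr) L.w := by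
  intro h
  have h' : L.w0 hQ hcr * L.w = L.w * L.w0 hQ hcr := h
  rw [w0, ← ψ_ac_left L hQ hcr, ← map_mul, ← map_mul] at h'
  exact absurd (congrArg Prod.fst (L.ψ_injective hQ hcr h')) (by decide)

/-- Unmixed involutions are not conjugate to mixed ones. -/
theorem not_conj_left_w0 : ¬ IsConj (L.ψ hQ hcr (av, 1)) (L.w0 hQ hcr) := by
  intro h
  obtain ⟨k, hk, hke⟩ := conj_w0 L hQ hcr (by
    show _ = _
    rw [ψ_av_left, r, ← map_mul, ← map_mul, show mjEven * mr = mr * mjEven by decide]) h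
  have hcz : Commute (L.ψ hQ hcr (av, 1)) L.z := by
    show _ = _
    rw [← ψ_ac_right L hQ hcr, ← map_mul, ← map_mul]; simp
  have hd : Commute (L.w0 hQ hcr) (k * L.z * k⁻¹) := by
    rw [← hke]
    exact (Commute.conj_iff k).2 hcz
  rcases orbit_z L hQ hcr hk with e | e | e | e <;> rw [e] at hd
  · exact not_commute_w0_z L hQ hcr hd
  · exact not_commute_w0_z L hQ hcr (by simpa using hd.inv_right)
  · exact not_commute_w0_w L hQ hcr hd
  · exact not_commute_w0_w L hQ hcr (by simpa using hd.inv_right)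

theorem not_conj_right_w0 : ¬ IsConj (L.ψ hQ hcr (1, av)) (L.w0 hQ hcr) := by
  intro h
  refine not_conj_left_w0 L hQ hcr (IsConj.trans ?_ h)
  exact isConj_iff.2 ⟨L.t, by rw [L.t_inv, t_conj]⟩

theorem inverts_w0 {d : G} (hd : d = L.z ∨ d = L.z⁻¹ ∨ d = L.w ∨ d = L.w⁻¹) :
    L.w0 hQ hcr * d * (L.w0 hQ hcr)⁻¹ = d⁻¹ := by
  have hz : L.w0 hQ hcr * L.z * (L.w0 hQ hcr)⁻¹ = L.z⁻¹ := by
    rw [w0, ← ψ_ac_right L hQ hcr, ← map_inv, ← map_inv, ← map_mul, ← map_mul]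
    exact congrArg _ (Prod.ext (by decide) (by decide))
  have hw : L.w0 hQ hcr * L.w * (L.w0 hQ hcr)⁻¹ = L.w⁻¹ := by
    rw [w0, ← ψ_ac_left L hQ hcr, ← map_inv, ← map_inv, ← map_mul, ← map_mul]
    exact congrArg _ (Prod.ext (by decide) (by decide))
  rcases hd with rfl | rfl | rfl | rfl
  · exact hz
  · rw [← conj_inv, hz]
  · exact hw
  · rw [← conj_inv, hw]

/-- An involution interchanging `z` and `w` is not conjugate to a mixed involution. -/
theorem not_conj_swap_w0 {σ : G} (hr : Commute σ L.r) (hz : σ * L.z * σ⁻¹ = L.w) :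
    ¬ IsConj σ (L.w0 hQ hcr) := by
  intro h
  obtain ⟨k, hk, hke⟩ := conj_w0 L hQ hcr hr h
  have h1 : k * L.w * k⁻¹ = (k * L.z * k⁻¹)⁻¹ := by
    rw [← inverts_w0 L hQ hcr (orbit_z L hQ hcr hk), ← hke, ← hz]
    group
  have h2 : L.w = L.z⁻¹ := by
    calc L.w = k⁻¹ * (k * L.w * k⁻¹) * k := by group
      _ = L.z⁻¹ := by rw [h1]; group
  rw [w, z, ← map_inv] at h2
  exact absurd (L.φ_inj h2) (by decide)

/-- An involution centralizing `zw` is not conjugate to an unmixed involution. -/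
theorem not_conj_left {σ : G} (hy : Commute σ (L.z * L.w)) :
    ¬ IsConj σ (L.ψ hQ hcr (av, 1)) := by
  intro h
  obtain ⟨g, hg⟩ := isConj_iff.1 h
  have h1 : L.ψ hQ hcr (av, 1) ≠ 1 := fun e =>
    PairAlt.av_ne (congrArg Prod.fst (L.ψ_injective hQ hcr (e.trans (map_one _).symm)))
  have h2 : L.ψ hQ hcr (av, 1) * L.ψ hQ hcr (av, 1) = 1 := by
    rw [← map_mul]; simp [PairAlt.sq_of_mem PairAlt.av_mem]
    exact map_one _
  have hR := L.isR_of_commute_both h2 h1 (g := 1) (h := g)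
    (by
      rw [one_mul, inv_one, mul_one]
      show _ = _
      rw [← ψ_ac_right L hQ hcr, ← map_mul, ← map_mul]; simp)
    (by rw [← hg]; exact (Commute.conj_iff g).2 hy)
  rw [ψ_av_left] at hR
  exact L.not_isR_double hR

end Datum

end CfsgLib.SymEightThreeLocal
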