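import Cfsg.Agent.Lib.SymEightThreeLocal.LocalModel

/-!
The data from the hypotheses of the 3-local characterisation of `S₈`.
-/

set_option autoImplicit false
set_option linter.unusedSectionVars false

namespace CfsgLib.SymEightThreeLocal

open Subgroup Equiv

universe u

variable {G : Type u} [Group G]

/-- Precomposing with an inner automorphism of the model. -/
def reframe (φ : M →* G) (c : M) : M →* G := φ.comp (MulAut.conj c).toMonoidHom

theorem reframe_apply (φ : M →* G) (c p : M) : reframe φ c p = φ (c * p * c⁻¹) := rfl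

theorem reframe_inj {φ : M →* G} (h : Function.Injective φ) (c : M) :
    Function.Injective (reframe φ c) := h.comp (MulAut.conj c).injective

theorem reframe_range (φ : M →* G) (c : M) : (reframe φ c).range = φ.range := by
  rw [reframe, MonoidHom.range_comp,
    MonoidHom.range_eq_top.mpr (MulAut.conj c).surjective, ← MonoidHom.range_eq_map]

theorem cent_inv (a : G) : centralizer ({a⁻¹} : Set G) = centralizer ({a} : Set G) := by
  ext g
  simp only [mem_centralizer_singleton_iff]
  refine ⟨fun h => ?_, fun h => (show Commute g a from h).inv_right.eq⟩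
  simpa using (show Commute g a⁻¹ from h).inv_right.eq

theorem card_cent_conj (g a : G) :
    Nat.card (centralizer ({g * a * g⁻¹} : Set G)) = Nat.card (centralizer ({a} : Set G)) := by
  refine Nat.card_congr
    { toFun := fun x => ⟨g⁻¹ * x.1 * g, ?_⟩
      invFun := fun x => ⟨g * x.1 * g⁻¹, ?_⟩
      left_inv := fun x => Subtype.ext (by simp [mul_assoc])
      right_inv := fun x => Subtype.ext (by simp [mul_assoc]) }
  · have h := mem_centralizer_singleton_iff.mp x.2
    rw [mem_centralizer_singleton_iff]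
    calc g⁻¹ * x.1 * g * a = g⁻¹ * (x.1 * (g * a * g⁻¹)) * g := by group
      _ = _ := by rw [h]; group
  · have h := mem_centralizer_singleton_iff.mp x.2
    rw [mem_centralizer_singleton_iff]
    calc g * x.1 * g⁻¹ * (g * a * g⁻¹) = g * (x.1 * a) * g⁻¹ := by group
      _ = _ := by rw [h]; group

/-- A model of `N(⟨z⟩)` sending `mz` to `z`. -/
theorem exists_frame_z [Finite G] (z : G) (hz3 : z ^ 3 = 1) (hz1 : z ≠ 1)
    (eL : normalizer (zpowers z : Set G) ≃* M) :
    ∃ φ : M →* G, Function.Injective φ ∧ φ.range = normalizer (zpowers z : Set G) ∧ φ mz = z := by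
  set N := normalizer (zpowers z : Set G)
  have hzN : z ∈ N := le_normalizer (mem_zpowers z)
  let φ₀ : M →* G := N.subtype.comp eL.symm.toMonoidHom
  have hinj : Function.Injective φ₀ := N.subtype_injective.comp eL.symm.injective
  have hrange : φ₀.range = N := by
    rw [MonoidHom.range_comp, MonoidHom.range_eq_top.mpr eL.symm.surjective,
      ← MonoidHom.range_eq_map, range_subtype]
  set p := eL ⟨z, hzN⟩ with hp
  have hpz : φ₀ p = z := by simp [φ₀, hp]
  have hmem : ∀ g : M, g * p * g⁻¹ = p ∨ g * p * g⁻¹ = p⁻¹ := by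
    intro g
    have hgN : φ₀ g ∈ N := (eL.symm g).2
    have h : φ₀ (g * p * g⁻¹) ∈ zpowers z := by
      rw [map_mul, map_mul, map_inv, hpz]
      exact (mem_normalizer_iff.mp hgN z).mp (mem_zpowers z)
    obtain ⟨n, hn⟩ := mem_zpowers_iff.mp h
    have ho : orderOf z = 3 := orderOf_eq_prime (hp := ⟨Nat.prime_three⟩) hz3 hz1
    rw [← zpow_mod_orderOf, ho] at hn
    have h0 := Int.emod_nonneg n (show ((3 : ℕ) : ℤ) ≠ 0 by norm_num)
    have h3 := Int.emod_lt_of_pos n (show (0 : ℤ) < ((3 : ℕ) : ℤ) by norm_num)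
    rcases (show n % ((3 : ℕ) : ℤ) = 0 ∨ n % ((3 : ℕ) : ℤ) = 1 ∨ n % ((3 : ℕ) : ℤ) = 2 by omega) with
      e | e | e <;> rw [e] at hn
    · exfalso
      refine hz1 ?_
      have h4 : g * p * g⁻¹ = 1 := hinj (by rw [map_one, ← hn, zpow_zero])
      rw [conj_eq_one_iff] at h4
      rw [← hpz, h4, map_one]
    · exact Or.inl (hinj (by rw [← hn, zpow_one, hpz]))
    · refine Or.inr (hinj ?_)
      rw [← hn, map_inv, hpz]
      refine eq_inv_of_mul_eq_one_left ?_
      rw [← zpow_add_one, show (2 : ℤ) + 1 = (3 : ℕ) from rfl, zpow_natCast, hz3]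
  have hp3 : p ^ 3 = 1 := hinj (by rw [map_pow, hpz, hz3, map_one])
  have hp1 : p ≠ 1 := fun e => hz1 (by rw [← hpz, e, map_one])
  rcases mz_unique p hp3 hp1 (fun g _ => hmem g) with e | e
  · exact ⟨φ₀, hinj, hrange, by rw [← e, hpz]⟩
  · refine ⟨reframe φ₀ mi, reframe_inj hinj _, by rw [reframe_range, hrange], ?_⟩
    rw [reframe_apply, mi_conj_mz, ← e, hpz]

/-- A model sending also `mz ^ a * mw` to `y`. -/
theorem exists_frame [Finite G] (D : Subgroup G) (y z : G) (hgen : closure {y, z} = D)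
    (hcard : Nat.card D = 9) (hcomm : ∀ a ∈ D, ∀ b ∈ D, a * b = b * a) (hexp : ∀ a ∈ D, a ^ 3 = 1)
    (hz1 : z ≠ 1) (eL : normalizer (zpowers z : Set G) ≃* M) :
    ∃ φ : M →* G, Function.Injective φ ∧ φ.range = normalizer (zpowers z : Set G) ∧ φ mz = z ∧
      D = closure {φ mz, φ mw} ∧ ∃ a : Fin 3, φ (mz ^ a.val * mw) = y := by
  have hzD : z ∈ D := hgen ▸ Subgroup.subset_closure (Or.inr rfl)
  have hyD : y ∈ D := hgen ▸ Subgroup.subset_closure (Or.inl rfl)
  obtain ⟨φ, hinj, hrange, hφz⟩ := exists_frame_z z (hexp z hzD) hz1 eL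
  have hyz : y * z = z * y := hcomm y hyD z hzD
  have hyN : y ∈ φ.range := by
    rw [hrange]
    refine centralizer_le_normalizer _ (mem_centralizer_iff.mpr ?_)
    intro x hx
    obtain ⟨n, rfl⟩ := mem_zpowers_iff.mp hx
    exact ((show Commute y z from hyz).zpow_right n).symm.eq
  obtain ⟨p, hp⟩ := hyN
  have hpz : p * mz = mz * p := hinj (by rw [map_mul, map_mul, hp, hφz, hyz])
  have hp3 : p ^ 3 = 1 := hinj (by rw [map_pow, hp, hexp y hyD, map_one])
  have hny : y ∉ zpowers z := by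
    intro h
    have hle : D ≤ zpowers z := by
      rw [← hgen, closure_le]
      rintro x (rfl | rfl)
      exacts [h, mem_zpowers _]
    have := card_dvd_of_le hle
    rw [hcard, Nat.card_zpowers, orderOf_eq_prime (hp := ⟨Nat.prime_three⟩) (hexp z hzD) hz1] at this
    norm_num at this
  have hp1 : p ≠ 1 := fun e => hny (by rw [← hp, e, map_one]; exact one_mem _)
  have hp2 : p ≠ mz := fun e => hny (by rw [← hp, e, hφz]; exact mem_zpowers z)
  have hp4 : p ≠ mz⁻¹ := fun e => hny (by rw [← hp, e, map_inv, hφz]; exact inv_mem (mem_zpowers z))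
  obtain ⟨σ, a, hσ⟩ := normalise_w p hpz hp3 hp1 hp2 hp4
  refine ⟨reframe φ (1, σ)⁻¹, reframe_inj hinj _, by rw [reframe_range, hrange], ?_, ?_, a, ?_⟩
  · rw [reframe_apply]
    conv_lhs => rw [← one_conj_mz σ]
    rw [← hφz]; congr 1; group
  · have hz' : reframe φ ((1, σ) : M)⁻¹ mz = z := by
      rw [reframe_apply]
      conv_lhs => rw [← one_conj_mz σ]
      rw [← hφz]; congr 1; group
    have hy' : reframe φ ((1, σ) : M)⁻¹ (mz ^ a.val * mw) = y := by
      rw [reframe_apply, ← hσ, ← hp]; congr 1; group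
    rw [hz', ← hgen]
    rw [map_mul, map_pow, hz'] at hy'
    set w := reframe φ ((1, σ) : M)⁻¹ mw
    refine le_antisymm ((closure_le _).mpr ?_) ((closure_le _).mpr ?_)
    · rintro x (rfl | rfl)
      · rw [← hy']
        refine mul_mem (pow_mem ?_ _) ?_ <;> exact Subgroup.subset_closure (by simp)
      · exact Subgroup.subset_closure (Or.inl rfl)
    · rintro x (rfl | rfl)
      · exact Subgroup.subset_closure (Or.inr rfl)
      · rw [show w = (z ^ a.val)⁻¹ * y by rw [← hy']; group]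
        refine mul_mem (inv_mem (pow_mem ?_ _)) ?_ <;> exact Subgroup.subset_closure (by simp)
  · rw [reframe_apply, ← hσ, ← hp]; congr 1; group

theorem exists_exp_of_mem {φ : M →* G} {D : Subgroup G} (hD : D = closure {φ mz, φ mw})
    {x : G} (hx : x ∈ D) : ∃ a b : Fin 3, φ (mz ^ a.val * mw ^ b.val) = x := by
  rw [hD] at hx
  have hmul : ∀ a b c d : Fin 3, mz ^ a.val * mw ^ b.val * (mz ^ c.val * mw ^ d.val) =
      mz ^ (a + c).val * mw ^ (b + d).val := by decide +kernel
  have hinv : ∀ a b : Fin 3, (mz ^ a.val * mw ^ b.val)⁻¹ = mz ^ (-a).val * mw ^ (-b).val := by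
    decide +kernel
  induction hx using closure_induction with
  | mem y hy =>
    rcases hy with rfl | rfl
    · exact ⟨1, 0, by simp⟩
    · exact ⟨0, 1, by simp⟩
  | one => exact ⟨0, 0, by simp⟩
  | mul x y _ _ hx hy =>
    obtain ⟨a, b, rfl⟩ := hx
    obtain ⟨c, d, rfl⟩ := hy
    exact ⟨a + c, b + d, by rw [← map_mul φ, hmul]⟩
  | inv x _ hx =>
    obtain ⟨a, b, rfl⟩ := hx
    exact ⟨-a, -b, by rw [← map_inv φ, hinv]⟩

/-- The element `w` is conjugate to `z` up to inversion. -/
theorem exists_swap [Finite G] (D : Subgroup G) (φ : M →* G) (hinj : Function.Injective φ)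
    (hrange : φ.range = normalizer (zpowers (φ mz) : Set G)) (hD : D = closure {φ mz, φ mw})
    (hN : Nat.card (normalizer (D : Set G)) = 144) :
    ∃ n : G, n * φ mz * n⁻¹ = φ mw ∨ n * φ mz * n⁻¹ = (φ mw)⁻¹ := by
  classical
  set ND := normalizer (D : Set G) with hND
  set K := φ.range.subgroupOf ND with hK
  have hmwD : φ mw ∈ D := hD ▸ Subgroup.subset_closure (Or.inr rfl)
  have hmzD : φ mz ∈ D := hD ▸ Subgroup.subset_closure (Or.inl rfl)
  have hfix : ∀ c : M, (c * mz * c⁻¹ = mz ∨ c * mz * c⁻¹ = mz⁻¹) →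
      (c * mw * c⁻¹ = mw ∨ c * mw * c⁻¹ = mw⁻¹) → φ c ∈ ND := by
    intro c hcz hcw
    refine mem_normalizer_fintype ?_
    intro d hd
    have hle : D ≤ D.comap (MulAut.conj (φ c)).toMonoidHom := by
      conv_lhs => rw [hD]
      rw [closure_le]
      rintro x (rfl | rfl)
      · show φ c * φ mz * (φ c)⁻¹ ∈ D
        rw [← map_inv, ← map_mul, ← map_mul]
        rcases hcz with e | e <;> rw [e]
        · exact hmzD
        · rw [map_inv]; exact inv_mem hmzD
      · show φ c * φ mw * (φ c)⁻¹ ∈ D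
        rw [← map_inv, ← map_mul, ← map_mul]
        rcases hcw with e | e <;> rw [e]
        · exact hmwD
        · rw [map_inv]; exact inv_mem hmwD
    exact hle hd
  have hconjz : ∀ c : M, c * mz * c⁻¹ = mz ∨ c * mz * c⁻¹ = mz⁻¹ := by decide +kernel
  have hcardK : Nat.card K = 72 := by
    rw [← card_norm_w, ← Nat.card_eq_fintype_card]
    refine Nat.card_congr (Equiv.ofBijective
      (fun p : {p : M // p * mw * p⁻¹ = mw ∨ p * mw * p⁻¹ = mw⁻¹} =>
        (⟨⟨φ p.1, hfix p.1 (hconjz p.1) p.2⟩, by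
          rw [hK, mem_subgroupOf]; exact ⟨p.1, rfl⟩⟩ : K)) ⟨?_, ?_⟩).symm
    · intro p q e
      exact Subtype.ext (hinj (congrArg (fun x : K => ((x : ND) : G)) e))
    · rintro ⟨⟨x, hxN⟩, hx⟩
      obtain ⟨p, rfl⟩ := mem_subgroupOf.mp hx
      refine ⟨⟨p, norm_w_of_mem p ?_⟩, rfl⟩
      obtain ⟨a, b, hab⟩ := exists_exp_of_mem hD ((mem_normalizer_iff.mp hxN _).mp hmwD)
      refine ⟨a, b, hinj ?_⟩
      rw [hab, map_mul, map_mul, map_inv]
  have hidx : K.index = 2 := by
    have := K.card_mul_index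
    rw [hcardK, hN] at this
    omega
  haveI := normal_of_index_eq_two hidx
  obtain ⟨n, hn⟩ : ∃ n : ND, n ∉ K := by
    by_contra! h
    rw [(eq_top_iff' K).mpr h, index_top] at hidx
    norm_num at hidx
  refine ⟨(n : G), ?_⟩
  obtain ⟨a, b, hab⟩ := exists_exp_of_mem hD ((mem_normalizer_iff.mp n.2 _).mp hmzD)
  have hb : ¬ b.val = 0 := by
    intro hb
    apply hn
    rw [hb, pow_zero, mul_one, map_pow] at hab
    refine mem_subgroupOf.mpr ?_
    rw [hrange]
    refine mem_normalizer_fintype ?_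
    intro x hx
    obtain ⟨k, rfl⟩ := mem_zpowers_iff.mp hx
    rw [← conj_zpow, ← hab]
    exact zpow_mem (pow_mem (mem_zpowers _) _) _
  have hiND : φ mi ∈ ND := hfix mi (hconjz mi) (Or.inl (by decide))
  have hmem : n⁻¹ * ⟨φ mi, hiND⟩ * n⁻¹⁻¹ ∈ K :=
    Subgroup.Normal.conj_mem inferInstance (⟨φ mi, hiND⟩ : ND)
      (by rw [hK, mem_subgroupOf]; exact ⟨mi, rfl⟩) _
  obtain ⟨p, hp⟩ := mem_subgroupOf.mp hmem
  have hline : mi * (mz ^ a.val * mw ^ b.val) * mi⁻¹ = mz ^ a.val * mw ^ b.val ∨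
      mi * (mz ^ a.val * mw ^ b.val) * mi⁻¹ = (mz ^ a.val * mw ^ b.val)⁻¹ := by
    have hp' : φ mi * (n : G) = (n : G) * φ p := by
      rw [hp]; simp [mul_assoc]
    have e : φ mi * ((n : G) * φ mz * (n : G)⁻¹) * (φ mi)⁻¹ =
        (n : G) * φ (p * mz * p⁻¹) * (n : G)⁻¹ := by
      rw [map_mul, map_mul, map_inv]
      calc φ mi * ((n : G) * φ mz * (n : G)⁻¹) * (φ mi)⁻¹
          = (φ mi * n) * φ mz * (φ mi * n)⁻¹ := by group
        _ = _ := by rw [hp']; group
    rcases hconjz p with h | h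
    · left; refine hinj ?_
      rw [map_mul, map_mul, map_inv, hab, e, h]
    · right; refine hinj ?_
      rw [map_inv, map_mul, map_mul, map_inv, hab, e, h, map_inv]; group
  rcases mi_line a b hb hline with e | e
  · left; rw [← hab, e]
  · right; rw [← hab, e, map_inv]

/-- The data exists. -/
theorem exists_datum [Finite G]
    (P : Sylow 3 G) (D : Subgroup G) (hDP : D = P) (y z : G) (hgen : closure {y, z} = D)
    (hcomm : IsMulCommutative D) (hcard : Nat.card D = 9) (hexp : ∀ a ∈ D, a ^ 3 = 1)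
    (hC : Nat.card (centralizer (D : Set G)) = 18)
    (hN : Nat.card (normalizer (D : Set G)) = 144)
    (hdih : ∃ f : normalizer (D : Set G) →* DihedralGroup 4, Function.Surjective f ∧
      f.ker = (centralizer (D : Set G)).subgroupOf (normalizer (D : Set G)))
    (hyn : (D.subgroupOf (centralizer ({y} : Set G))).Normal)
    (hycard : Nat.card (centralizer ({y} : Set G)) = 36)
    (hysq : ∀ g ∈ centralizer ({y} : Set G), g ^ 2 ∈ D)
    (hz1 : z ≠ 1) (eL : normalizer (zpowers z : Set G) ≃* M) :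
    ∃ L : Datum G, L.D = D ∧ L.z = z := by
  classical
  haveI : Fact (Nat.Prime 3) := ⟨Nat.prime_three⟩
  have hDc : ∀ a ∈ D, ∀ b ∈ D, a * b = b * a := fun a ha b hb =>
    congrArg Subtype.val (hcomm.is_comm.comm ⟨a, ha⟩ ⟨b, hb⟩)
  obtain ⟨φ₁, hinj₁, hrange₁, hφz₁, hD₁, a, ha⟩ := exists_frame D y z hgen hcard hDc hexp hz1 eL
  rw [← hφz₁] at hrange₁
  obtain ⟨n, hn⟩ := exists_swap D φ₁ hinj₁ hrange₁ hD₁ hN
  have h5 : ∀ φ : M →* G, Function.Injective φ →
      5 ∣ Nat.card (centralizer ({φ mz} : Set G)) := by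
    intro φ hinj
    obtain ⟨p, hp, h5, hp1⟩ := exists_order_five
    have ho : orderOf (φ p) = 5 := by
      rw [orderOf_injective φ hinj]
      exact orderOf_eq_prime (hp := ⟨by norm_num⟩) h5 hp1
    have hd := orderOf_dvd_natCard (centralizer ({φ mz} : Set G)) (x := φ p)
      (mem_centralizer_singleton_iff.mpr (by rw [← map_mul, hp, map_mul]))
    rwa [ho] at hd
  have ha0 : ¬ a.val = 0 := by
    intro e
    rw [e, pow_zero, one_mul] at ha
    have hw5 : 5 ∣ Nat.card (centralizer ({φ₁ mw} : Set G)) := by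
      rcases hn with hn | hn
      · rw [← hn, card_cent_conj]; exact h5 φ₁ hinj₁
      · rw [← cent_inv, ← hn, card_cent_conj]; exact h5 φ₁ hinj₁
    rw [ha, hycard] at hw5
    norm_num at hw5
  -- arrange `z * w` on the line of `y`
  obtain ⟨φ, hinj, hrange, hφz, hD, hy⟩ : ∃ φ : M →* G, Function.Injective φ ∧
      φ.range = normalizer (zpowers (φ mz) : Set G) ∧ φ mz = z ∧ D = closure {φ mz, φ mw} ∧
      centralizer ({φ mz * φ mw} : Set G) = centralizer ({y} : Set G) := by
    rcases (show a.val = 1 ∨ a.val = 2 by omega) with e | e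
    · exact ⟨φ₁, hinj₁, hrange₁, hφz₁, hD₁, by rw [← ha, e, pow_one, map_mul]⟩
    · obtain ⟨h1, h2⟩ := flip_w
      refine ⟨reframe φ₁ (1, swap 0 1), reframe_inj hinj₁ _, ?_, ?_, ?_, ?_⟩
      · rw [reframe_range, reframe_apply, h1, hrange₁]
      · rw [reframe_apply, h1, hφz₁]
      · rw [reframe_apply, reframe_apply, h1, h2, map_inv, hD₁]
        refine le_antisymm ((closure_le _).mpr ?_) ((closure_le _).mpr ?_)
        · rintro x (rfl | rfl)
          · exact Subgroup.subset_closure (Or.inl rfl)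
          · exact inv_mem_iff.mp (Subgroup.subset_closure (Or.inr rfl))
        · rintro x (rfl | rfl)
          · exact Subgroup.subset_closure (Or.inl rfl)
          · exact inv_mem (Subgroup.subset_closure (Or.inr rfl))
      · rw [reframe_apply, reframe_apply, h1, h2, ← map_mul, ← cent_inv, ← map_inv, ← ha, e]
        congr 3
        decide
  set w := φ mw with hw
  have hzD : φ mz ∈ D := hD ▸ Subgroup.subset_closure (Or.inl rfl)
  have hwD : w ∈ D := hD ▸ Subgroup.subset_closure (Or.inr rfl)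
  have hyD : φ mz * w ∈ D := mul_mem hzD hwD
  have hDy : D ≤ centralizer ({φ mz * w} : Set G) := fun d hd =>
    mem_centralizer_singleton_iff.mpr (hDc d hd _ hyD)
  have hzw : centralizer ({φ mz * w} : Set G) ≤ normalizer (D : Set G) := by
    rw [hy] at hDy ⊢
    intro g hg
    refine mem_normalizer_fintype ?_
    intro d hd
    have := hyn.conj_mem ⟨d, hDy hd⟩ (mem_subgroupOf.mpr hd) ⟨g, hg⟩
    exact mem_subgroupOf.mp this
  have hiw : φ mi * (φ mz * w) * (φ mi)⁻¹ = (φ mz * w⁻¹)⁻¹ := by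
    rw [hw, ← map_inv, ← map_mul, ← map_mul, ← map_mul, mi_conj_zw, map_inv, map_mul, map_inv]
  have hiN : φ mi ∈ normalizer (D : Set G) := by
    refine mem_normalizer_fintype ?_
    intro d hd
    obtain ⟨b, c, rfl⟩ := exists_exp_of_mem hD hd
    have e' : ∀ b c : Fin 3,
        mi * (mz ^ b.val * mw ^ c.val) * mi⁻¹ = mz⁻¹ ^ b.val * mw ^ c.val := by decide +kernel
    have e := e' b c
    rw [SetLike.mem_coe, ← map_inv, ← map_mul, ← map_mul, e, map_mul, map_pow, map_pow, map_inv]
    exact mul_mem (pow_mem (inv_mem hzD) _) (pow_mem hwD _)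
  have hzw' : centralizer ({φ mz * w⁻¹} : Set G) ≤ normalizer (D : Set G) := by
    intro x hx
    rw [← cent_inv, ← hiw, mem_centralizer_singleton_iff] at hx
    have hx' : (φ mi)⁻¹ * x * φ mi ∈ normalizer (D : Set G) := hzw (mem_centralizer_singleton_iff.mpr (by
      calc (φ mi)⁻¹ * x * φ mi * (φ mz * w)
          = (φ mi)⁻¹ * (x * (φ mi * (φ mz * w) * (φ mi)⁻¹)) * φ mi := by group
        _ = _ := by rw [hx]; group))
    have := mul_mem (mul_mem hiN hx') (inv_mem hiN)
    simpa [mul_assoc] using this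
  have hcard' : Nat.card (centralizer ({φ mz * w⁻¹} : Set G)) = 36 := by
    rw [← cent_inv, ← hiw, card_cent_conj, hy, hycard]
  -- an element interchanging the axes
  obtain ⟨g, hg, hgD⟩ : ∃ g ∈ centralizer ({φ mz * w} : Set G), g ∉ centralizer (D : Set G) := by
    by_contra! h
    have := card_dvd_of_le h
    rw [hy, hycard, hC] at this
    norm_num at this
  have hgN := hzw hg
  have hsmall : ∀ d ∈ D, 5 ∣ Nat.card (centralizer ({d} : Set G)) →
      ∃ x ∈ axesList, φ x = d ∨ d = 1 := by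
    intro d hd h5d
    obtain ⟨b, c, rfl⟩ := exists_exp_of_mem hD hd
    rcases D_elements b c with e | e | e | e | e | e | e | e | e
    · exact ⟨mz, by simp [axesList], Or.inr (by rw [e, map_one])⟩
    · exact ⟨mz, by simp [axesList], Or.inl (by rw [e])⟩
    · exact ⟨mz⁻¹, by simp [axesList], Or.inl (by rw [e])⟩
    · exact ⟨mw, by simp [axesList], Or.inl (by rw [e])⟩
    · exact ⟨mw⁻¹, by simp [axesList], Or.inl (by rw [e])⟩
    all_goals
      exfalso
      rw [e] at h5d
      simp only [map_inv, map_mul, cent_inv] at h5d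
      first
        | (rw [hy, hycard] at h5d; norm_num at h5d)
        | (rw [hcard'] at h5d; norm_num at h5d)
  have hz5 : 5 ∣ Nat.card (centralizer ({φ mz} : Set G)) := h5 φ hinj
  have hw5 : 5 ∣ Nat.card (centralizer ({w} : Set G)) := by
    obtain ⟨m, hm⟩ := exists_swap D φ hinj hrange hD hN
    show 5 ∣ Nat.card (centralizer ({φ mw} : Set G))
    rcases hm with hm | hm
    · rw [← hm, card_cent_conj]; exact hz5
    · rw [← cent_inv, ← hm, card_cent_conj]; exact hz5
  obtain ⟨x₁, hx₁, e₁⟩ := hsmall _ ((mem_normalizer_iff.mp hgN _).mp hzD)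
    (by rw [card_cent_conj]; exact hz5)
  obtain ⟨x₂, hx₂, e₂⟩ := hsmall _ ((mem_normalizer_iff.mp hgN _).mp hwD)
    (by rw [card_cent_conj]; exact hw5)
  have e₁' : φ x₁ = g * φ mz * g⁻¹ := e₁.resolve_right (fun e => by
    rw [conj_eq_one_iff] at e
    exact mz_ne (hinj (by rw [e, map_one])))
  have e₂' : φ x₂ = g * w * g⁻¹ := e₂.resolve_right (fun e => by
    rw [conj_eq_one_iff] at e
    exact mw_ne (hinj (by rw [← hw, e, map_one])))
  have hgy : g * (φ mz * w) * g⁻¹ = φ mz * w := by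
    rw [mem_centralizer_singleton_iff.mp hg, mul_inv_cancel_right]
  have hprod : x₁ * x₂ = mz * mw := hinj (by
    rw [map_mul, map_mul, e₁', e₂', ← hw]
    conv_rhs => rw [← hgy]
    group)
  have hswap : g * φ mz * g⁻¹ = w ∧ g * w * g⁻¹ = φ mz := by
    rcases axes_product x₁ hx₁ x₂ hx₂ hprod with ⟨rfl, rfl⟩ | ⟨rfl, rfl⟩
    · exfalso
      apply hgD
      rw [hD, centralizer_closure, mem_centralizer_iff]
      rintro d (rfl | rfl)
      · exact (mul_inv_eq_iff_eq_mul.mp e₁'.symm).symm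
      · exact (mul_inv_eq_iff_eq_mul.mp e₂'.symm).symm
    · exact ⟨e₁'.symm, e₂'.symm⟩
  have hg2 : g ^ 2 ∈ D := hysq g (hy ▸ hg)
  set t := g ^ 3 with ht
  have htt : t * t = 1 := by rw [ht, ← pow_add, show 3 + 3 = 2 * 3 from rfl, pow_mul, hexp _ hg2]
  have hti : t⁻¹ = t := inv_eq_of_mul_eq_one_right htt
  have htz : t * φ mz * t = w := by
    conv_lhs => arg 2; rw [← hti]
    have e : t = g * g ^ 2 := by rw [ht, ← pow_succ']
    rw [e]
    calc g * g ^ 2 * φ mz * (g * g ^ 2)⁻¹ = g * (g ^ 2 * φ mz) * (g ^ 2)⁻¹ * g⁻¹ := by group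
      _ = g * (φ mz * g ^ 2) * (g ^ 2)⁻¹ * g⁻¹ := by rw [hDc _ hg2 _ hzD]
      _ = g * φ mz * g⁻¹ := by group
      _ = w := hswap.1
  have htw : t * w * t = φ mz := by
    rw [← htz]
    calc t * (t * φ mz * t) * t = (t * t) * φ mz * (t * t) := by simp only [mul_assoc]
      _ = _ := by rw [htt]; simp
  have htmul : ∀ u v : G, t * u * t * (t * v * t) = t * (u * v) * t := fun u v => by
    calc t * u * t * (t * v * t) = t * u * (t * t) * v * t := by simp only [mul_assoc]
      _ = _ := by rw [htt]; simp only [mul_one, mul_assoc]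
  have hcomm' : ∀ u v : G, u * v = v * u → t * u * t * (t * v * t) = t * v * t * (t * u * t) := by
    intro u v e
    rw [htmul, htmul, e]
  have hrz : φ mr * φ mz = φ mz * φ mr := by rw [← map_mul, ← map_mul, mz_mr]
  have hrw : φ mr * w = w * φ mr := by rw [hw, ← map_mul, ← map_mul, mw_mr]
  have htr : t * φ mr * t = φ mr := by
    have h1 : t * φ mr * t * φ mz = φ mz * (t * φ mr * t) := by rw [← htw]; exact hcomm' _ _ hrw
    have h2 : t * φ mr * t * w = w * (t * φ mr * t) := by rw [← htz]; exact hcomm' _ _ hrz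
    have hN' : t * φ mr * t ∈ φ.range := by
      rw [hrange]
      refine centralizer_le_normalizer _ (mem_centralizer_iff.mpr ?_)
      intro u hu
      obtain ⟨k, rfl⟩ := mem_zpowers_iff.mp hu
      exact ((show Commute (t * φ mr * t) (φ mz) from h1).zpow_right k).symm.eq
    obtain ⟨p, hp⟩ := hN'
    have hp1 : p * mz = mz * p := hinj (by rw [map_mul, map_mul, hp, h1])
    have hp2 : p * mw = mw * p := hinj (by rw [map_mul, map_mul, hp, ← hw, h2])
    have hp3 : p * p = 1 := hinj (by rw [map_mul, hp, htmul, ← map_mul, mr_sq, map_one, mul_one, htt])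
    rcases cent_D_invol p hp1 hp2 hp3 with rfl | rfl
    · exfalso
      rw [map_one] at hp
      refine mr_ne (hinj ?_)
      calc φ mr = (t * t) * φ mr * (t * t) := by rw [htt]; simp
        _ = t * (t * φ mr * t) * t := by simp only [mul_assoc]
        _ = φ 1 := by rw [← hp, map_one, mul_one, htt]
    · exact hp.symm
  -- the parity
  have hji : ∃ k : Fin 3, t * φ mi * t = φ (mw ^ k.val * mjOdd * (mw ^ k.val)⁻¹) ∨
      t * φ mi * t = φ (mw ^ k.val * mjEven * (mw ^ k.val)⁻¹) := by
    have hiz : φ mi * φ mz = (φ mz)⁻¹ * φ mi := by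
      rw [← map_inv, ← map_mul, ← map_mul, show mi * mz = mz⁻¹ * mi by decide]
    have hiw' : φ mi * w = w * φ mi := by rw [hw, ← map_mul, ← map_mul, mi_mw]
    have h1 : t * φ mi * t * φ mz = φ mz * (t * φ mi * t) := by rw [← htw]; exact hcomm' _ _ hiw'
    have h2 : t * φ mi * t * φ mr = φ mr * (t * φ mi * t) := by
      conv_lhs => arg 2; rw [← htr]
      conv_rhs => arg 1; rw [← htr]
      exact hcomm' _ _ (by rw [← map_mul, ← map_mul, mi_mr])
    have h3 : t * φ mi * t * w * (t * φ mi * t)⁻¹ = w⁻¹ := by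
      rw [mul_inv_eq_iff_eq_mul, ← htz,
        show (t * φ mz * t)⁻¹ = t * (φ mz)⁻¹ * t by rw [_root_.mul_inv_rev, _root_.mul_inv_rev, hti, mul_assoc],
        htmul, htmul, hiz]
    have hN' : t * φ mi * t ∈ φ.range := by
      rw [hrange]
      refine centralizer_le_normalizer _ (mem_centralizer_iff.mpr ?_)
      intro u hu
      obtain ⟨k, rfl⟩ := mem_zpowers_iff.mp hu
      exact ((show Commute (t * φ mi * t) (φ mz) from h1).zpow_right k).symm.eq
    obtain ⟨p, hp⟩ := hN'
    obtain ⟨k, hk⟩ := parity_cases p (hinj (by rw [map_mul, map_mul, hp, h1]))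
      (hinj (by rw [map_mul, map_mul, hp, h2]))
      (hinj (by rw [map_mul, hp, htmul, ← map_mul, mi_sq, map_one, mul_one, htt]))
      (hinj (by rw [map_mul, map_mul, map_inv, hp, ← hw, h3, hw, map_inv]))
    refine ⟨k, hk.imp (fun e => ?_) (fun e => ?_)⟩ <;> rw [← hp, e]
  obtain ⟨k, hk⟩ := hji
  obtain ⟨f1, f2, f3, f4⟩ := mw_pow_fix k
  have hidx : ¬ 3 ∣ D.index := by rw [hDP]; exact P.not_dvd_index
  refine ⟨{
    D := D
    φ := reframe φ (mw ^ k.val)
    t := t
    φ_inj := reframe_inj hinj _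
    φ_range := by rw [reframe_range, reframe_apply, f1, hrange]
    t_sq := htt
    tz := by rw [reframe_apply, reframe_apply, f1, f2]; exact htz
    tr := by rw [reframe_apply, f3]; exact htr
    D_eq := by rw [reframe_apply, reframe_apply, f1, f2]; exact hD
    card_D := hcard
    not_dvd := hidx
    sylow := ?_
    card_cent_D := hC
    card_norm_D := hN
    card_zw := by rw [reframe_apply, reframe_apply, f1, f2, ← hw, hy, hycard]
    card_zw' := by rw [reframe_apply, reframe_apply, f1, f2]; exact hcard'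
    zw_le := by rw [reframe_apply, reframe_apply, f1, f2]; exact hzw
    zw'_le := by rw [reframe_apply, reframe_apply, f1, f2]; exact hzw'
    dih := hdih
    parity := by rw [reframe_apply, reframe_apply, reframe_apply, f4]; exact hk }, rfl, ?_⟩
  · intro x hx
    have hp : IsPGroup 3 (zpowers x) := by
      refine IsPGroup.of_card_dvd_pow (n := 1) ?_
      rw [Nat.card_zpowers, pow_one]
      exact orderOf_dvd_of_pow_eq_one hx
    obtain ⟨Q, hQ⟩ := hp.exists_le_sylow
    obtain ⟨c, hc⟩ := MulAction.exists_smul_eq G Q P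
    refine ⟨c, ?_⟩
    rw [hDP, ← hc, Sylow.coe_subgroup_smul, Subgroup.mem_pointwise_smul_iff_inv_smul_mem]
    simpa [MulAut.smul_def, mul_assoc] using hQ (mem_zpowers x)
  · show reframe φ (mw ^ k.val) mz = z
    rw [reframe_apply, f1, hφz]

end CfsgLib.SymEightThreeLocal
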