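import Cfsg.Agent.Lib.SymEightThreeLocal.Model

/-!
Finite facts used to set up the 3-local data.
-/

set_option autoImplicit false
set_option maxRecDepth 100000
set_option synthInstance.maxSize 2000
set_option synthInstance.maxHeartbeats 200000

namespace CfsgLib.SymEightThreeLocal

open Equiv

/-- Generators of the model. -/
def mgens : List M := [(swap 0 1, 1), mz, (1, swap 0 1), (1, swap 1 2), (1, swap 2 3), (1, swap 3 4)]

theorem mz_unique : ∀ p : M, p ^ 3 = 1 → p ≠ 1 →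
    (∀ g ∈ mgens, g * p * g⁻¹ = p ∨ g * p * g⁻¹ = p⁻¹) → p = mz ∨ p = mz⁻¹ := by decide +kernel

theorem mi_conj_mz_inv : mi * mz⁻¹ * mi⁻¹ = mz := by decide
theorem mi_conj_mz : mi * mz * mi⁻¹ = mz⁻¹ := by decide

theorem normalise_w : ∀ p : M, p * mz = mz * p → p ^ 3 = 1 → p ≠ 1 → p ≠ mz → p ≠ mz⁻¹ →
    ∃ σ : Perm (Fin 5), ∃ a : Fin 3, ((1, σ) : M) * p * ((1, σ) : M)⁻¹ = mz ^ a.val * mw := by
  decide +kernel

theorem one_conj_mz : ∀ σ : Perm (Fin 5), ((1, σ) : M) * mz * ((1, σ) : M)⁻¹ = mz := by decide +kernel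

theorem norm_w_of_mem : ∀ p : M, (∃ a b : Fin 3, p * mw * p⁻¹ = mz ^ a.val * mw ^ b.val) →
    p * mw * p⁻¹ = mw ∨ p * mw * p⁻¹ = mw⁻¹ := by decide +kernel

theorem card_norm_w :
    Fintype.card {p : M // p * mw * p⁻¹ = mw ∨ p * mw * p⁻¹ = mw⁻¹} = 72 := by decide +kernel

theorem mi_line : ∀ a b : Fin 3, ¬ b.val = 0 →
    (mi * (mz ^ a.val * mw ^ b.val) * mi⁻¹ = mz ^ a.val * mw ^ b.val ∨
      mi * (mz ^ a.val * mw ^ b.val) * mi⁻¹ = (mz ^ a.val * mw ^ b.val)⁻¹) →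
    mz ^ a.val * mw ^ b.val = mw ∨ mz ^ a.val * mw ^ b.val = mw⁻¹ := by decide +kernel

theorem D_elements : ∀ a b : Fin 3,
    mz ^ a.val * mw ^ b.val = 1 ∨ mz ^ a.val * mw ^ b.val = mz ∨ mz ^ a.val * mw ^ b.val = mz⁻¹ ∨
    mz ^ a.val * mw ^ b.val = mw ∨ mz ^ a.val * mw ^ b.val = mw⁻¹ ∨
    mz ^ a.val * mw ^ b.val = mz * mw ∨ mz ^ a.val * mw ^ b.val = (mz * mw)⁻¹ ∨
    mz ^ a.val * mw ^ b.val = mz * mw⁻¹ ∨ mz ^ a.val * mw ^ b.val = (mz * mw⁻¹)⁻¹ := by decide +kernel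

/-- The four elements of the two axes. -/
def axesList : List M := [mz, mz⁻¹, mw, mw⁻¹]

theorem axes_product : ∀ x ∈ axesList, ∀ y ∈ axesList, x * y = mz * mw →
    (x = mz ∧ y = mw) ∨ (x = mw ∧ y = mz) := by decide +kernel

theorem mi_conj_zw : mi * (mz * mw) * mi⁻¹ = (mz * mw⁻¹)⁻¹ := by decide

theorem flip_w : ((1, swap 0 1) : M) * mz * ((1, swap 0 1) : M)⁻¹ = mz ∧
    ((1, swap 0 1) : M) * mw * ((1, swap 0 1) : M)⁻¹ = mw⁻¹ := by decide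

theorem parity_cases : ∀ p : M, p * mz = mz * p → p * mr = mr * p → p * p = 1 →
    p * mw * p⁻¹ = mw⁻¹ → ∃ k : Fin 3, p = mw ^ k.val * mjOdd * (mw ^ k.val)⁻¹ ∨
      p = mw ^ k.val * mjEven * (mw ^ k.val)⁻¹ := by decide +kernel

theorem mw_pow_fix : ∀ k : Fin 3, mw ^ k.val * mz * (mw ^ k.val)⁻¹ = mz ∧
    mw ^ k.val * mw * (mw ^ k.val)⁻¹ = mw ∧ mw ^ k.val * mr * (mw ^ k.val)⁻¹ = mr ∧
    mw ^ k.val * mi * (mw ^ k.val)⁻¹ = mi := by decide +kernel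

end CfsgLib.SymEightThreeLocal
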