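import Cfsg.Agent.Lib.SymEightThreeLocal.Defs

/-!
Finite facts about the model `Perm (Fin 3) × Perm (Fin 5)`.
-/

set_option autoImplicit false
set_option maxRecDepth 100000
set_option synthInstance.maxSize 2000
set_option synthInstance.maxHeartbeats 200000

namespace CfsgLib.SymEightThreeLocal

open Equiv

theorem mz_mw : mz * mw = mw * mz := by decide
theorem mz_cube : mz ^ 3 = 1 := by decide
theorem mw_cube : mw ^ 3 = 1 := by decide
theorem mr_sq : mr * mr = 1 := by decide
theorem mr_ne : mr ≠ 1 := by decide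
theorem mz_ne : mz ≠ 1 := by decide
theorem mw_ne : mw ≠ 1 := by decide
theorem mi_sq : mi * mi = 1 := by decide
theorem ms_sq : ms * ms = 1 := by decide
theorem mz_mr : mz * mr = mr * mz := by decide
theorem mw_mr : mw * mr = mr * mw := by decide

theorem cent_D_cases : ∀ p : M, p * mz = mz * p → p * mw = mw * p →
    ∃ a b : Fin 3, p = mz ^ a.val * mw ^ b.val ∨ p = mz ^ a.val * mw ^ b.val * mr := by decide +kernel

theorem cent_D_invol : ∀ p : M, p * mz = mz * p → p * mw = mw * p → p * p = 1 → p = 1 ∨ p = mr := by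
  decide +kernel

theorem cent_z_r : ∀ p : M, p * mz = mz * p → p * mr = mr * p →
    p * mw * p⁻¹ = mw ∨ p * mw * p⁻¹ = mw⁻¹ := by decide +kernel

theorem cent_z_invol : ∀ p : M, p * mz = mz * p → p * p = 1 → p ≠ 1 →
    (∃ a b : Fin 5, a ≠ b ∧ p = (1, swap a b)) ∨
      ∃ σ : Perm (Fin 5), p = (1, σ) * mjEven * (1, σ)⁻¹ := by decide +kernel

theorem transposition_conj : ∀ a b : Fin 5, a ≠ b →
    ∃ σ : Perm (Fin 5), ((1, σ) : M) * mr * ((1, σ) : M)⁻¹ = (1, swap a b) := by decide +kernel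

theorem cent_double_cube : ∀ p : M, p * mz = mz * p → p * mjEven = mjEven * p → p ^ 3 = 1 →
    p = 1 ∨ p = mz ∨ p = mz⁻¹ := by decide +kernel

theorem exists_order_five : ∃ p : M, p * mz = mz * p ∧ p ^ 5 = 1 ∧ p ≠ 1 := by decide +kernel

theorem mi_mz : mi * mz * mi = mz⁻¹ := by decide
theorem mi_mw : mi * mw = mw * mi := by decide
theorem mi_mr : mi * mr = mr * mi := by decide

end CfsgLib.SymEightThreeLocal
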